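import Mathlib
import Groth.Agent.PtBlowLib.Surj
import Groth.Agent.BlowRegLib.RegLocal
import Groth.Agent.BlowUpLib.Props

/-! Powers of a principalized ideal on a modification without first cohomology. -/

set_option autoImplicit false
set_option linter.style.haveILetI false
set_option linter.unusedSectionVars false
set_option backward.isDefEq.respectTransparency false
set_option backward.isDefEq.respectTransparency.types false
universe u

open CategoryTheory CategoryTheory.Limits AlgebraicGeometry TopologicalSpace Opposite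
open LichtLib (ideFn)

namespace RatModLib

variable {X : Scheme.{u}}

/-- The restriction of a global function. -/
noncomputable abbrev gr (W : X.Opens) (z : Γ(X, ⊤)) : Γ(X, W) := X.presheaf.map (homOfLE (le_top : W ≤ ⊤)).op z

/-- A global function lying in an ideal. -/
def In (J : X.IdealSheafData) (z : Γ(X, ⊤)) : Prop := ∀ W : X.affineOpens, gr W.1 z ∈ J.ideal W

theorem ideFn_mem (J : X.IdealSheafData) (W : X.affineOpens) (w : Γ(ClSub.idealMod J, W.1)) :
    ideFn J w ∈ J.ideal W := GenFlatStrat.idealModι_mem J W w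

theorem In.exists_section {J : X.IdealSheafData} {z : Γ(X, ⊤)} (h : In J z) :
    ∃ t : Γ(ClSub.idealMod J, ⊤), ideFn J t = z :=
  LichtLib.exists_ideFn J ⊤ z fun T _ => h T

theorem in_of_section {J : X.IdealSheafData} (t : Γ(ClSub.idealMod J, ⊤)) : In J (ideFn J t) := fun W => by
  have h := ideFn_mem J W (AmpleLib.res _ (le_top : W.1 ≤ ⊤) t)
  rwa [LichtLib.ideFn_res] at h

/-- Multiplication by a global function in an ideal. -/
theorem exists_mulMap (I J : X.IdealSheafData) (c : Γ(X, ⊤)) (hc : In I c) :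
    ∃ m : ClSub.idealMod J ⟶ ClSub.idealMod (I * J),
      ∀ (O : X.Opens) (w : Γ(ClSub.idealMod J, O)), ideFn (I * J) (m.app O w) = ideFn J w * gr O c := by
  haveI := SweepSix.ConormalSpec.isQCoh_idealMod J
  let φ : ClSub.idealMod J ⟶ Coh.structureModule X := ClSub.idealModι J ≫ QCohLib.unitHom (Coh.structureModule X) c
  have h0 : φ ≫ ClSub.toSubscheme (I * J) = 0 := by
    refine MiscFlat6.eq_zero_of_affine_cover (fun W : X.affineOpens => W.1) (fun W => W.2) (fun y => by
      obtain ⟨W, hW, hy, -⟩ := exists_isAffineOpen_mem_and_subset (x := y) (U := (⊤ : X.Opens)) trivial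
      exact ⟨⟨W, hW⟩, hy⟩) _ _ fun W w => ?_
    show (ClSub.toSubscheme (I * J)).app W.1 ((QCohLib.unitHom (Coh.structureModule X) c).app W.1 (ideFn J w)) = 0
    refine (GenFlatStrat.subschemeι_app_eq_zero_iff (I * J) W _).mpr ?_
    show ideFn J w * gr W.1 c ∈ (I * J).ideal W
    rw [mul_comm (ideFn J w), Scheme.IdealSheafData.ideal_mul, Pi.mul_apply]
    exact Ideal.mul_mem_mul (hc W) (ideFn_mem J W w)
  refine ⟨kernel.lift _ φ h0, fun O w => ?_⟩
  have e := congrArg (fun ψ : ClSub.idealMod J ⟶ Coh.structureModule X => ψ.app O w) (kernel.lift_ι _ φ h0)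
  exact e

theorem ideal_pow_eq (I : X.IdealSheafData) (n : ℕ) (W : X.affineOpens) : (I ^ n).ideal W = I.ideal W ^ n := by
  induction n with
  | zero => rw [pow_zero, pow_zero, Scheme.IdealSheafData.one_eq_top, Scheme.IdealSheafData.ideal_top, Pi.top_apply, Ideal.one_eq_top]
  | succ n ih => rw [pow_succ, pow_succ, Scheme.IdealSheafData.ideal_mul, Pi.mul_apply, ih]

theorem In.pow {I : X.IdealSheafData} {z : Γ(X, ⊤)} (h : In I z) (n : ℕ) : In (I ^ n) (z ^ n) := fun W => by
  rw [gr, map_pow, ideal_pow_eq]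
  exact Ideal.pow_mem_pow (h W) n

theorem In.mul {I J : X.IdealSheafData} {z w : Γ(X, ⊤)} (h : In I z) (h' : In J w) : In (I * J) (z * w) := fun W => by
  rw [gr, map_mul, Scheme.IdealSheafData.ideal_mul, Pi.mul_apply]
  exact Ideal.mul_mem_mul (h W) (h' W)

theorem subsingleton_of_generated [CompactSpace X] [X.IsSeparated] (h1 : Subsingleton (Coh.HH X (Coh.structureModule X) 1))
    (h2 : ∀ G : X.Modules, Coh.IsQCoh G → Subsingleton (Coh.HH X G 2)) (F : X.Modules) [Coh.IsQCoh F]
    (hgg : Curv2.IsGloballyGenerated F) : Subsingleton (Coh.HH X F 1) := by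
  obtain ⟨σ, p, hp⟩ := hgg
  haveI := hp
  haveI hO : Coh.IsQCoh (Coh.structureModule X) :=
    FinLFAnn.isQCoh_of_isFinLocFree (AmpleDevLib.isFinLocFree_of_isInvertible CurvLib.isInvertible_structureModule)
  haveI hfree : Coh.IsQCoh (SheafOfModules.free σ : X.Modules) :=
    QCohLib.isQCoh_sigma (fun _ : σ => Coh.structureModule X) (fun _ => hO)
  have hfree1 : Subsingleton (Coh.HH X (SheafOfModules.free σ : X.Modules) 1) :=
    AmpleAffLib.subsingleton_HH_sigma (F := fun _ : σ => Coh.structureModule X) (fun _ => hO) (fun _ => h1)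
  haveI := QCohLib.isQCoh_kernel p
  let T := ShortComplex.mk (Limits.kernel.ι p) p (Limits.kernel.condition p)
  have hT : T.ShortExact :=
    { exact := ShortComplex.exact_of_f_is_kernel _ (Limits.kernelIsKernel p)
      mono_f := inferInstanceAs (Mono (Limits.kernel.ι p))
      epi_g := hp }
  exact HodgePnLib.sub₃ (S := T) hT hfree1 (h2 (Limits.kernel p) inferInstance)

theorem app_sum {M N : X.Modules} {ι : Type} (s : Finset ι) (φ : ι → (M ⟶ N)) (O : X.Opens) (w : Γ(M, O)) :
    (∑ i ∈ s, φ i).app O w = ∑ i ∈ s, (φ i).app O w := by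
  classical
  induction s using Finset.induction with
  | empty => simp
  | insert a s ha ih => rw [Finset.sum_insert ha, Finset.sum_insert ha, ← ih]; rfl

section Step

variable {s : ℕ} (c : Fin s → Γ(X, ⊤)) {I : X.IdealSheafData}

theorem exists_good_affine (hI : BlowUp.IsEffCartierIdeal I)
    (hgen : ∀ W : X.affineOpens, I.ideal W = Ideal.span (Set.range fun i => gr W.1 (c i))) (y : X) :
    ∃ (W : X.affineOpens) (i : Fin s), y ∈ W.1 ∧
      I.ideal W = Ideal.span {gr W.1 (c i)} ∧ gr W.1 (c i) ∈ nonZeroDivisors Γ(X, W.1) := by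
  obtain ⟨U, hy, t, ht, hUt⟩ := hI y
  have hdiv : ∀ i, ∃ r, gr U.1 (c i) = r * t := fun i => by
    obtain ⟨r, hr⟩ := Ideal.mem_span_singleton'.1
      (hUt ▸ (hgen U).ge (Ideal.subset_span ⟨i, rfl⟩) : gr U.1 (c i) ∈ Ideal.span {t})
    exact ⟨r, hr.symm⟩
  choose r hr using hdiv
  obtain ⟨q, hq⟩ : ∃ q : Fin s → Γ(X, U.1), ∑ i, q i * gr U.1 (c i) = t := by
    have : t ∈ Ideal.span (Set.range fun i => gr U.1 (c i)) := by
      rw [← hgen U, hUt]; exact Ideal.mem_span_singleton_self t
    exact (Ideal.mem_span_range_iff_exists_fun).1 this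
  have h1 : ∑ i, q i * r i = 1 := by
    refine mul_cancel_right_mem_nonZeroDivisors ht |>.1 ?_
    rw [one_mul, Finset.sum_mul]
    exact (Finset.sum_congr rfl fun i _ => by rw [hr i, mul_assoc]).trans hq
  obtain ⟨i, hi⟩ : ∃ i, y ∈ X.basicOpen (r i) := by
    by_contra hc
    push Not at hc
    have hm : ∀ i, (X.presheaf.germ U.1 y hy (r i)) ∈ IsLocalRing.maximalIdeal (X.presheaf.stalk y) := fun i =>
      fun hu => hc i ((X.mem_basicOpen (r i) y hy).2 hu)
    have h2 : X.presheaf.germ U.1 y hy (∑ i, q i * r i) ∈ IsLocalRing.maximalIdeal (X.presheaf.stalk y) := by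
      rw [map_sum]
      exact Ideal.sum_mem _ fun i _ => by rw [map_mul]; exact Ideal.mul_mem_left _ _ (hm i)
    rw [h1, map_one] at h2
    exact (IsLocalRing.maximalIdeal.isMaximal _).ne_top ((Ideal.eq_top_iff_one _).2 h2)
  let W : X.affineOpens := X.affineBasicOpen (r i)
  refine ⟨W, i, hi, ?_, ?_⟩
  all_goals
    let res := (X.presheaf.map (homOfLE (X.basicOpen_le (r i))).op).hom
    have hu : IsUnit (res (r i)) := RingedSpace.isUnit_res_basicOpen _ (r i)
    have hci : gr W.1 (c i) = res (r i) * res t := by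
      rw [← map_mul, ← hr i]
      exact (congrArg (fun m => m (c i)) (X.presheaf.map_comp (homOfLE (le_top : U.1 ≤ ⊤)).op
        (homOfLE (X.basicOpen_le (r i))).op)).trans rfl
  · rw [← I.map_ideal (show W ≤ U from X.basicOpen_le (r i)), hUt, Ideal.map_span, Set.image_singleton, hci]
    exact (Ideal.span_singleton_mul_left_unit hu _).symm
  · rw [hci]
    refine mul_mem hu.mem_nonZeroDivisors ?_
    haveI := U.2.isLocalization_basicOpen (r i)
    exact IsLocalization.map_nonZeroDivisors_le (Submonoid.powers (r i)) Γ(X, X.basicOpen (r i))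
      (Submonoid.mem_map_of_mem _ ht)

theorem exists_decomposition [CompactSpace X] [X.IsSeparated] (hI : BlowUp.IsEffCartierIdeal I)
    (hgen : ∀ W : X.affineOpens, I.ideal W = Ideal.span (Set.range fun i => gr W.1 (c i)))
    (h1 : Subsingleton (Coh.HH X (Coh.structureModule X) 1))
    (h2 : ∀ G : X.Modules, Coh.IsQCoh G → Subsingleton (Coh.HH X G 2))
    (n : ℕ) (z : Γ(X, ⊤)) (hz : In (I ^ (n + 2)) z) :
    ∃ y : Fin s → Γ(X, ⊤), (∀ i, In (I ^ (n + 1)) (y i)) ∧ z = ∑ i, y i * c i := by
  classical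
  have hcI : ∀ i, In I (c i) := fun i W => (hgen W).ge (Ideal.subset_span ⟨i, rfl⟩)
  let J := I ^ (n + 1)
  haveI := SweepSix.ConormalSpec.isQCoh_idealMod J
  haveI := SweepSix.ConormalSpec.isQCoh_idealMod (I * J)
  choose m hm using fun i => exists_mulMap I J (c i) (hcI i)
  let F : Fin s → X.Modules := fun _ => ClSub.idealMod J
  haveI : HasFiniteBiproducts X.Modules := Abelian.hasFiniteBiproducts
  let P := ⨁ F
  haveI hP : Coh.IsQCoh P := QCohLib.isQCoh_of_isColimit (fun _ => inferInstance)
    (fun _ => inferInstanceAs (Coh.IsQCoh (ClSub.idealMod J))) (biproduct.isColimit F)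
  let ψ : P ⟶ ClSub.idealMod (I * J) := biproduct.desc m
  have hψι : ∀ i (O : X.Opens) (w : Γ(ClSub.idealMod J, O)), ψ.app O ((biproduct.ι F i).app O w) = (m i).app O w :=
    fun i O w => congrArg (fun φ : ClSub.idealMod J ⟶ ClSub.idealMod (I * J) => φ.app O w) (biproduct.ι_desc m i)
  have hdec : ∀ (O : X.Opens) (w : Γ(P, O)), ∑ i, (biproduct.ι F i).app O ((biproduct.π F i).app O w) = w := fun O w => by
    have h := congrArg (fun φ : P ⟶ P => φ.app O w) (biproduct.total (f := F))
    simp only at h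
    rw [app_sum] at h
    exact h
  have hψ : ∀ (O : X.Opens) (w : Γ(P, O)),
      ideFn (I * J) (ψ.app O w) = ∑ i, ideFn J ((biproduct.π F i).app O w) * gr O (c i) := fun O w => by
    conv_lhs => rw [← hdec O w, map_sum]
    refine (map_sum ((ClSub.idealModι (I * J)).app O).hom _ _).trans (Finset.sum_congr rfl fun i _ => ?_)
    rw [hψι]
    exact hm i O _
  have hcov : ∀ y : X, ∃ W : X.affineOpens, y ∈ W.1 := fun y => by
    obtain ⟨W, hW, hy, -⟩ := exists_isAffineOpen_mem_and_subset (x := y) (U := (⊤ : X.Opens)) trivial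
    exact ⟨⟨W, hW⟩, hy⟩
  haveI hepi : Epi ψ := Preadditive.epi_of_cancel_zero _ fun {N : X.Modules} q hq =>
    MiscFlat6.eq_zero_of_affine_cover (fun W : X.affineOpens => W.1) (fun W => W.2) hcov _ q fun W v => by
      have hv := ideFn_mem (I * J) W v
      rw [Scheme.IdealSheafData.ideal_mul, Pi.mul_apply, hgen W] at hv
      have key : ∀ x ∈ Ideal.span (Set.range fun i => gr W.1 (c i)) * J.ideal W,
          ∃ v : Γ(P, W.1), ideFn (I * J) (ψ.app W.1 v) = x := fun x hx => by
        induction hx using Submodule.mul_induction_on' with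
        | mem_mul_mem a ha b hb =>
          obtain ⟨q', rfl⟩ := (Ideal.mem_span_range_iff_exists_fun).1 ha
          choose t ht using fun i => LichtLib.exists_ideFn J W.1 (q' i * b) fun T hT => by
            rw [← J.map_ideal (show T ≤ W from hT)]
            exact Ideal.mem_map_of_mem _ (Ideal.mul_mem_left _ _ hb)
          refine ⟨∑ i, (biproduct.ι F i).app W.1 (t i), ?_⟩
          rw [map_sum]
          refine (map_sum ((ClSub.idealModι (I * J)).app W.1).hom _ _).trans ?_
          rw [Finset.sum_mul]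
          refine Finset.sum_congr rfl fun i _ => ?_
          rw [hψι]
          refine (hm i W.1 _).trans ?_
          rw [ht]; ring
        | add x _ y _ hx hy =>
          obtain ⟨v, hv⟩ := hx
          obtain ⟨v', hv'⟩ := hy
          exact ⟨v + v', by rw [map_add, ← hv, ← hv']; exact map_add ((ClSub.idealModι (I * J)).app W.1).hom _ _⟩
      obtain ⟨v', hv'⟩ := key _ hv
      rw [← LichtLib.ideFn_injective (I * J) W.1 hv']
      exact congrArg (fun φ : P ⟶ N => φ.app W.1 v') hq
  haveI := QCohLib.isQCoh_kernel ψ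
  have hgg : Curv2.IsGloballyGenerated (kernel ψ) := MiscFlat6.isGloballyGenerated_of_cancel _ fun N q hq => by
    choose W k' hW using fun y => exists_good_affine c hI hgen y
    refine MiscFlat6.eq_zero_of_affine_cover (fun y => (W y).1) (fun y => (W y).2) (fun y => ⟨y, (hW y).1⟩) _ q fun y w => ?_
    let k := k' y
    have hk := (hW y).2
    let a := gr (W y).1 (c k)
    let O := (W y).1
    let w' := (kernel.ι ψ).app O w
    have hJW : J.ideal (W y) = Ideal.span {a ^ (n + 1)} := by rw [ideal_pow_eq, hk.1, Ideal.span_singleton_pow]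
    have hx : ∀ i, ∃ r, r * a ^ (n + 1) = ideFn J ((biproduct.π F i).app O w') := fun i =>
      Ideal.mem_span_singleton'.1 (hJW ▸ ideFn_mem J (W y) _)
    choose r hr using hx
    have hrel : ∑ i, r i * gr O (c i) = 0 := by
      refine mul_cancel_right_mem_nonZeroDivisors (pow_mem hk.2 (n + 1)) |>.1 ?_
      rw [zero_mul, Finset.sum_mul]
      have h0 : ψ.app O w' = 0 := congrArg (fun φ : kernel ψ ⟶ _ => φ.app O w) (kernel.condition ψ)
      have h0' := hψ O w'
      rw [h0] at h0'
      refine Eq.trans ?_ (h0'.symm.trans (map_zero ((ClSub.idealModι (I * J)).app O).hom))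
      exact Finset.sum_congr rfl fun i _ => by rw [← hr i]; ring
    -- the global relations
    have hga : In I (c k) := hcI k
    choose v hv using fun i => (show In J (c i * c k ^ n) from by
      show In (I ^ (n + 1)) _; rw [pow_succ']; exact (hcI i).mul (hga.pow n)).exists_section
    let e : Fin s → Γ(P, (⊤ : X.Opens)) := fun i => (biproduct.ι F i).app ⊤ (v k) - (biproduct.ι F k).app ⊤ (v i)
    have he : ∀ i, ψ.app ⊤ (e i) = 0 := fun i => LichtLib.ideFn_injective (I * J) ⊤ (by
      rw [map_sub, hψι, hψι]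
      refine (map_sub ((ClSub.idealModι (I * J)).app ⊤).hom _ _).trans ?_
      refine Eq.trans ?_ (map_zero ((ClSub.idealModι (I * J)).app ⊤).hom).symm
      refine (congrArg₂ (· - ·) (hm i ⊤ _) (hm k ⊤ _)).trans ?_
      rw [hv, hv, show gr (⊤ : X.Opens) (c i) = c i by rw [gr]; simp, show gr (⊤ : X.Opens) (c k) = c k by rw [gr]; simp]
      refine sub_eq_zero_of_eq ?_
      show (c k * c k ^ n : Γ(X, ⊤)) * c i = (c i * c k ^ n : Γ(X, ⊤)) * c k
      ring)
    choose ε hε using fun i => QCohLib.exists_of_app_eq_zero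
      (S := ShortComplex.mk (kernel.ι ψ) ψ (kernel.condition _))
      (ShortComplex.exact_of_f_is_kernel _ (kernelIsKernel _)) (inferInstanceAs (Mono (kernel.ι _))) (e i) (he i)
    have hw : w = ∑ i, r i • AmpleLib.res _ (le_top : O ≤ ⊤) (ε i) := by
      apply QCohLib.app_injective_of_mono (kernel.ι ψ) O
      rw [map_sum]
      have h3 : ∀ i, (kernel.ι ψ).app O (r i • AmpleLib.res _ (le_top : O ≤ ⊤) (ε i)) =
          (biproduct.ι F i).app O (r i • AmpleLib.res _ (le_top : O ≤ ⊤) (v k)) -
            (biproduct.ι F k).app O (r i • AmpleLib.res _ (le_top : O ≤ ⊤) (v i)) := fun i => by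
        rw [QCohLib.app_smul, QCohLib.app_map, hε, QCohLib.app_smul, QCohLib.app_smul, QCohLib.app_map,
          QCohLib.app_map, ← smul_sub, ← map_sub]
      rw [Finset.sum_congr rfl fun i _ => h3 i, Finset.sum_sub_distrib, ← map_sum ((biproduct.ι F k).app O).hom]
      have h4 : ∑ i, r i • AmpleLib.res (ClSub.idealMod J) (le_top : O ≤ ⊤) (v i) = 0 := by
        apply LichtLib.ideFn_injective J O
        refine (map_sum ((ClSub.idealModι J).app O).hom _ _).trans ?_
        refine Eq.trans ?_ (map_zero ((ClSub.idealModι J).app O).hom).symm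
        have h5 : ∑ i, ideFn J (r i • AmpleLib.res (ClSub.idealMod J) (le_top : O ≤ ⊤) (v i)) =
            (∑ i, r i * gr O (c i)) * a ^ n := by
          rw [Finset.sum_mul]
          refine Finset.sum_congr rfl fun i _ => ?_
          rw [LichtLib.ideFn_smul, LichtLib.ideFn_res, hv, map_mul, map_pow]
          ring
        rw [hrel, zero_mul] at h5
        exact h5
      rw [h4, map_zero, sub_zero]
      refine (hdec O w').symm.trans (Finset.sum_congr rfl fun i _ => congrArg _ ?_)
      apply LichtLib.ideFn_injective J O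
      rw [← hr i, LichtLib.ideFn_smul, LichtLib.ideFn_res, hv, map_mul, map_pow, pow_succ']
    rw [hw, map_sum]
    refine Finset.sum_eq_zero fun i _ => ?_
    rw [QCohLib.app_smul, QCohLib.app_map, hq, map_zero, smul_zero]
  -- vanishing and lifting
  have hk1 : Subsingleton (Coh.HH X (kernel ψ) 1) := subsingleton_of_generated h1 h2 (kernel ψ) hgg
  have hS : (ShortComplex.mk (kernel.ι ψ) ψ (kernel.condition ψ)).ShortExact :=
    { exact := ShortComplex.exact_of_f_is_kernel _ (kernelIsKernel _)
      mono_f := inferInstanceAs (Mono (kernel.ι _))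
      epi_g := hepi }
  have hz' : In (I * J) z := by show In (I * I ^ (n + 1)) z; rw [← pow_succ']; exact hz
  obtain ⟨t, ht⟩ := hz'.exists_section
  let ez := ModifLib.h0Sec (X := X) (ClSub.idealMod (I * J))
  obtain ⟨p, hp⟩ := LichtLib.surjective_g hS (p := 0) hk1 (ez.symm t)
  letI : X.Over (Spec (CommRingCat.of Γ(X, ⊤))) := ⟨X.toSpecΓ⟩
  have hp' : ψ.app ⊤ (ModifLib.h0Sec (X := X) P p) = t :=
    (ModifLib.h0Sec_map (A := Γ(X, ⊤)) (X := X) ψ p).symm.trans ((congrArg ez hp).trans (ez.apply_symm_apply t))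
  refine ⟨fun i => ideFn J ((biproduct.π F i).app ⊤ (ModifLib.h0Sec (X := X) P p)), fun i => in_of_section _, ?_⟩
  rw [← ht, ← hp', hψ]
  exact Finset.sum_congr rfl fun i _ => by rw [gr]; simp

end Step

end RatModLib
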