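import Mathlib
import Groth.Agent.RatModLib.Powers
import Groth.Agent.PtBlowLib.PointBlow

/-! Sections of powers of the principalized maximal ideal. -/

set_option autoImplicit false
set_option linter.style.haveILetI false
set_option linter.unusedSectionVars false
set_option backward.isDefEq.respectTransparency false
set_option backward.isDefEq.respectTransparency.types false
universe u

open CategoryTheory CategoryTheory.Limits AlgebraicGeometry TopologicalSpace

namespace RatModLib

theorem toGlobal_injective {A : Type u} [CommRing A] [IsDomain A] {X : Scheme.{u}} (f : X ⟶ Spec (CommRingCat.of A))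
    [IsProper f] [IsIntegral X] {U : (Spec (CommRingCat.of A)).Opens}
    (hU : (U : Set (Spec (CommRingCat.of A))).Nonempty) [IsIso (f ∣_ U)] : Function.Injective (Coh.toGlobal f) := by
  have hη := ModifLib.map_genericPoint f hU
  refine (injective_iff_map_eq_zero _).2 fun a ha => ?_
  by_contra hne
  let T : Γ(Spec (CommRingCat.of A), ⊤) := (Scheme.ΓSpecIso (CommRingCat.of A)).inv.hom a
  have hmem : genericPoint (Spec (CommRingCat.of A)) ∈ (Spec (CommRingCat.of A)).basicOpen T :=
    ((genericPoint_spec _).mem_open_set_iff ((Spec (CommRingCat.of A)).basicOpen T).2).2 (by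
      rw [Set.univ_inter, Set.nonempty_iff_ne_empty]
      intro he
      have h0 : (Spec (CommRingCat.of A)).basicOpen T = ⊥ := Opens.ext he
      rw [basicOpen_eq_bot_iff] at h0
      exact hne ((ConcreteCategory.bijective_of_isIso (Scheme.ΓSpecIso (CommRingCat.of A)).inv).1
        (h0.trans (map_zero _).symm)))
  have h2 : genericPoint X ∈ X.basicOpen (Coh.toGlobal f a) := by
    show genericPoint X ∈ X.basicOpen (f.appTop T)
    rw [← Scheme.preimage_basicOpen_top]
    show f (genericPoint X) ∈ (Spec (CommRingCat.of A)).basicOpen T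
    rwa [hη]
  rw [ha] at h2
  simp at h2

section

variable {A : Type u} [CommRing A] {X : Scheme.{u}} (f : X ⟶ Spec (CommRingCat.of A))

/-- The inverse image of an ideal of the base. -/
noncomputable abbrev pre (K : Ideal A) : X.IdealSheafData := (Curv2.idealSheaf A K).comap f

theorem pre_pow (K : Ideal A) (n : ℕ) : pre f (K ^ n) = pre f K ^ n := by
  refine Scheme.IdealSheafData.ext (funext fun W => ?_)
  rw [ideal_pow_eq, PtBlowLib.ideal_comap_idealSheaf, PtBlowLib.ideal_comap_idealSheaf, Ideal.map_pow]

theorem In.of_mem {K : Ideal A} {a : A} (ha : a ∈ K) : In (pre f K) (Coh.toGlobal f a) := fun W => by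
  rw [PtBlowLib.ideal_comap_idealSheaf]
  exact Ideal.mem_map_of_mem _ ha

theorem subsingleton_H1_pre [CompactSpace X] [X.IsSeparated]
    (h1 : Subsingleton (Coh.HH X (Coh.structureModule X) 1))
    (h2 : ∀ G : X.Modules, Coh.IsQCoh G → Subsingleton (Coh.HH X G 2)) (K : Ideal A) (n : ℕ) :
    Subsingleton (Coh.HH X (ClSub.idealMod (pre f K ^ n)) 1) := by
  rw [← pre_pow]
  haveI := SweepSix.ConormalSpec.isQCoh_idealMod (pre f (K ^ n))
  exact subsingleton_of_generated h1 h2 _ (PtBlowLib.isGloballyGenerated_comap f _)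

end

/-- Functions on the modification in the powers of the ideal of the closed fibre. -/
theorem sections_pow {A : Type u} [CommRing A] [IsDomain A] [IsNoetherianRing A] [IsIntegrallyClosed A]
    {X : Scheme.{u}} (f : X ⟶ Spec (CommRingCat.of A)) [IsProper f] [IsIntegral X] [X.IsSeparated] [CompactSpace X]
    {U : (Spec (CommRingCat.of A)).Opens} (hU : (U : Set (Spec (CommRingCat.of A))).Nonempty) [IsIso (f ∣_ U)]
    (M : Ideal A) [M.IsMaximal] (hE : BlowUp.IsEffCartierIdeal (pre f M))
    (hne : ((pre f M).support : Set X).Nonempty)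
    (h1 : Subsingleton (Coh.HH X (Coh.structureModule X) 1))
    (h2 : ∀ G : X.Modules, Coh.IsQCoh G → Subsingleton (Coh.HH X G 2)) :
    ∀ (n : ℕ) (a : A), In (pre f M ^ n) (Coh.toGlobal f a) ↔ a ∈ M ^ n := by
  intro n
  induction n with
  | zero =>
    intro a
    rw [pow_zero, pow_zero, Ideal.one_eq_top]
    refine ⟨fun _ => trivial, fun _ W => ?_⟩
    rw [Scheme.IdealSheafData.one_eq_top, Scheme.IdealSheafData.ideal_top]
    trivial
  | succ n ih =>
    intro a
    refine ⟨fun ha => ?_, fun ha => by rw [← pre_pow]; exact In.of_mem f ha⟩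
    cases n with
    | zero =>
      rw [zero_add, pow_one] at ha ⊢
      by_contra hc
      obtain ⟨b, y, hy, hb⟩ := Ideal.IsMaximal.exists_inv (I := M) ‹_› hc
      have h' : In (pre f M) (Coh.toGlobal f 1) := fun W => by
        rw [← hb, map_add, map_mul, gr, map_add, map_mul]
        exact add_mem (Ideal.mul_mem_left _ _ (ha W)) (In.of_mem f hy W)
      obtain ⟨x, hx⟩ := hne
      obtain ⟨W, hW, hxW, -⟩ := exists_isAffineOpen_mem_and_subset (x := x) (U := (⊤ : X.Opens)) trivial
      have h'' := h' ⟨W, hW⟩
      rw [map_one, gr, map_one] at h''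
      refine (SDivLib.mem_support_iff_stalk _ x).1 hx ?_
      rw [SDivLib.stalkIdeal_eq _ ⟨W, hW⟩ hxW, (Ideal.eq_top_iff_one _).2 h'', Ideal.map_top]
    | succ m =>
      obtain ⟨s, g, hg⟩ : ∃ (s : ℕ) (g : Fin s → A), Ideal.span (Set.range g) = M :=
        Submodule.fg_iff_exists_fin_generating_family.1 (IsNoetherian.noetherian M)
      obtain ⟨y, hy, hz⟩ := exists_decomposition (fun i => Coh.toGlobal f (g i)) hE (fun W => by
        rw [PtBlowLib.ideal_comap_idealSheaf, ← hg, Ideal.map_span, ← Set.range_comp]
        rfl) h1 h2 m _ ha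
      choose b hb using fun i => PtBlowLib.toGlobal_surjective f hU (y i)
      have hbm : ∀ i, b i ∈ M ^ (m + 1) := fun i => (ih (b i)).1 (by rw [hb]; exact hy i)
      have ha' : a = ∑ i, b i * g i := by
        apply toGlobal_injective f hU
        rw [hz, map_sum]
        exact Finset.sum_congr rfl fun i _ => by rw [map_mul, hb]
      rw [ha', pow_succ]
      exact Ideal.sum_mem _ fun i _ => Ideal.mul_mem_mul (hbm i) (hg ▸ Ideal.subset_span ⟨i, rfl⟩)

end RatModLib
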