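import Mathlib
import Groth.Agent.RatModLib.Sections
import Groth.Agent.ModifLib.Max
import Groth.Agent.BlowUpLib.Chart
import Groth.Agent.ParaFLib.Normal
import Groth.Agent.DiagTorLib.Geom
import Groth.Agent.CurveResLib.Strict
import Groth.Agent.NormBlowLib.Base
import Groth.Agent.S7297
import Groth.Agent.S9833
import Groth.Agent.S0566

/-! The blowing up of a rational singularity in its maximal ideal is normal. -/

set_option autoImplicit false
set_option linter.style.haveILetI false
set_option linter.unusedSectionVars false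
set_option backward.isDefEq.respectTransparency false
set_option backward.isDefEq.respectTransparency.types false
universe u

open CategoryTheory CategoryTheory.Limits AlgebraicGeometry TopologicalSpace

namespace RatModLib

/-- Integral dependence on an ideal. -/
def IntDep {A : Type u} [CommRing A] (J : Ideal A) (α : A) : Prop :=
  ∃ (k : ℕ) (c : ℕ → A), (∀ i < k, c i ∈ J ^ (k - i)) ∧ α ^ k + ∑ i ∈ Finset.range k, c i * α ^ i = 0

theorem mem_span_of_intDep {O : Type u} [CommRing O] [IsDomain O] [IsIntegrallyClosed O] {t α : O} (ht : t ≠ 0)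
    (h : IntDep (Ideal.span {t}) α) : α ∈ Ideal.span {t} := by
  obtain ⟨k, c, hc, he⟩ := h
  have hc' : ∀ i, ∃ e, i < k → c i = e * t ^ (k - i) := fun i => by
    by_cases hi : i < k
    · obtain ⟨e, he⟩ := Ideal.mem_span_singleton'.1 (Ideal.span_singleton_pow t _ ▸ hc i hi)
      exact ⟨e, fun _ => he.symm⟩
    · exact ⟨0, fun h => absurd h hi⟩
  choose e he' using hc'
  let φ := algebraMap O (FractionRing O)
  have htK : φ t ≠ 0 := by rwa [Ne, IsFractionRing.to_map_eq_zero_iff]
  have hint : IsIntegral O (φ α / φ t) := by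
    refine ⟨Polynomial.X ^ k + ∑ i ∈ Finset.range k, Polynomial.C (e i) * Polynomial.X ^ i,
      Polynomial.monic_X_pow_add ?_, ?_⟩
    · refine lt_of_le_of_lt (Polynomial.degree_sum_le _ _) ((Finset.sup_lt_iff (WithBot.bot_lt_coe k)).2 fun i hi => ?_)
      exact (Polynomial.degree_C_mul_X_pow_le i (e i)).trans_lt (WithBot.coe_lt_coe.2 (Finset.mem_range.1 hi))
    · have h0 : (φ α) ^ k + ∑ i ∈ Finset.range k, φ (e i) * φ t ^ (k - i) * φ α ^ i = 0 := by
        rw [← map_zero φ, ← he, map_add, map_pow, map_sum]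
        refine congrArg _ (Finset.sum_congr rfl fun i hi => ?_)
        rw [map_mul, map_pow, he' i (Finset.mem_range.1 hi), map_mul, map_pow]
      simp only [Polynomial.eval₂_add, Polynomial.eval₂_pow, Polynomial.eval₂_X, Polynomial.eval₂_finsetSum,
        Polynomial.eval₂_mul, Polynomial.eval₂_C]
      refine (mul_right_inj' (pow_ne_zero k htK)).1 ?_
      rw [mul_zero, mul_add, Finset.mul_sum, ← mul_pow, mul_div_cancel₀ _ htK]
      refine Eq.trans (congrArg _ (Finset.sum_congr rfl fun i hi => ?_)) h0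
      have hk : φ t ^ k = φ t ^ (k - i) * φ t ^ i := by rw [← pow_add, Nat.sub_add_cancel (Finset.mem_range.1 hi).le]
      rw [hk, div_pow]
      field_simp
      ring
  obtain ⟨r, hr⟩ := IsIntegrallyClosed.isIntegral_iff.1 hint
  refine Ideal.mem_span_singleton'.2 ⟨r, IsFractionRing.injective O (FractionRing O) ?_⟩
  rw [map_mul, hr]
  exact div_mul_cancel₀ _ htK

theorem IntDep.map {A B : Type u} [CommRing A] [CommRing B] {J : Ideal A} {α : A} (h : IntDep J α) (φ : A →+* B) :
    IntDep (J.map φ) (φ α) := by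
  obtain ⟨k, c, hc, he⟩ := h
  refine ⟨k, φ ∘ c, fun i hi => by rw [← Ideal.map_pow]; exact Ideal.mem_map_of_mem _ (hc i hi), ?_⟩
  rw [← map_zero φ, ← he, map_add, map_pow, map_sum]
  simp [map_mul, map_pow]

/-- Elements of the affine blow-up algebra as fractions. -/
theorem exists_frac {A : Type u} [CommRing A] (I : Ideal A) {a : A} (ha : a ∈ I) {q : Localization.Away a}
    (hq : q ∈ BlowUp.affineAlgebra A I a) :
    ∃ M : ℕ, ∀ L, M ≤ L → ∃ γ ∈ I ^ L, q * algebraMap A (Localization.Away a) a ^ L = algebraMap A _ γ := by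
  induction hq using Algebra.adjoin_induction with
  | mem x hx =>
    obtain ⟨y, hy, rfl⟩ := hx
    refine ⟨1, fun L hL => ⟨y * a ^ (L - 1), ?_, ?_⟩⟩
    · have : y * a ^ (L - 1) ∈ I * I ^ (L - 1) := Ideal.mul_mem_mul hy (Ideal.pow_mem_pow ha _)
      rwa [← pow_succ', Nat.sub_add_cancel hL] at this
    · conv_lhs => rw [← Nat.sub_add_cancel hL, pow_succ', ← mul_assoc]
      rw [map_mul, map_pow]
      congr 1
      exact IsLocalization.mk'_spec (Localization.Away a) y ⟨a, Submonoid.mem_powers a⟩
  | algebraMap r => exact ⟨0, fun L _ => ⟨r * a ^ L, Ideal.mul_mem_left _ _ (Ideal.pow_mem_pow ha L), by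
      rw [map_mul, map_pow]⟩⟩
  | add x y _ _ hx hy =>
    obtain ⟨M, hM⟩ := hx
    obtain ⟨M', hM'⟩ := hy
    refine ⟨max M M', fun L hL => ?_⟩
    obtain ⟨γ, hγ, e⟩ := hM L (le_trans (le_max_left _ _) hL)
    obtain ⟨γ', hγ', e'⟩ := hM' L (le_trans (le_max_right _ _) hL)
    exact ⟨γ + γ', add_mem hγ hγ', by rw [add_mul, e, e', map_add]⟩
  | mul x y _ _ hx hy =>
    obtain ⟨M, hM⟩ := hx
    obtain ⟨M', hM'⟩ := hy
    refine ⟨M + M', fun L hL => ?_⟩
    obtain ⟨γ, hγ, e⟩ := hM M le_rfl
    obtain ⟨γ', hγ', e'⟩ := hM' (L - M) (by omega)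
    refine ⟨γ * γ', ?_, ?_⟩
    · have := Ideal.mul_mem_mul hγ hγ'
      rwa [← pow_add, show M + (L - M) = L by omega] at this
    · rw [map_mul, ← e, ← e', show L = M + (L - M) by omega, pow_add]
      simp only [show M + (L - M) - M = L - M by omega]
      ring

theorem exists_intDep {A : Type u} [CommRing A] [IsDomain A] [IsIntegrallyClosed A] (I : Ideal A) {a : A} (ha : a ∈ I)
    (ha0 : a ≠ 0) (z : FractionRing (Localization.Away a)) (hz : IsIntegral (BlowUp.affineAlgebra A I a) z) :
    ∃ (N : ℕ) (α : A), IntDep (I ^ N) α ∧ ∀ (h : α ∈ I ^ N),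
      ∃ b : BlowUp.affineAlgebra A I a, algebraMap (BlowUp.affineAlgebra A I a) (FractionRing (Localization.Away a)) b = z := by
  have hle : Submonoid.powers a ≤ nonZeroDivisors A := powers_le_nonZeroDivisors_of_noZeroDivisors ha0
  haveI : IsDomain (Localization.Away a) := IsLocalization.isDomain_localization hle
  haveI : IsIntegrallyClosed (Localization.Away a) := isIntegrallyClosed_of_isLocalization _ _ hle
  obtain ⟨p, hpm, hp⟩ := hz
  have hz' : IsIntegral (Localization.Away a) z := by
    refine ⟨p.map (BlowUp.affineAlgebra A I a).val.toRingHom, hpm.map _, ?_⟩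
    rw [Polynomial.eval₂_map]
    exact hp
  obtain ⟨w, hw⟩ := IsIntegrallyClosed.isIntegral_iff.1 hz'
  obtain ⟨N₀, α₀, hw'⟩ := IsLocalization.Away.surj (S := Localization.Away a) a w
  let φ := algebraMap A (Localization.Away a)
  have hb : ∀ i, ∃ M : ℕ, ∀ L, M ≤ L → ∃ γ ∈ I ^ L, (p.coeff i).1 * φ a ^ L = φ γ :=
    fun i => exists_frac I ha (p.coeff i).2
  choose M hM using hb
  let N := N₀ + (Finset.range p.natDegree).sup M
  let α := α₀ * a ^ (N - N₀)
  have hαw : w * φ a ^ N = φ α := by
    show _ = φ (α₀ * a ^ (N - N₀))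
    rw [map_mul, map_pow, ← hw', mul_assoc, ← pow_add, show N₀ + (N - N₀) = N by omega]
  have hγ : ∀ i, ∃ γ, i < p.natDegree → γ ∈ (I ^ N) ^ (p.natDegree - i) ∧
      (p.coeff i).1 * φ a ^ (N * (p.natDegree - i)) = φ γ := fun i => by
    by_cases hi : i < p.natDegree
    · have h1 : M i ≤ N := (Finset.le_sup (Finset.mem_range.2 hi)).trans (Nat.le_add_left _ _)
      obtain ⟨γ, hγ, e⟩ := hM i (N * (p.natDegree - i))
        (h1.trans (Nat.le_mul_of_pos_right _ (by omega)))
      exact ⟨γ, fun _ => ⟨by rw [← pow_mul]; exact hγ, e⟩⟩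
    · exact ⟨0, fun h => absurd h hi⟩
  choose γ hγ' using hγ
  refine ⟨N, α, ⟨p.natDegree, γ, fun i hi => (hγ' i hi).1, IsLocalization.injective (Localization.Away a) hle ?_⟩, fun h => ?_⟩
  · have hp' : w ^ p.natDegree + ∑ i ∈ Finset.range p.natDegree, (p.coeff i).1 * w ^ i = 0 := by
      apply IsFractionRing.injective (Localization.Away a) (FractionRing (Localization.Away a))
      rw [map_zero, map_add, map_pow, map_sum, hw, ← hp]
      conv_rhs => rw [hpm.as_sum]
      simp only [Polynomial.eval₂_add, Polynomial.eval₂_pow, Polynomial.eval₂_X, Polynomial.eval₂_finsetSum,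
        Polynomial.eval₂_mul, Polynomial.eval₂_C]
      refine congrArg _ (Finset.sum_congr rfl fun i _ => ?_)
      rw [map_mul, map_pow, hw]
      rfl
    show φ _ = φ 0
    rw [map_zero, map_add, map_pow, map_sum, ← hαw, mul_pow,
      show (0 : Localization.Away a) = (φ a ^ N) ^ p.natDegree * 0 by rw [mul_zero], ← hp', mul_add, Finset.mul_sum,
      mul_comm (w ^ _)]
    refine congrArg _ (Finset.sum_congr rfl fun i hi => ?_)
    have hi' := Finset.mem_range.1 hi
    rw [map_mul, map_pow, ← (hγ' i hi').2, ← hαw, mul_pow, pow_mul]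
    rw [show (φ a ^ N) ^ p.natDegree = (φ a ^ N) ^ (p.natDegree - i) * (φ a ^ N) ^ i by
      rw [← pow_add, Nat.sub_add_cancel hi'.le]]
    ring
  · refine ⟨⟨_, BlowUpLib.frac_mem I a h⟩, ?_⟩
    rw [← hw]
    refine congrArg (algebraMap (Localization.Away a) (FractionRing (Localization.Away a))) ?_
    show IsLocalization.mk' (Localization.Away a) α _ = w
    rw [IsLocalization.mk'_eq_iff_eq_mul]
    show _ = w * φ (a ^ N)
    rw [map_pow]
    exact hαw.symm

theorem isIntegrallyClosed_chart {A : Type u} [CommRing A] [IsDomain A] [IsIntegrallyClosed A] (I : Ideal A) {a : A}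
    (ha : a ∈ I) (ha0 : a ≠ 0) (h : ∀ (N : ℕ) (α : A), IntDep (I ^ N) α → α ∈ I ^ N) :
    IsIntegrallyClosed (BlowUp.affineAlgebra A I a) := by
  have hle : Submonoid.powers a ≤ nonZeroDivisors A := powers_le_nonZeroDivisors_of_noZeroDivisors ha0
  haveI : IsDomain (Localization.Away a) := IsLocalization.isDomain_localization hle
  haveI : IsFractionRing (BlowUp.affineAlgebra A I a) (FractionRing (Localization.Away a)) := by
    let B := BlowUp.affineAlgebra A I a
    have hinj : Function.Injective (algebraMap B (FractionRing (Localization.Away a))) :=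
      (IsFractionRing.injective (Localization.Away a) (FractionRing (Localization.Away a))).comp Subtype.val_injective
    refine ⟨⟨fun y => ?_, fun z => ?_, fun {x y} h => ⟨1, by rw [hinj h]⟩⟩⟩
    · exact isUnit_iff_ne_zero.2 fun h => nonZeroDivisors.ne_zero y.2 (hinj (h.trans (map_zero _).symm))
    · obtain ⟨p, q, hq, rfl⟩ := IsFractionRing.div_surjective (A := Localization.Away a) z
      obtain ⟨n, p₀, hp⟩ := IsLocalization.Away.surj (S := Localization.Away a) a p
      obtain ⟨m, q₀, hq'⟩ := IsLocalization.Away.surj (S := Localization.Away a) a q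
      have hq0 : algebraMap A B (q₀ * a ^ n) ≠ 0 := fun h => by
        have h' : algebraMap A (Localization.Away a) (q₀ * a ^ n) = 0 := congrArg Subtype.val h
        have hu : IsUnit (algebraMap A (Localization.Away a) a) := IsLocalization.Away.algebraMap_isUnit a
        rw [map_mul, map_pow, (hu.pow n).mul_left_eq_zero, ← hq', (hu.pow m).mul_left_eq_zero] at h'
        exact nonZeroDivisors.ne_zero hq h'
      refine ⟨(algebraMap A B (p₀ * a ^ m), ⟨_, mem_nonZeroDivisors_iff_ne_zero.2 hq0⟩), ?_⟩
      show _ * algebraMap (Localization.Away a) (FractionRing (Localization.Away a)) (algebraMap A (Localization.Away a) (q₀ * a ^ n)) =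
        algebraMap (Localization.Away a) (FractionRing (Localization.Away a)) (algebraMap A (Localization.Away a) (p₀ * a ^ m))
      have hq2 : algebraMap (Localization.Away a) (FractionRing (Localization.Away a)) q ≠ 0 := by
        rw [Ne, IsFractionRing.to_map_eq_zero_iff]; exact nonZeroDivisors.ne_zero hq
      simp only [map_mul, map_pow, ← hq', ← hp]
      field_simp
  refine (isIntegrallyClosed_iff (FractionRing (Localization.Away a))).2 fun {z} hz => ?_
  obtain ⟨N, α, hα, hb⟩ := exists_intDep I ha ha0 z hz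
  exact hb (h N α hα)

/-- Functions integral over a power of the closed fibre lie in it. -/
theorem in_of_intDep {A : Type u} [CommRing A] {X : Scheme.{u}} [IsIntegral X] (hn : Pi1.IsNormalScheme X)
    (f : X ⟶ Spec (CommRingCat.of A)) (K : Ideal A) (hE : BlowUp.IsEffCartierIdeal (pre f K))
    (N : ℕ) (α : A) (h : IntDep (K ^ N) α) : In (pre f K ^ N) (Coh.toGlobal f α) := by
  have key : pre f K ^ N ⊔ pre f (Ideal.span {α}) = pre f K ^ N := DivDescLib.eq_of_stalk fun x => by
    rw [DiagTorLib.stalkIdeal_sup, sup_eq_left]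
    obtain ⟨U, hU, hxU, -⟩ := exists_isAffineOpen_mem_and_subset (x := x) (U := (⊤ : X.Opens)) trivial
    obtain ⟨hdom, hcl⟩ := hn x
    haveI := hdom
    haveI := hcl
    obtain ⟨t, ht, hts⟩ := SDivLib.exists_gen hE x
    let ψ : A →+* X.presheaf.stalk x := (X.presheaf.germ U x hxU).hom.comp
      ((X.presheaf.map (homOfLE (le_top : U ≤ ⊤)).op).hom.comp (Coh.toGlobal f))
    have hst : ∀ L : Ideal A, IntMult.stalkIdeal (pre f L) x = L.map ψ := fun L => by
      rw [SDivLib.stalkIdeal_eq _ ⟨U, hU⟩ hxU, PtBlowLib.ideal_comap_idealSheaf, Ideal.map_map]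
    rw [hst, Ideal.map_span, Set.image_singleton, Ideal.span_singleton_le_iff_mem, SDivLib.stalkIdeal_pow, hts,
      Ideal.span_singleton_pow]
    refine mem_span_of_intDep (pow_ne_zero N (nonZeroDivisors.ne_zero ht)) ?_
    have := h.map ψ
    rwa [Ideal.map_pow, ← hst, hts, Ideal.span_singleton_pow] at this
  intro W
  have : gr W.1 (Coh.toGlobal f α) ∈ (pre f K ^ N ⊔ pre f (Ideal.span {α})).ideal W := by
    rw [Scheme.IdealSheafData.ideal_sup, Pi.sup_apply]
    exact Ideal.mem_sup_right (In.of_mem f (Ideal.mem_span_singleton_self α) W)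
  rwa [key] at this

/-- Data of a normal modification principalizing the maximal ideal of a rational singularity. -/
theorem exists_principal_modification (A : Type u) [CommRing A] [IsDomain A] [IsLocalRing A] [IsNoetherianRing A]
    [IsIntegrallyClosed A] (hN : CAlg.IsNagata A) (hdim : ringKrullDim A = 2) (hA : Curv2.IsRationalSing A) :
    ∀ (N : ℕ) (α : A), IntDep (IsLocalRing.maximalIdeal A ^ N) α → α ∈ IsLocalRing.maximalIdeal A ^ N := by
  let M := IsLocalRing.maximalIdeal A
  have hM : M ≠ ⊥ := fun h => by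
    have hf : IsField A := (IsLocalRing.isField_iff_maximalIdeal_eq).2 h
    rw [ringKrullDim_eq_zero_of_isField hf] at hdim
    exact absurd hdim (by norm_num)
  have hN' : ∀ U : (Spec (CommRingCat.of A)).affineOpens, CAlg.IsNagata Γ(Spec (CommRingCat.of A), U.1) :=
    fun U => Groth.Agent.S9833.result (Spec (CommRingCat.of A)) (fun _ : PUnit.{u+1} => ⊤) (iSup_const) (fun _ => isAffineOpen_top _)
      (fun _ => by
        letI := ((Scheme.ΓSpecIso (CommRingCat.of A)).inv.hom).toAlgebra
        haveI : Algebra.FiniteType A Γ(Spec (CommRingCat.of A), ⊤) :=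
          RingHom.FiniteType.of_surjective _ (ConcreteCategory.bijective_of_isIso (Scheme.ΓSpecIso (CommRingCat.of A)).inv).2
        exact Groth.Agent.S0566.result A hN Γ(Spec (CommRingCat.of A), ⊤)) U.1 U.2
  have hI : Curv2.idealSheaf A M ≠ ⊥ := fun h => hM (le_bot_iff.1 fun m hm => by
    have h1 := PtBlowLib.idealSheaf_top M
    rw [h, Scheme.IdealSheafData.ideal_bot, Pi.bot_apply] at h1
    have h2 : (Scheme.ΓSpecIso (CommRingCat.of A)).inv.hom m = 0 :=
      Ideal.mem_bot.1 (h1 ▸ Ideal.mem_map_of_mem _ hm)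
    exact Ideal.mem_bot.2 ((ConcreteCategory.bijective_of_isIso (Scheme.ΓSpecIso (CommRingCat.of A)).inv).1
      (h2.trans (map_zero _).symm)))
  obtain ⟨B, X, bB, ν, hbB, hproj, hXi, hXn, U₀, hU₀, hU₀i⟩ :=
    ModifLib.exists_normalized_blowUp (ParaFLib.isNormal_spec A) hN' (Curv2.idealSheaf A M) hI
  haveI := hXi
  haveI := hU₀i
  let f := ν ≫ bB
  haveI : IsProper f := RelProjLib.isProper_of_isProjective hproj
  haveI : CompactSpace X := QuasiCompact.compactSpace_of_compactSpace f
  haveI : X.IsSeparated := ⟨by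
    rw [Limits.terminal.hom_ext (Limits.terminal.from X) (f ≫ Limits.terminal.from _)]
    infer_instance⟩
  haveI : IsLocallyNoetherian X := LocallyOfFiniteType.isLocallyNoetherian f
  have hη : f (genericPoint X) = genericPoint (Spec (CommRingCat.of A)) := ModifLib.map_genericPoint f hU₀
  have hgen : genericPoint X ∉ ((pre f M).support : Set X) := fun h => by
    rw [Scheme.IdealSheafData.support_comap] at h
    have h' : f (genericPoint X) ∈ ((Curv2.idealSheaf A M).support : Set (Spec (CommRingCat.of A))) := h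
    rw [hη] at h'
    exact hI (Scheme.IdealSheafData.support_eq_top_iff.1 (top_le_iff.1 fun z _ =>
      (genericPoint_specializes z).mem_closed (Curv2.idealSheaf A M).support.isClosed h'))
  have hE : BlowUp.IsEffCartierIdeal (pre f M) := by
    refine EffCartLib.isEffCartier_of_stalk _ fun x hx U hxU => ?_
    obtain ⟨t, -, hts⟩ := SDivLib.exists_gen hbB.1 (ν x)
    obtain ⟨hdom, -⟩ := hXn x
    haveI := hdom
    refine ⟨(ν.stalkMap x).hom t, mem_nonZeroDivisors_iff_ne_zero.2 fun h0 => ?_, ?_⟩
    · refine CurveResLib.stalkIdeal_ne_bot (pre f M) hgen x ?_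
      show IntMult.stalkIdeal ((Curv2.idealSheaf A M).comap (ν ≫ bB)) x = ⊥
      rw [Scheme.IdealSheafData.comap_comp, DivDescLib.stalkIdeal_comap, hts, Ideal.map_span, Set.image_singleton,
        h0, Ideal.span_singleton_eq_bot]
    · rw [← SDivLib.stalkIdeal_eq _ U hxU]
      show IntMult.stalkIdeal ((Curv2.idealSheaf A M).comap (ν ≫ bB)) x = _
      rw [Scheme.IdealSheafData.comap_comp, DivDescLib.stalkIdeal_comap, hts, Ideal.map_span, Set.image_singleton]
  have hne : ((pre f M).support : Set X).Nonempty := by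
    obtain ⟨x, hx⟩ : IsLocalRing.closedPoint A ∈ Set.range f.base :=
      (genericPoint_specializes (IsLocalRing.closedPoint A : (Spec (CommRingCat.of A) : Scheme.{u}))).mem_closed
        f.isClosedMap.isClosed_range ⟨_, hη⟩
    refine ⟨x, ?_⟩
    rw [Scheme.IdealSheafData.support_comap]
    show f x ∈ ((Curv2.idealSheaf A M).support : Set (Spec (CommRingCat.of A)))
    rw [PtBlowLib.coe_support_idealSheaf, show f x = IsLocalRing.closedPoint A from hx]
    exact fun a ha => ha
  have h2 : ∀ G : X.Modules, Coh.IsQCoh G → Subsingleton (Coh.HH X G 2) :=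
    fun G hG => Groth.Agent.S7297.result A hN hdim hA X f hXn ⟨U₀, hU₀, hU₀i⟩ G hG 2 le_rfl
  have h1 := hA X f inferInstance inferInstance hXn ⟨U₀, hU₀, hU₀i⟩
  exact fun N α h => (sections_pow f hU₀ M hE hne h1 h2 N α).1 (in_of_intDep hXn f M hE N α h)

end RatModLib
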