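import Mathlib
import Groth.Agent.RatModLib.Normal
import Groth.Agent.RatModLib.Sections
import Groth.Agent.BlowUpLib.Props
import Groth.Agent.BlowUpLib.Exists
import Groth.Agent.SDivLib.Stalk

/-! Elements of powers of an ideal which generate on the blowing up at prescribed points. -/

set_option autoImplicit false
set_option linter.style.haveILetI false
set_option linter.unusedSectionVars false
set_option backward.isDefEq.respectTransparency false
set_option backward.isDefEq.respectTransparency.types false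
universe u

open CategoryTheory AlgebraicGeometry TopologicalSpace IsLocalRing

noncomputable section

namespace RatModLib

variable {A : Type u} [CommRing A] {X : Scheme.{u}}

/-- The functions of the base in a local ring. -/
def phi (f : X ⟶ Spec (CommRingCat.of A)) (x : X) : A →+* X.presheaf.stalk x :=
  (X.presheaf.germ ⊤ x trivial).hom.comp (Coh.toGlobal f)

theorem stalkMap_phi {Y : Scheme.{u}} (h : Y ⟶ X) (f : X ⟶ Spec (CommRingCat.of A)) (g : Y ⟶ Spec (CommRingCat.of A))
    (hg : h ≫ f = g) (y : Y) (a : A) : h.stalkMap y (phi f (h y) a) = phi g y a := by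
  subst hg
  show h.stalkMap y (X.presheaf.germ ⊤ (h y) trivial (Coh.toGlobal f a)) = _
  rw [Scheme.Hom.germ_stalkMap_apply]
  rfl

/-- The functions on an affine scheme in a local ring. -/
def omega {C : Type u} [CommRing C] (q : Spec (CommRingCat.of C)) :
    C →+* (Spec (CommRingCat.of C)).presheaf.stalk q :=
  ((Spec (CommRingCat.of C)).presheaf.germ ⊤ q trivial).hom.comp (Scheme.ΓSpecIso (CommRingCat.of C)).inv.hom

theorem omega_phi {C : Type u} [CommRing C] (ι : A →+* C) (q : Spec (CommRingCat.of C)) :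
    phi (Spec.map (CommRingCat.ofHom ι)) q = (omega q).comp ι := by
  ext a
  show (Spec (CommRingCat.of C)).presheaf.germ ⊤ q trivial
      ((Spec.map (CommRingCat.ofHom ι)).appTop ((Scheme.ΓSpecIso (CommRingCat.of A)).inv a)) = _
  rw [← CommRingCat.comp_apply (Scheme.ΓSpecIso (CommRingCat.of A)).inv (Spec.map (CommRingCat.ofHom ι)).appTop,
    ← Scheme.ΓSpecIso_inv_naturality]
  rfl

theorem omega_mem {C : Type u} [CommRing C] (q : Spec (CommRingCat.of C)) (c : C) :
    omega q c ∈ maximalIdeal _ ↔ c ∈ q.asIdeal := by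
  rw [IsLocalRing.mem_maximalIdeal, mem_nonunits_iff]
  have h : q ∈ (Spec (CommRingCat.of C)).basicOpen ((Scheme.ΓSpecIso (CommRingCat.of C)).inv c) ↔ IsUnit (omega q c) :=
    Scheme.mem_basicOpen_top _ _ _
  rw [← h, basicOpen_eq_of_affine]
  exact not_not

theorem fromSpecStalk_comp (f : X ⟶ Spec (CommRingCat.of A)) (x : X) :
    X.fromSpecStalk x ≫ f = Spec.map (CommRingCat.ofHom (phi f x)) := by
  have hf : f = X.toSpecΓ ≫ Spec.map (CommRingCat.ofHom (Coh.toGlobal f)) := by
    have h := Scheme.toSpecΓ_naturality f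
    rw [← SpecMap_ΓSpecIso_hom] at h
    have h' := congrArg (fun m => m ≫ Spec.map (Scheme.ΓSpecIso (CommRingCat.of A)).inv) h
    simp only [Category.assoc, ← Spec.map_comp, Iso.inv_hom_id, Spec.map_id, Category.comp_id] at h'
    exact h'
  conv_lhs => rw [hf, ← Category.assoc, Scheme.fromSpecStalk_toSpecΓ, ← Spec.map_comp]
  rfl

/-- `a` generates the `D`-th power of the inverse image at `x`. -/
def Gen (f : X ⟶ Spec (CommRingCat.of A)) (M : Ideal A) (D : ℕ) (a : A) (x : X) : Prop :=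
  a ∈ M ^ D ∧ (M ^ D).map (phi f x) = Ideal.span {phi f x a}

/-- `a` vanishes at `x` as a section of the `D`-th power of the inverse image. -/
def GVan (f : X ⟶ Spec (CommRingCat.of A)) (M : Ideal A) (D : ℕ) (a : A) (x : X) : Prop :=
  phi f x a ∈ maximalIdeal (X.presheaf.stalk x) * (M ^ D).map (phi f x)

namespace Gen

variable {f : X ⟶ Spec (CommRingCat.of A)} {M : Ideal A} {x : X}

theorem one : Gen f M 0 1 x :=
  ⟨by simp, by rw [pow_zero, Ideal.one_eq_top, Ideal.map_top, map_one, Ideal.span_singleton_one]⟩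

theorem mul {D e : ℕ} {a b : A} (ha : Gen f M D a x) (hb : Gen f M e b x) : Gen f M (D + e) (a * b) x :=
  ⟨by rw [pow_add]; exact Ideal.mul_mem_mul ha.1 hb.1,
    by rw [pow_add, Ideal.map_mul, ha.2, hb.2, Ideal.span_singleton_mul_span_singleton, map_mul]⟩

theorem pow {D : ℕ} {a : A} (ha : Gen f M D a x) (n : ℕ) : Gen f M (D * n) (a ^ n) x := by
  induction n with
  | zero => rw [mul_zero, pow_zero]; exact one
  | succ n ih => rw [Nat.mul_succ, pow_succ]; exact ih.mul ha

end Gen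

theorem GVan.mul_left {f : X ⟶ Spec (CommRingCat.of A)} {M : Ideal A} {x : X} {D e : ℕ} {a b : A}
    (ha : GVan f M D a x) (hb : b ∈ M ^ e) : GVan f M (D + e) (a * b) x := by
  show phi f x (a * b) ∈ _
  rw [map_mul, pow_add, Ideal.map_mul, ← mul_assoc]
  exact Ideal.mul_mem_mul ha (Ideal.mem_map_of_mem _ hb)

variable [IsIntegral X] {f : X ⟶ Spec (CommRingCat.of A)} {M : Ideal A}

theorem gen_iff_not_van (hP : ∀ x, ∃ t, t ≠ 0 ∧ M.map (phi f x) = Ideal.span {t}) {D : ℕ} {a : A} (ha : a ∈ M ^ D)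
    (x : X) : Gen f M D a x ↔ ¬ GVan f M D a x := by
  obtain ⟨t, ht0, ht⟩ := hP x
  have htD : (M ^ D).map (phi f x) = Ideal.span {t ^ D} := by rw [Ideal.map_pow, ht, Ideal.span_singleton_pow]
  obtain ⟨c, hc⟩ := Ideal.mem_span_singleton'.1 (htD ▸ Ideal.mem_map_of_mem (phi f x) ha)
  have hV : GVan f M D a x ↔ c ∈ maximalIdeal (X.presheaf.stalk x) := by
    show phi f x a ∈ _ ↔ _
    rw [htD, Ideal.mem_mul_span_singleton, ← hc]
    exact ⟨fun ⟨z, hz, hzc⟩ => mul_right_cancel₀ (pow_ne_zero D ht0) hzc ▸ hz, fun h => ⟨c, h, rfl⟩⟩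
  refine ⟨fun hg hv => ?_, fun hv => ⟨ha, ?_⟩⟩
  · have h1 : t ^ D ∈ Ideal.span {phi f x a} := hg.2 ▸ htD.ge (Ideal.mem_span_singleton_self _)
    obtain ⟨r, hr⟩ := Ideal.mem_span_singleton'.1 h1
    rw [← hc, ← mul_assoc] at hr
    exact (hV.1 hv) (IsUnit.of_mul_eq_one r
      (mul_right_cancel₀ (pow_ne_zero D ht0) (by rw [one_mul, mul_comm c r]; exact hr)))
  · have hu : IsUnit c := notMem_maximalIdeal.1 fun h => hv (hV.2 h)
    rw [htD, ← hc, Ideal.span_singleton_mul_left_unit hu]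

section Chart

variable (hb : BlowUp.IsBlowUp f (BlowUpLib.specIdeal M)) (hP : ∀ x, ∃ t, t ≠ 0 ∧ M.map (phi f x) = Ideal.span {t})
  {g : A} (hg : g ∈ M) {c : Spec (CommRingCat.of (BlowUp.affineAlgebra A M g)) ⟶ X} [IsOpenImmersion c]
  (hc : c ≫ f = Spec.map (CommRingCat.ofHom (algebraMap A (BlowUp.affineAlgebra A M g))))

include hc

theorem chart_phi (q : Spec (CommRingCat.of (BlowUp.affineAlgebra A M g))) (a : A) :
    c.stalkMap q (phi f (c q) a) = omega q (algebraMap A (BlowUp.affineAlgebra A M g) a) := by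
  rw [stalkMap_phi c f _ hc, omega_phi]
  rfl

include hg

theorem gen_chart (q : Spec (CommRingCat.of (BlowUp.affineAlgebra A M g))) : Gen f M 1 g (c q) := by
  refine ⟨by rwa [pow_one], ?_⟩
  let e := (asIso (c.stalkMap q)).commRingCatIsoToRingEquiv
  have hphi : (e.toRingHom.comp (phi f (c q))) = (omega q).comp (algebraMap A (BlowUp.affineAlgebra A M g)) :=
    RingHom.ext fun a => chart_phi hc q a
  apply Function.LeftInverse.injective (g := Ideal.comap e.toRingHom) (f := Ideal.map e.toRingHom)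
    fun I => Ideal.comap_map_of_bijective e.toRingHom e.bijective
  rw [pow_one, Ideal.map_map, hphi, ← Ideal.map_map, (BlowUpLib.isChart_affineAlgebra hg).span, Ideal.map_span,
    Ideal.map_span, Set.image_singleton, Set.image_singleton]
  exact congrArg (fun z => Ideal.span {z}) (chart_phi hc q g).symm

include hP

theorem van_chart_iff (q : Spec (CommRingCat.of (BlowUp.affineAlgebra A M g))) {L : ℕ} {γ : A}
    {F : BlowUp.affineAlgebra A M g}
    (hF : algebraMap A (BlowUp.affineAlgebra A M g) γ = F * algebraMap A (BlowUp.affineAlgebra A M g) g ^ L) :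
    GVan f M L γ (c q) ↔ F ∈ q.asIdeal := by
  let e := (asIso (c.stalkMap q)).commRingCatIsoToRingEquiv
  obtain ⟨t, ht0, ht⟩ := hP (c q)
  have hG := gen_chart hg hc q
  have hg0 : phi f (c q) g ≠ 0 := fun h0 => ht0 <| by
    have h1 := hG.2
    rw [pow_one, ht, h0, Ideal.span_singleton_zero, Ideal.span_singleton_eq_bot] at h1
    exact h1
  have hγ : phi f (c q) γ = e.symm (omega q F) * phi f (c q) g ^ L := by
    apply e.injective
    rw [map_mul, map_pow, e.apply_symm_apply]
    show c.stalkMap q (phi f (c q) γ) = _ * (c.stalkMap q (phi f (c q) g)) ^ L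
    rw [chart_phi hc, chart_phi hc, hF, map_mul, map_pow]
  have hspan : (M ^ L).map (phi f (c q)) = Ideal.span {phi f (c q) g ^ L} := by
    rw [Ideal.map_pow, show M.map (phi f (c q)) = Ideal.span {phi f (c q) g} by simpa only [pow_one] using hG.2,
      Ideal.span_singleton_pow]
  show phi f (c q) γ ∈ _ ↔ _
  rw [hspan, Ideal.mem_mul_span_singleton, hγ, ← omega_mem q F]
  have hmax : ∀ z, z ∈ maximalIdeal (X.presheaf.stalk (c q)) ↔ e z ∈ maximalIdeal _ := fun z => by
    rw [IsLocalRing.mem_maximalIdeal, IsLocalRing.mem_maximalIdeal, mem_nonunits_iff, mem_nonunits_iff,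
      isUnit_map_iff e]
  refine ⟨fun ⟨z, hz, hzc⟩ => ?_, fun h => ⟨_, (hmax _).2 (by rwa [e.apply_symm_apply]), rfl⟩⟩
  have h := (hmax z).1 hz
  rwa [mul_right_cancel₀ (pow_ne_zero L hg0) hzc, e.apply_symm_apply] at h

omit hP
include hb

theorem mem_range_chart {x : X} (hx : M.map (phi f x) = Ideal.span {phi f x g}) (hne : phi f x g ≠ 0) :
    x ∈ Set.range c := by
  obtain ⟨ψ, hψ, -⟩ := (BlowUpLib.isChart_affineAlgebra hg).lift (X.presheaf.stalk x) (phi f x)
    (mem_nonZeroDivisors_of_ne_zero hne) hx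
  haveI := AlgSpLib.flat_fromSpecStalk x
  have hcar : BlowUp.IsEffCartierIdeal ((BlowUpLib.specIdeal M).comap (X.fromSpecStalk x ≫ f)) := by
    rw [Scheme.IdealSheafData.comap_comp]
    exact BlowUpLib.isEffCartier_comap_of_flat _ hb.1
  have h : X.fromSpecStalk x = Spec.map (CommRingCat.ofHom ψ) ≫ c :=
    BlowUpLib.hom_ext hb _ hcar rfl (by
      rw [Category.assoc, hc, ← Spec.map_comp, fromSpecStalk_comp, ← hψ]
      rfl)
  exact ⟨Spec.map (CommRingCat.ofHom ψ) (closedPoint (X.presheaf.stalk x)), by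
    rw [← Scheme.Hom.comp_apply, ← h]; exact Scheme.fromSpecStalk_closedPoint⟩

end Chart

theorem exists_gen_one (hb : BlowUp.IsBlowUp f (BlowUpLib.specIdeal M)) (x : X) : ∃ g, Gen f M 1 g x := by
  obtain ⟨g, hg, c, hci, ⟨q, rfl⟩, hc⟩ := BlowUpLib.exists_chart_spec M hb x
  haveI := hci
  exact ⟨g, gen_chart hg hc q⟩

/-- The locus where an element generates is open. -/
theorem gen_open (hb : BlowUp.IsBlowUp f (BlowUpLib.specIdeal M))
    (hP : ∀ x, ∃ t, t ≠ 0 ∧ M.map (phi f x) = Ideal.span {t}) {D : ℕ} {a : A} (ha : a ∈ M ^ D) :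
    IsOpen {x : X | Gen f M D a x} := by
  refine isOpen_iff_forall_mem_open.2 fun x hx => ?_
  obtain ⟨g, hg, c, hci, ⟨q, rfl⟩, hc⟩ := BlowUpLib.exists_chart_spec M hb x
  haveI := hci
  have hmap := (BlowUpLib.isChart_affineAlgebra hg).span
  obtain ⟨F, hF⟩ : ∃ F, algebraMap A (BlowUp.affineAlgebra A M g) a = F * algebraMap A (BlowUp.affineAlgebra A M g) g ^ D := by
    have h := Ideal.mem_map_of_mem (algebraMap A (BlowUp.affineAlgebra A M g)) ha
    rw [Ideal.map_pow, hmap, Ideal.span_singleton_pow, Ideal.mem_span_singleton'] at h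
    obtain ⟨F, hF⟩ := h
    exact ⟨F, hF.symm⟩
  refine ⟨c '' (PrimeSpectrum.basicOpen F : Set (PrimeSpectrum (BlowUp.affineAlgebra A M g))), ?_, c.isOpenEmbedding.isOpenMap _ (PrimeSpectrum.basicOpen F).isOpen,
    q, fun h => (gen_iff_not_van hP ha _).1 hx ((van_chart_iff hP hg hc q hF).2 h), rfl⟩
  rintro _ ⟨q', hq', rfl⟩
  exact (gen_iff_not_van hP ha _).2 fun h => hq' ((van_chart_iff hP hg hc q' hF).1 h)

/-- An element generating at one point and vanishing at another. -/
theorem exists_sep (hb : BlowUp.IsBlowUp f (BlowUpLib.specIdeal M))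
    (hP : ∀ x, ∃ t, t ≠ 0 ∧ M.map (phi f x) = Ideal.span {t}) {x y : X} (hxy : ¬ y ⤳ x) :
    ∃ (e : ℕ) (v : A), Gen f M e v x ∧ GVan f M e v y := by
  obtain ⟨g, hg, c, hci, ⟨q, rfl⟩, hc⟩ := BlowUpLib.exists_chart_spec M hb x
  haveI := hci
  by_cases hy : GVan f M 1 g y
  · exact ⟨1, g, gen_chart hg hc q, hy⟩
  have hgy := ((gen_iff_not_van hP (by rwa [pow_one]) y).2 hy).2
  rw [pow_one] at hgy
  obtain ⟨t, ht0, ht⟩ := hP y
  obtain ⟨q', rfl⟩ := mem_range_chart hb hg hc hgy fun h0 => ht0 <| by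
    rw [ht, h0, Ideal.span_singleton_zero, Ideal.span_singleton_eq_bot] at hgy
    exact hgy
  obtain ⟨F, hFq', hFq⟩ : ∃ F, F ∈ q'.asIdeal ∧ F ∉ q.asIdeal := Set.not_subset.1 fun hle =>
    hxy (((PrimeSpectrum.le_iff_specializes q' q).1 hle).map c.continuous)
  obtain ⟨N, hN⟩ := exists_frac M hg F.2
  obtain ⟨γ, hγ, he⟩ := hN N le_rfl
  have hF : algebraMap A (BlowUp.affineAlgebra A M g) γ = F * algebraMap A (BlowUp.affineAlgebra A M g) g ^ N :=
    Subtype.ext he.symm
  exact ⟨N, γ, (gen_iff_not_van hP hγ _).2 fun h => hFq ((van_chart_iff hP hg hc q hF).1 h),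
    (van_chart_iff hP hg hc q' hF).2 hFq'⟩

/-- Prime avoidance on the blowing up, in every large degree. -/
theorem exists_gen_at (hb : BlowUp.IsBlowUp f (BlowUpLib.specIdeal M))
    (hP : ∀ x, ∃ t, t ≠ 0 ∧ M.map (phi f x) = Ideal.span {t}) (S : Finset X)
    (hS : ∀ x ∈ S, ∀ y ∈ S, y ⤳ x → y = x) :
    ∃ N : ℕ, ∀ D, N ≤ D → ∃ a ∈ M ^ D, ∀ x ∈ S, Gen f M D a x := by
  classical
  have key : ∀ x ∈ S, ∀ T : Finset X, T ⊆ S → x ∉ T →
      ∃ (e : ℕ) (v : A), Gen f M e v x ∧ ∀ y ∈ T, GVan f M e v y := by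
    intro x hx T
    induction T using Finset.induction with
    | empty => exact fun _ _ => ⟨0, 1, Gen.one, fun y hy => absurd hy (Finset.notMem_empty y)⟩
    | insert y T _ ih =>
      intro hsub hnot
      obtain ⟨e, v, hv, hvT⟩ := ih ((Finset.subset_insert y T).trans hsub) fun h => hnot (Finset.mem_insert_of_mem h)
      obtain ⟨e', v', hv', hvy⟩ := exists_sep hb hP (x := x) (y := y) fun h =>
        hnot (hS x hx y (hsub (Finset.mem_insert_self y T)) h ▸ Finset.mem_insert_self y T)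
      refine ⟨e + e', v * v', hv.mul hv', fun z hz => ?_⟩
      rcases Finset.mem_insert.1 hz with rfl | hz
      · rw [mul_comm v, add_comm e]
        exact hvy.mul_left hv.1
      · exact (hvT z hz).mul_left hv'.1
  choose! e v hv using fun x (hx : x ∈ S) => key x hx (S.erase x) (Finset.erase_subset x S) (Finset.notMem_erase x S)
  choose g hg using exists_gen_one (f := f) (M := M) hb
  refine ⟨S.sup e, fun D hD => ?_⟩
  let w : X → A := fun x => v x * g x ^ (D - e x)
  have hgen : ∀ x ∈ S, Gen f M D (w x) x := fun x hx => by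
    have h := (hv x hx).1.mul ((hg x).pow (D - e x))
    rwa [one_mul, Nat.add_sub_cancel' ((Finset.le_sup hx).trans hD)] at h
  have hvan : ∀ x ∈ S, ∀ y ∈ S, y ≠ x → GVan f M D (w x) y := fun x hx y hy hne => by
    have h := ((hv x hx).2 y (Finset.mem_erase.2 ⟨hne, hy⟩)).mul_left (b := g x ^ (D - e x)) (e := D - e x)
      (Ideal.pow_mem_pow (by simpa using (hg x).1) _)
    rwa [Nat.add_sub_cancel' ((Finset.le_sup hx).trans hD)] at h
  have hmem : ∑ x ∈ S, w x ∈ M ^ D := Ideal.sum_mem _ fun x hx => (hgen x hx).1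
  refine ⟨_, hmem, fun x hx => (gen_iff_not_van hP hmem x).2 fun h => ?_⟩
  refine (gen_iff_not_van hP (hgen x hx).1 x).1 (hgen x hx) ?_
  have h2 : phi f x (∑ y ∈ S.erase x, w y) ∈ maximalIdeal (X.presheaf.stalk x) * (M ^ D).map (phi f x) := by
    rw [map_sum]
    exact Ideal.sum_mem _ fun y hy => hvan y (Finset.mem_of_mem_erase hy) x hx (Finset.ne_of_mem_erase hy).symm
  show phi f x (w x) ∈ _
  have h3 : phi f x (w x) = phi f x (∑ y ∈ S, w y) - phi f x (∑ y ∈ S.erase x, w y) := by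
    rw [← map_sub, ← Finset.add_sum_erase S w hx, add_sub_cancel_right]
  rw [h3]
  exact sub_mem h h2

end RatModLib

end
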