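import Mathlib
import Groth.Agent.RatModLib.Sections
import Groth.Agent.SurfNumLib.IdealMul
import Groth.Agent.BlowPtLib.Plane
import Groth.Agent.ExtShLib.DivExt
import Groth.Agent.SurfExtLib.Bidual
import Groth.Agent.HilbPolyLib.Twist
import Groth.Agent.SerreVanLib.CurveAmple

/-! The graded pieces of the powers of a principalized ideal. -/

set_option autoImplicit false
set_option linter.style.haveILetI false
set_option linter.unusedSectionVars false
set_option maxHeartbeats 2000000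
set_option backward.isDefEq.respectTransparency false
set_option backward.isDefEq.respectTransparency.types false
universe u

open CategoryTheory CategoryTheory.Limits AlgebraicGeometry TopologicalSpace Opposite
open LichtLib (ideFn)
open AmpleLib (shT)

noncomputable section

namespace RatModLib

variable {X : Scheme.{u}}

/-- The sequence `0 → L ⊗ I → L → L ⊗ O/I → 0` for `L = Iⁿ`. -/
theorem exists_seq [IsIntegral X] {I J : X.IdealSheafData} (hJ : BlowUp.IsEffCartierIdeal J) (hI : BlowUp.IsEffCartierIdeal I) :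
    ∃ (e₁ : CohB1.tensorMod (ClSub.idealMod J) (ClSub.idealMod I) ≅ ClSub.idealMod (J * I))
      (e₂ : CohB1.tensorMod (ClSub.idealMod J) (Coh.structureModule X) ≅ ClSub.idealMod J),
      ((CurvLib.idealSeq I).map (CurvLib.tensorLeft' (ClSub.idealMod J))).f ≫ e₂.hom ≫ ClSub.idealModι J =
        e₁.hom ≫ ClSub.idealModι (J * I) := by
  obtain ⟨φ, hφ, hcov⟩ := SurfNumLib.exists_idealMod_mul hJ hI
  refine ⟨φ, HilbPolyLib.swapIso _ _ ≪≫ HilbPolyLib.unitLeft _, ?_⟩
  let ι' := (W : X.affineOpens) × {p : Γ(ClSub.idealMod J, W.1) × Γ(ClSub.idealMod I, W.1) × Γ(ClSub.idealMod (J * I), W.1) //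
    AmpleLib.GenOn (ClSub.idealMod J) p.1 ∧ AmpleLib.GenOn (ClSub.idealMod I) p.2.1 ∧
      AmpleLib.GenOn (ClSub.idealMod (J * I)) p.2.2 ∧ SurfNumLib.val J p.1 * SurfNumLib.val I p.2.1 = SurfNumLib.val (J * I) p.2.2}
  refine AmpleThLib.hom_ext_gens (fun a : ι' => a.1.1) (fun a : ι' => shT a.2.1.1 a.2.1.2.1) hcov
    (fun a : ι' => AmpleThLib.shT_genOn a.2.2.1 a.2.2.2.1) fun a => ?_
  obtain ⟨W, ⟨⟨s, t, r⟩, hs, ht, hr, hc⟩⟩ := a
  have h1 := hφ ⟨W, ⟨(s, t, r), hs, ht, hr, hc⟩⟩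
  dsimp only at hc h1 ⊢
  let u : Γ(X, W.1) := (ClSub.idealModι I).app W.1 t
  have e1 : ((CurvLib.idealSeq I).map (CurvLib.tensorLeft' (ClSub.idealMod J))).f.app W.1 (shT s t) =
      shT s (show Γ(Coh.structureModule X, W.1) from u) :=
    SerreVanLib.tmap_shT (ClSub.idealMod J) (ClSub.idealModι I) W.1 s t
  have e2 : (HilbPolyLib.swapIso (ClSub.idealMod J) (Coh.structureModule X)).hom.app W.1
      (shT s (show Γ(Coh.structureModule X, W.1) from u)) = shT (show Γ(Coh.structureModule X, W.1) from u) s :=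
    SurfExtLib.tensSwap_shTm (Coh.structureModule X) (ClSub.idealMod J) s _
  have e3 : (HilbPolyLib.unitLeft (ClSub.idealMod J)).hom.app W.1 (shT (show Γ(Coh.structureModule X, W.1) from u) s) =
      u • s := ExtShLib.unitLeft_shTm (ClSub.idealMod J) u s
  show (ClSub.idealModι J).app W.1 ((HilbPolyLib.unitLeft (ClSub.idealMod J)).hom.app W.1
    ((HilbPolyLib.swapIso (ClSub.idealMod J) (Coh.structureModule X)).hom.app W.1
      (((CurvLib.idealSeq I).map (CurvLib.tensorLeft' (ClSub.idealMod J))).f.app W.1 (shT s t)))) =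
    (ClSub.idealModι (J * I)).app W.1 (φ.hom.app W.1 (shT s t))
  rw [e1, e2, e3, h1]
  refine (SurfNumLib.val_smul J u s).trans ?_
  rw [mul_comm]
  exact hc

variable {A : Type u} [CommRing A] [X.Over (Spec (CommRingCat.of A))]

/-- Global functions, linearly. -/
def h0O (hinj : Function.Injective (Coh.toGlobal (X ↘ Spec (CommRingCat.of A))))
    (hsurj : Function.Surjective (Coh.toGlobal (X ↘ Spec (CommRingCat.of A)))) :
    Coh.HH X (Coh.structureModule X) 0 ≃ₗ[A] A :=
  { (ModifLib.h0Sec (X := X) (Coh.structureModule X)).trans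
      (RingEquiv.ofBijective (Coh.toGlobal (X ↘ Spec (CommRingCat.of A))) ⟨hinj, hsurj⟩).symm.toAddEquiv with
    map_smul' := fun c x => by
      let e := RingEquiv.ofBijective (Coh.toGlobal (X ↘ Spec (CommRingCat.of A))) ⟨hinj, hsurj⟩
      show e.symm (ModifLib.h0Sec (X := X) (Coh.structureModule X) (c • x)) =
        c * e.symm (ModifLib.h0Sec (X := X) (Coh.structureModule X) x)
      apply e.injective
      rw [map_mul, e.apply_symm_apply, e.apply_symm_apply]
      exact ModifLib.h0Sec_smul (Coh.structureModule X) c x }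

theorem toGlobal_h0O (hinj : Function.Injective (Coh.toGlobal (X ↘ Spec (CommRingCat.of A))))
    (hsurj : Function.Surjective (Coh.toGlobal (X ↘ Spec (CommRingCat.of A)))) (x : Coh.HH X (Coh.structureModule X) 0) :
    Coh.toGlobal (X ↘ Spec (CommRingCat.of A)) (h0O hinj hsurj x) = ModifLib.h0Sec (X := X) (Coh.structureModule X) x :=
  (RingEquiv.ofBijective (Coh.toGlobal (X ↘ Spec (CommRingCat.of A))) ⟨hinj, hsurj⟩).apply_symm_apply _

variable (hinj : Function.Injective (Coh.toGlobal (X ↘ Spec (CommRingCat.of A))))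
  (hsurj : Function.Surjective (Coh.toGlobal (X ↘ Spec (CommRingCat.of A))))

/-- Sections of an ideal, as elements of the base. -/
def kap (J : X.IdealSheafData) : Coh.HH X (ClSub.idealMod J) 0 →ₗ[A] A :=
  (h0O hinj hsurj).toLinearMap.comp (ModifLib.hL (ClSub.idealModι J) 0)

theorem kap_injective (J : X.IdealSheafData) : Function.Injective (kap hinj hsurj J) := fun x y h => by
  apply (ModifLib.h0Sec (X := X) (ClSub.idealMod J)).injective
  apply LichtLib.ideFn_injective J ⊤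
  have h' := congrArg (ModifLib.h0Sec (X := X) (Coh.structureModule X)) ((h0O hinj hsurj).injective h)
  rwa [ModifLib.h0Sec_map, ModifLib.h0Sec_map] at h'

theorem range_kap (J : X.IdealSheafData) (K : Ideal A)
    (hK : ∀ a : A, In J (Coh.toGlobal (X ↘ Spec (CommRingCat.of A)) a) ↔ a ∈ K) :
    LinearMap.range (kap hinj hsurj J) = K := by
  refine SetLike.ext fun a => ⟨?_, fun ha => ?_⟩
  · rintro ⟨x, rfl⟩
    refine (hK _).1 ?_
    show In J (Coh.toGlobal _ (h0O hinj hsurj (ModifLib.hL (ClSub.idealModι J) 0 x)))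
    rw [toGlobal_h0O, ModifLib.h0Sec_map]
    exact in_of_section _
  · obtain ⟨t, ht⟩ := ((hK a).2 ha).exists_section
    refine ⟨(ModifLib.h0Sec (X := X) (ClSub.idealMod J)).symm t, hinj ?_⟩
    show Coh.toGlobal _ (h0O hinj hsurj (ModifLib.hL (ClSub.idealModι J) 0 _)) = _
    rw [toGlobal_h0O, ModifLib.h0Sec_map, AddEquiv.apply_symm_apply]
    exact ht

/-- **Cohomology of `Iⁿ ⊗ O/I`.** -/
theorem graded_piece [IsIntegral X] [CompactSpace X] [X.IsSeparated] (I : X.IdealSheafData) (hI : BlowUp.IsEffCartierIdeal I)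
    (M : Ideal A)
    (hK : ∀ (n : ℕ) (a : A), In (I ^ n) (Coh.toGlobal (X ↘ Spec (CommRingCat.of A)) a) ↔ a ∈ M ^ n)
    (h1 : ∀ n : ℕ, Subsingleton (Coh.HH X (ClSub.idealMod (I ^ n)) 1))
    (h2 : ∀ G : X.Modules, Coh.IsQCoh G → Subsingleton (Coh.HH X G 2))
    (hinj : Function.Injective (Coh.toGlobal (X ↘ Spec (CommRingCat.of A))))
    (hsurj : Function.Surjective (Coh.toGlobal (X ↘ Spec (CommRingCat.of A)))) (n : ℕ) :
    Subsingleton (Coh.HH X (CohB1.tensorMod (CohB1.tensorPow (ClSub.idealMod I) n) (ClSub.quotMod I)) 1) ∧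
      Module.length A (Coh.HH X (CohB1.tensorMod (CohB1.tensorPow (ClSub.idealMod I) n) (ClSub.quotMod I)) 0) =
        Module.length A (↥(M ^ n) ⧸ (Submodule.comap (M ^ n).subtype (M ^ (n + 1)))) := by
  obtain ⟨hJ, ⟨p⟩⟩ := BlowPtLib.nonempty_idealMod_pow I hI n
  let J := I ^ n
  let S := (CurvLib.idealSeq I).map (CurvLib.tensorLeft' (ClSub.idealMod J))
  have hS : S.ShortExact :=
    HilbPolyLib.shortExact_tensor (IntMultLib.isInvertible_idealMod _ hJ) (CurvLib.idealSeq_shortExact I)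
  obtain ⟨e₁, e₂, he⟩ := exists_seq hJ hI
  have hpow : J * I = I ^ (n + 1) := (pow_succ I n).symm
  let T := CohB1.tensorMod (CohB1.tensorPow (ClSub.idealMod I) n) (ClSub.quotMod I)
  let eT : T ≅ S.X₃ := HilbPolyLib.congrLeft p (ClSub.quotMod I)
  haveI hq1 : Coh.IsQCoh (ClSub.idealMod (J * I)) := SweepSix.ConormalSpec.isQCoh_idealMod _
  have hH2 : Subsingleton (Coh.HH X S.X₁ 2) := SerreVanLib.subsingleton_HH_of_iso e₁ 2 (h2 _ hq1)
  have hH1a : Subsingleton (Coh.HH X S.X₂ 1) := SerreVanLib.subsingleton_HH_of_iso e₂ 1 (h1 n)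
  have hH1b : Subsingleton (Coh.HH X S.X₁ 1) := SerreVanLib.subsingleton_HH_of_iso e₁ 1 (hpow ▸ h1 (n + 1))
  refine ⟨SerreVanLib.subsingleton_HH_of_iso eT 1 (HodgePnLib.sub₃ (S := S) hS hH1a hH2), ?_⟩
  rw [(ModifLib.hLIso (A := A) eT 0).length_eq]
  let g : Coh.HH X S.X₂ 0 →ₗ[A] Coh.HH X S.X₃ 0 := ModifLib.hL S.g 0
  have hg : Function.Surjective g := fun y => LichtLib.surjective_g hS (p := 0) hH1b y
  let κ : Coh.HH X S.X₂ 0 →ₗ[A] A := (kap hinj hsurj J).comp (ModifLib.hLIso (A := A) e₂ 0).toLinearMap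
  have hκinj : Function.Injective κ := (kap_injective hinj hsurj J).comp (ModifLib.hLIso (A := A) e₂ 0).injective
  have hκ : LinearMap.range κ = M ^ n := by
    rw [LinearMap.range_comp_of_range_eq_top _ (LinearEquiv.range _)]
    exact range_kap hinj hsurj J _ (hK n)
  have hker : ∀ y, g y = 0 ↔ κ y ∈ M ^ (n + 1) := fun y => by
    rw [← range_kap hinj hsurj (J * I) (M ^ (n + 1)) (fun a => hpow ▸ hK (n + 1) a)]
    have hcomp : ∀ w, κ (ModifLib.hL S.f 0 w) = kap hinj hsurj (J * I) (ModifLib.hLIso (A := A) e₁ 0 w) := fun w => by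
      show h0O hinj hsurj (ModifLib.hL (A := A) (ClSub.idealModι J) 0 (ModifLib.hL (A := A) e₂.hom 0 (ModifLib.hL (A := A) S.f 0 w))) =
        h0O hinj hsurj (ModifLib.hL (A := A) (ClSub.idealModι (J * I)) 0 (ModifLib.hL (A := A) e₁.hom 0 w))
      refine congrArg _ ?_
      refine ((ModifLib.hL_comp (A := A) _ _ 0 _).symm.trans (ModifLib.hL_comp (A := A) _ _ 0 _).symm).trans ?_
      refine Eq.trans ?_ (ModifLib.hL_comp (A := A) _ _ 0 _)
      exact congrArg (fun ψ => ModifLib.hL (A := A) ψ 0 w) he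
    constructor
    · intro hy
      obtain ⟨w, rfl⟩ := AtlasCoh.hExact₂ (QCohLib.toAbF_shortExact hS) 0 y hy
      exact ⟨_, (hcomp w).symm⟩
    · rintro ⟨v, hv⟩
      obtain ⟨w, rfl⟩ := (ModifLib.hLIso (A := A) e₁ 0).surjective v
      obtain rfl : ModifLib.hL S.f 0 w = y := hκinj ((hcomp w).trans hv)
      show ModifLib.hL (A := A) S.g 0 (ModifLib.hL (A := A) S.f 0 w) = 0
      rw [← ModifLib.hL_comp, S.zero]
      show Sheaf.H.map ((QCohLib.toAbF X).map (0 : S.X₁ ⟶ S.X₃)) 0 w = 0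
      rw [Functor.map_zero]
      exact (congrArg (fun e => Abelian.Ext.comp _ e (add_zero 0)) (Abelian.Ext.mk₀_zero _ _)).trans
        (Abelian.Ext.comp_zero ..)
  let π : ↥(M ^ n) →ₗ[A] Coh.HH X S.X₃ 0 :=
    g.comp ((LinearEquiv.ofInjective κ hκinj).symm.toLinearMap.comp (LinearEquiv.ofEq _ _ hκ.symm).toLinearMap)
  have hπ : Function.Surjective π := hg.comp ((LinearEquiv.ofInjective κ hκinj).symm.surjective.comp (LinearEquiv.ofEq _ _ hκ.symm).surjective)
  have hπk : LinearMap.ker π = Submodule.comap (M ^ n).subtype (M ^ (n + 1)) := by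
    ext a
    rw [LinearMap.mem_ker]
    show g ((LinearEquiv.ofInjective κ hκinj).symm (LinearEquiv.ofEq _ _ hκ.symm a)) = 0 ↔ _
    rw [hker]
    have : κ ((LinearEquiv.ofInjective κ hκinj).symm (LinearEquiv.ofEq _ _ hκ.symm a)) = (a : A) :=
      congrArg Subtype.val ((LinearEquiv.ofInjective κ hκinj).apply_symm_apply (LinearEquiv.ofEq _ _ hκ.symm a))
    rw [this]
    rfl
  exact ((π.quotKerEquivOfSurjective hπ).symm ≪≫ₗ Submodule.quotEquivOfEq _ _ hπk).length_eq

end RatModLib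

end
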