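import Mathlib
import Groth.Agent.ModifLib.Leray
import Groth.Agent.ModifLib.Support
import Groth.Agent.MiscFlat6.QALocus
import Groth.Agent.EulerRpushLib.Exceptional
import Groth.Agent.FibVanLib.General
import Groth.Agent.RpushLib.Vanish
import Groth.Agent.PtBlowLib.Vanish

/-! Vanishing of the first higher direct image of the structure sheaf: basic properties. -/

set_option autoImplicit false
set_option linter.style.haveILetI false
set_option linter.unusedSectionVars false
set_option maxHeartbeats 1000000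
set_option backward.isDefEq.respectTransparency false
set_option backward.isDefEq.respectTransparency.types false
universe u

open CategoryTheory CategoryTheory.Limits AlgebraicGeometry TopologicalSpace

namespace RatModLib

/-- The structure sheaf has no first cohomology. -/
def H1z (Z : Scheme.{u}) : Prop := Subsingleton (Coh.HH Z (Coh.structureModule Z) 1)

theorem h1z_iso {Z Z' : Scheme.{u}} (e : Z ≅ Z') (h : H1z Z') : H1z Z := by
  haveI : Coh.IsQCoh (Coh.structureModule Z) := QCohLib.isQCoh_unit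
  haveI : IsIso (ClSub.unitToPush e.hom) :=
    CohCmpLib.isIso_unitToPush_of_app e.hom fun U => inferInstance
  obtain ⟨e'⟩ := QCohLib.nonempty_HH_push e.hom (Coh.structureModule Z) 1
  exact @Equiv.subsingleton _ _ e'.toEquiv
    (SerreVanLib.subsingleton_HH_of_iso (asIso (ClSub.unitToPush e.hom)).symm 1 h)

theorem h1z_of_isAffine (Z : Scheme.{u}) [IsAffine Z] : H1z Z := by
  haveI : Coh.IsQCoh (Coh.structureModule Z) := QCohLib.isQCoh_unit
  exact QCohLib.subsingleton_HH_affine _ 1 one_pos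

theorem h1z_of_isEmpty (Z : Scheme.{u}) [IsEmpty Z] : H1z Z :=
  EulerRpushLib.subsingleton_HH_of_isEmpty _ 1

theorem hhon_iff {R : Scheme.{u}} (U : R.Opens) :
    Subsingleton (Coh.HHon R (Coh.structureModule R) U 1) ↔ H1z (U : Scheme.{u}) := by
  obtain ⟨o⟩ := MiscFlat6.nonempty_restrict_structureModule U.ι
  exact ⟨fun h => SerreVanLib.subsingleton_HH_of_iso o.symm 1 h,
    fun h => SerreVanLib.subsingleton_HH_of_iso o 1 h⟩

/-- `R¹p_*O = 0`, read over the affine opens of the base. -/
def Van {R Y : Scheme.{u}} (p : R ⟶ Y) : Prop :=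
  ∀ V : Y.Opens, IsAffineOpen V → H1z (p ⁻¹ᵁ V : Scheme.{u})

theorem van_of_isAffineHom {R Y : Scheme.{u}} (p : R ⟶ Y) [IsAffineHom p] : Van p := fun V hV => by
  haveI : IsAffine (p ⁻¹ᵁ V : Scheme.{u}) := hV.preimage p
  exact h1z_of_isAffine _

section

variable {R Y : Scheme.{u}} (p : R ⟶ Y) [QuasiCompact p] [QuasiSeparated p]

theorem subsingleton_sections_of_isZero {N : Y.Modules} (h : IsZero N) (W : Y.Opens) :
    Subsingleton Γ(N, W) := ⟨fun a b => by
  have h0 : (𝟙 N : N ⟶ N) = 0 := h.eq_of_src _ _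
  have e : ∀ c : Γ(N, W), c = 0 := fun c => by
    have := congrArg (fun φ : N ⟶ N => φ.app W c) h0
    simpa using this
  rw [e a, e b]⟩

theorem van_of_local [HasInjectiveResolutions R.Modules]
    (h : ∀ y : Y, ∃ V : Y.Opens, y ∈ V ∧ ∀ W : Y.Opens, IsAffineOpen W → W ≤ V → H1z (p ⁻¹ᵁ W : Scheme.{u})) :
    Van p := fun W hW => by
  haveI : Coh.IsQCoh (Coh.structureModule R) := QCohLib.isQCoh_unit
  have hz : IsZero ((Coh.RpushAb p 1).obj (Coh.toAb (Coh.structureModule R))) :=
    RpushLib.isZero_rpushAb p (Coh.structureModule R) 1 fun y => by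
      obtain ⟨V, hy, hV⟩ := h y
      exact ⟨V, hy, fun W hW hWV => (hhon_iff _).2 (hV W hW hWV)⟩
  rw [EulerRpushLib.isZero_rpushAb_iff] at hz
  haveI := subsingleton_sections_of_isZero hz W
  exact (hhon_iff _).1 (RpushLib.rpushSectionsEquiv p (Coh.structureModule R) 1 hW).symm.injective.subsingleton

theorem Van.isZero [HasInjectiveResolutions R.Modules] (h : Van p) :
    IsZero ((Coh.Rpush p 1).obj (Coh.structureModule R)) := by
  haveI : Coh.IsQCoh (Coh.structureModule R) := QCohLib.isQCoh_unit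
  refine (EulerRpushLib.isZero_rpushAb_iff p _ 1).1
    (RpushLib.isZero_rpushAb p (Coh.structureModule R) 1 fun y => ⟨⊤, trivial, fun W hW _ => ?_⟩)
  exact (hhon_iff _).2 (h W hW)

theorem van_of_isZero [HasInjectiveResolutions R.Modules]
    (hz : IsZero ((Coh.Rpush p 1).obj (Coh.structureModule R))) : Van p := fun W hW => by
  haveI : Coh.IsQCoh (Coh.structureModule R) := QCohLib.isQCoh_unit
  haveI := subsingleton_sections_of_isZero hz W
  exact (hhon_iff _).1 (RpushLib.rpushSectionsEquiv p (Coh.structureModule R) 1 hW).symm.injective.subsingleton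

theorem Van.restrict (h : Van p) (V : Y.Opens) : Van (p ∣_ V) := fun W hW => by
  obtain ⟨e⟩ := FibVanLib.nonempty_preimage_iso p V W
  exact h1z_iso e (h _ (hW.image_of_isOpenImmersion V.ι))

theorem h1z_of_van_restrict (V : Y.Opens) (h : Van (p ∣_ V)) (W : Y.Opens) (hW : IsAffineOpen W) (hWV : W ≤ V) :
    H1z (p ⁻¹ᵁ W : Scheme.{u}) := by
  have e1 : V.ι ''ᵁ V.ι ⁻¹ᵁ W = W := by
    rw [Scheme.Hom.image_preimage_eq_opensRange_inf, Scheme.Opens.opensRange_ι, inf_eq_right.2 hWV]
  have hW' : IsAffineOpen (V.ι ⁻¹ᵁ W) := by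
    rw [← V.ι.isAffineOpen_iff_of_isOpenImmersion, e1]
    exact hW
  obtain ⟨e⟩ := FibVanLib.nonempty_preimage_iso p V (V.ι ⁻¹ᵁ W)
  exact h1z_iso (R.isoOfEq (congrArg (p ⁻¹ᵁ ·) e1).symm ≪≫ e.symm) (h _ hW')

/-- Sections over an affine base. -/
noncomputable def topEquiv [IsAffine Y] [HasInjectiveResolutions R.Modules] (M : R.Modules) [Coh.IsQCoh M] (n : ℕ) :
    Γ((Coh.Rpush p n).obj M, ⊤) ≃+ Coh.HH R M n :=
  let F := RpushLib.FlRes.ofInjective (injectiveResolution M)
  ((AddEquiv.ofBijective ((RpushLib.rpushIso p (injectiveResolution M) n).hom.app ⊤).hom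
      (ConcreteCategory.bijective_of_isIso ((RpushLib.rpushIso p (injectiveResolution M) n).hom.app ⊤))).trans
    (LinearEquiv.ofBijective (RpushLib.toHom (RpushLib.pushCx p F.K) n ⊤)
      (RpushLib.toHom_bijective (RpushLib.localizes_pushCx p F n) (isAffineOpen_top Y))).symm.toAddEquiv).trans
    ((AddEquiv.ofBijective (RpushLib.phPush p F.K n ⊤).toAddMonoidHom
        (RpushLib.phPush_bijective p F.K n ⊤)).trans
      (F.hhEquiv (p.app ⊤).hom n))

end

/-- A proper morphism to an affine scheme with fibres of dimension at most one has no `H²`. -/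
theorem subsingleton_H2 {Y S : Scheme.{u}} (h : Y ⟶ S) [IsProper h] [IsAffine S]
    [HasInjectiveResolutions Y.Modules] (hd : ∀ s : S, topologicalKrullDim ↥(h.fiber s) ≤ (1 : ℕ))
    (M : Y.Modules) [Coh.IsQCoh M] : Subsingleton (Coh.HH Y M 2) := by
  have hz : IsZero ((Coh.RpushAb h 2).obj (Coh.toAb M)) := RpushLib.isZero_rpushAb h M 2 fun s => by
    obtain ⟨V, hs, -, hV⟩ := FibVanLib.exists_nhd_vanish h s 1 (hd s)
    exact ⟨V, hs, fun W hW hWV => hV W hW hWV _ inferInstance 2 one_lt_two⟩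
  rw [EulerRpushLib.isZero_rpushAb_iff] at hz
  haveI := subsingleton_sections_of_isZero hz (⊤ : S.Opens)
  exact (topEquiv h M 2).symm.injective.subsingleton

theorem h1z_iff_leray_aux (A : Type u) [CommRing A] {R Y : Scheme.{u}} [Y.Over (Spec (CommRingCat.of A))]
    [R.Over (Spec (CommRingCat.of A))] (p : R ⟶ Y)
    (hp : p ≫ (Y ↘ Spec (CommRingCat.of A)) = R ↘ Spec (CommRingCat.of A)) [HasInjectiveResolutions R.Modules]
    [IsIso (ClSub.unitToPush p)] (h2 : Subsingleton (Coh.HH Y (Coh.structureModule Y) 2)) :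
    H1z R ↔ H1z Y ∧ Subsingleton Γ((Coh.Rpush p 1).obj (Coh.structureModule R), ⊤) := by
  have e₀ : (Coh.push p).obj (Coh.structureModule R) ≅ Coh.structureModule Y := (asIso (ClSub.unitToPush p)).symm
  have hp2 : Subsingleton (Coh.HH Y ((Coh.push p).obj (Coh.structureModule R)) 2) :=
    SerreVanLib.subsingleton_HH_of_iso e₀ 2 h2
  have hl := ModifLib.length_leray (A := A) p hp (Coh.structureModule R) hp2
  have e₁ : Module.length A (Coh.HH Y ((Coh.push p).obj (Coh.structureModule R)) 1) =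
      Module.length A (Coh.HH Y (Coh.structureModule Y) 1) := (ModifLib.hLIso (A := A) e₀ 1).length_eq
  rw [e₁] at hl
  refine ⟨fun h => ?_, fun ⟨hY, hM⟩ => ?_⟩
  · rw [Module.length_eq_zero_iff.2 h, eq_comm, add_eq_zero, Module.length_eq_zero_iff, Module.length_eq_zero_iff] at hl
    haveI := hl.2
    exact ⟨hl.1, (ModifLib.h0Sec (X := Y) ((Coh.Rpush p 1).obj (Coh.structureModule R))).symm.injective.subsingleton⟩
  · haveI : Subsingleton (Coh.HH Y ((Coh.Rpush p 1).obj (Coh.structureModule R)) 0) :=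
      (ModifLib.h0Sec (X := Y) ((Coh.Rpush p 1).obj (Coh.structureModule R))).injective.subsingleton
    haveI : Subsingleton (Coh.HH Y (Coh.structureModule Y) 1) := hY
    have z1 : Module.length A (Coh.HH Y (Coh.structureModule Y) 1) = 0 := Module.length_eq_zero_iff.2 hY
    have z2 : Module.length A (Coh.HH Y ((Coh.Rpush p 1).obj (Coh.structureModule R)) 0) = 0 :=
      Module.length_eq_zero_iff.2 inferInstance
    rw [z1, z2, add_zero, Module.length_eq_zero_iff] at hl
    exact hl

/-- The low Leray sequence, for vanishing. -/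
theorem h1z_iff_leray {R Y : Scheme.{u}} (p : R ⟶ Y) [HasInjectiveResolutions R.Modules]
    [IsIso (ClSub.unitToPush p)] (h2 : Subsingleton (Coh.HH Y (Coh.structureModule Y) 2)) :
    H1z R ↔ H1z Y ∧ Subsingleton Γ((Coh.Rpush p 1).obj (Coh.structureModule R), ⊤) :=
  letI : Y.Over (Spec (CommRingCat.of Γ(Y, ⊤))) := ⟨Y.toSpecΓ⟩
  letI : R.Over (Spec (CommRingCat.of Γ(Y, ⊤))) := ⟨p ≫ Y.toSpecΓ⟩
  h1z_iff_leray_aux Γ(Y, ⊤) p rfl h2

/-- A module with finite closed support and no global sections is zero. -/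
theorem isZero_of_finite_support {Y : Scheme.{u}} (M : Y.Modules) (hf : (CohB1.support M).Finite)
    (hc : ∀ x ∈ CohB1.support M, IsClosed ({x} : Set Y)) (h : Subsingleton Γ(M, ⊤)) : IsZero M := by
  refine DevissLib.isZero_of_support_empty (Set.eq_empty_of_forall_notMem fun x hx => hx ?_)
  refine subsingleton_of_forall_eq 0 fun a => ?_
  obtain ⟨s, rfl⟩ := CurvLib.surjective_germ_of_finite_support M hf hc subset_rfl x a
  rw [Subsingleton.elim s 0]
  exact map_zero _

end RatModLib
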