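import Mathlib
import Groth.Agent.RatModLib.VanBasic
import Groth.Agent.NormBlowLib.Base
import Groth.Agent.PtBlowLib.Divisorial
import Groth.Agent.RegUFDLib.Basic
import Groth.Agent.S2422
import Groth.Agent.S11555

/-! Modifications of normal surfaces. -/

set_option autoImplicit false
set_option linter.style.haveILetI false
set_option linter.unusedSectionVars false
set_option maxHeartbeats 1000000
set_option backward.isDefEq.respectTransparency false
set_option backward.isDefEq.respectTransparency.types false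
universe u

open CategoryTheory CategoryTheory.Limits AlgebraicGeometry TopologicalSpace

namespace RatModLib

/-- A proper morphism which is an isomorphism over a nonempty open. -/
structure Mod {R Y : Scheme.{u}} (p : R ⟶ Y) : Prop where
  proper : IsProper p
  iso : ∃ U : Y.Opens, (U : Set Y).Nonempty ∧ IsIso (p ∣_ U)

theorem isNormal_of_regular {X : Scheme.{u}} (h : ∀ x : X, IsRegularLocalRing (X.presheaf.stalk x)) :
    Pi1.IsNormalScheme X := fun x => by
  haveI := h x
  haveI : IsDomain (X.presheaf.stalk x) := CommAlgDim.isDomain_of_isRegularLocalRing _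
  haveI := RegUFDLib.uniqueFactorizationMonoid (X.presheaf.stalk x)
  exact ⟨inferInstance, inferInstance⟩

theorem Mod.of_isIso {R Y : Scheme.{u}} [Nonempty Y] (p : R ⟶ Y) [IsIso p] : Mod p :=
  ⟨inferInstance, ⟨⊤, ⟨Classical.arbitrary Y, trivial⟩, inferInstance⟩⟩

variable {R Y : Scheme.{u}} [IsIntegral R] [IsIntegral Y] {p : R ⟶ Y}

theorem Mod.map_generic (hp : Mod p) : p (genericPoint R) = genericPoint Y := by
  obtain ⟨U, hU, hi⟩ := hp.iso
  haveI := hi
  exact ModifLib.map_genericPoint p hU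

theorem Mod.eq_generic (hp : Mod p) {z : R} (hz : p z = genericPoint Y) : z = genericPoint R := by
  obtain ⟨U, hU, hi⟩ := hp.iso
  haveI := hi
  have hg : genericPoint Y ∈ U := ((genericPoint_spec Y).mem_open_set_iff U.2).2 (by simpa using hU)
  exact EulerRpushLib.subsingleton_fibre p U hg hz hp.map_generic

theorem Mod.comp (hp : Mod p) {X : Scheme.{u}} [IsIntegral X] {h : Y ⟶ X} (hh : Mod h) : Mod (p ≫ h) := by
  haveI := hp.proper; haveI := hh.proper
  obtain ⟨U', hU', hi'⟩ := hp.iso
  obtain ⟨U, hU, hi⟩ := hh.iso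
  haveI := hi'; haveI := hi
  have hgY : genericPoint Y ∈ U' := ((genericPoint_spec Y).mem_open_set_iff U'.2).2 (by simpa using hU')
  have hgX : genericPoint X ∈ U := ((genericPoint_spec X).mem_open_set_iff U.2).2 (by simpa using hU)
  have hZ : IsClosed (h '' (U' : Set Y)ᶜ) := h.isClosedMap _ U'.2.isClosed_compl
  refine ⟨inferInstance, U ⊓ ⟨_, hZ.isOpen_compl⟩, ⟨genericPoint X, hgX, ?_⟩, ?_⟩
  · rintro ⟨y, hy, hhy⟩
    exact hy (hh.eq_generic hhy ▸ hgY)
  · let O : X.Opens := U ⊓ ⟨_, hZ.isOpen_compl⟩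
    haveI : IsIso (h ∣_ O) := ModifLib.isIso_restrict_of_le h inf_le_left
    haveI : IsIso (p ∣_ h ⁻¹ᵁ O) := ModifLib.isIso_restrict_of_le p fun y hy => by
      by_contra h'
      exact hy.2 ⟨y, h', rfl⟩
    show IsIso ((p ≫ h) ∣_ O)
    rw [morphismRestrict_comp]
    infer_instance

theorem Mod.nonempty_preimage (hp : Mod p) {V : Y.Opens} (hV : (V : Set Y).Nonempty) :
    Nonempty (p ⁻¹ᵁ V : Scheme.{u}) :=
  ⟨⟨genericPoint R, show p (genericPoint R) ∈ V from
    hp.map_generic.symm ▸ ((genericPoint_spec Y).mem_open_set_iff V.2).2 (by simpa using hV)⟩⟩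

theorem Mod.restrict (hp : Mod p) (V : Y.Opens) (hV : (V : Set Y).Nonempty) : Mod (p ∣_ V) := by
  haveI := hp.proper
  obtain ⟨U, hU, hi⟩ := hp.iso
  have hg : ∀ W : Y.Opens, (W : Set Y).Nonempty → genericPoint Y ∈ W := fun W hW =>
    ((genericPoint_spec Y).mem_open_set_iff W.2).2 (by simpa using hW)
  haveI := hi
  have h1 : IsProper (p ∣_ V) := IsZariskiLocalAtTarget.restrict (P := @IsProper) hp.proper V
  have h2 : ((V.ι ⁻¹ᵁ U : (V : Scheme.{u}).Opens) : Set (V : Scheme.{u})).Nonempty :=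
    ⟨⟨genericPoint Y, hg V hV⟩, show genericPoint Y ∈ U from hg U hU⟩
  have h3 : IsIso ((p ∣_ V) ∣_ V.ι ⁻¹ᵁ U) :=
    RGFlatLib.isIso_restrict_of_isPullback (U := U) (isPullback_morphismRestrict p V) hi
  exact ⟨h1, ⟨_, h2, h3⟩⟩

theorem Mod.isIso_unitToPush (hp : Mod p) [IsLocallyNoetherian Y] (hn : Pi1.IsNormalScheme Y) :
    IsIso (ClSub.unitToPush p) := by
  haveI := hp.proper
  haveI : IsLocallyNoetherian R := LocallyOfFiniteType.isLocallyNoetherian p
  obtain ⟨U, hU, hi⟩ := hp.iso
  haveI := hi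
  haveI : IsIso (p.stalkMap (genericPoint R)) := ModifLib.isIso_stalkMap_genericPoint p hU
  have hη := ModifLib.map_genericPoint p hU
  have hdom : p.base (genericPoint R) ⤳ genericPoint Y := specializes_of_eq hη
  have hbij : Function.Surjective (CohIII.stalkToFunctionField p (genericPoint Y) hdom) := fun z => by
    obtain ⟨w, hw⟩ := (ConcreteCategory.bijective_of_isIso (p.stalkMap (genericPoint R))).2 z
    refine ⟨(Y.presheaf.stalkSpecializes (specializes_of_eq hη.symm)).hom w, Eq.trans ?_ hw⟩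
    refine congrArg (p.stalkMap (genericPoint R)).hom ?_
    rw [← CommRingCat.comp_apply, TopCat.Presheaf.stalkSpecializes_comp, TopCat.Presheaf.stalkSpecializes_refl]
    rfl
  exact CohCmpLib.isIso_unitToPush_of_app p (Groth.Agent.S2422.result hn p hdom fun x _ => hbij x)

theorem Mod.dim_le (hp : Mod p) [IsLocallyNoetherian Y] (hdim : topologicalKrullDim Y ≤ 2) :
    topologicalKrullDim R ≤ 2 := by
  haveI := hp.proper
  obtain ⟨U, hU, hi⟩ := hp.iso
  haveI := hi
  exact ModifLib.dim_source_le p hU 2 fun s => (DimIneqLib.stalk_dim_le_dim s).trans hdim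

/-- The fibres of a modification of a surface are at most curves. -/
theorem Mod.fibre_le_one (hp : Mod p) [IsLocallyNoetherian Y] (hdim : topologicalKrullDim Y ≤ 2) (y : Y) :
    topologicalKrullDim ↥(p.fiber y) ≤ (1 : ℕ) := by
  haveI := hp.proper
  by_cases hy : y = genericPoint Y
  · obtain ⟨U, hU, hi⟩ := hp.iso
    haveI := hi
    subst hy
    have hg : genericPoint Y ∈ U := ((genericPoint_spec Y).mem_open_set_iff U.2).2 (by simpa using hU)
    refine (ModifLib.dim_le_zero_of_forall_eq fun a b _ => ?_).trans (by exact_mod_cast Nat.zero_le 1)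
    have key : ∀ a : p.fiber (genericPoint Y), p ((p.fiberι (genericPoint Y)) a) = genericPoint Y := fun a =>
      (p.range_fiberι _).le ⟨a, rfl⟩
    exact (p.fiberι _).isEmbedding.injective (EulerRpushLib.subsingleton_fibre p U hg (key a) (key b))
  · let T : Set R := p ⁻¹' closure {y}
    have hT : IsClosed T := isClosed_closure.preimage p.continuous
    have hη : genericPoint R ∉ T := fun h => hy (by
      have h' : genericPoint Y ∈ closure ({y} : Set Y) := hp.map_generic ▸ h
      exact ((specializes_iff_mem_closure.2 h').antisymm (genericPoint_specializes y)).eq)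
    refine (IsHomeomorph.topologicalKrullDim_eq _ (p.fiberHomeo y).isHomeomorph).le.trans ?_
    exact (IntFunLib.dim_mono (S := p ⁻¹' {y}) (T := T) (Set.preimage_mono subset_closure)).trans
      (ModifLib.dim_le_of_genericPoint_notMem 1 ((hp.dim_le hdim).trans le_rfl) T hT hη)

theorem Mod.subsingleton_H2 (hp : Mod p) [IsNoetherian Y] (hdim : topologicalKrullDim Y ≤ 2) (W : Y.Opens)
    (hW : IsAffineOpen W) (hWne : (W : Set Y).Nonempty) :
    Subsingleton (Coh.HH (p ⁻¹ᵁ W : Scheme.{u}) (Coh.structureModule (p ⁻¹ᵁ W : Scheme.{u})) 2) := by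
  haveI := hp.proper
  haveI : IsAffine (W : Scheme.{u}) := hW
  haveI := hp.nonempty_preimage hWne
  haveI : Nonempty (W : Scheme.{u}) := hWne.to_subtype
  haveI : IsIntegral (W : Scheme.{u}) := isIntegral_of_isOpenImmersion W.ι
  haveI : IsIntegral (p ⁻¹ᵁ W : Scheme.{u}) := isIntegral_of_isOpenImmersion (p ⁻¹ᵁ W).ι
  haveI := (hp.restrict W hWne).proper
  haveI : IsLocallyNoetherian (p ⁻¹ᵁ W : Scheme.{u}) := LocallyOfFiniteType.isLocallyNoetherian (p ∣_ W)
  haveI : CompactSpace (p ⁻¹ᵁ W : Scheme.{u}) := QuasiCompact.compactSpace_of_compactSpace (p ∣_ W)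
  haveI : Coh.IsQCoh (Coh.structureModule (p ⁻¹ᵁ W : Scheme.{u})) := QCohLib.isQCoh_unit
  haveI : IsNoetherian (p ⁻¹ᵁ W : Scheme.{u}) := {}
  refine RatModLib.subsingleton_H2 (p ∣_ W) (fun s => (hp.restrict W hWne).fibre_le_one ?_ s) _
  exact (W.ι.isEmbedding.isInducing.topologicalKrullDim_le).trans hdim

/-- The points over which a modification of a normal surface is not finite. -/
theorem Mod.exists_iso_open (hp : Mod p) [IsNoetherian Y] (hn : Pi1.IsNormalScheme Y)
    (hdim : topologicalKrullDim Y ≤ 2) :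
    ∃ V : Y.Opens, IsIso (p ∣_ V) ∧ (Vᶜ : Set Y).Finite ∧ (∀ y ∉ V, IsClosed ({y} : Set Y)) ∧
      ∀ y ∉ V, ∀ x : ↥(p.fiber y), ¬ IsOpen ({x} : Set ↥(p.fiber y)) := by
  haveI := hp.proper
  obtain ⟨U, hU, hi⟩ := hp.iso
  haveI := hi
  haveI : IsIso (p.stalkMap (genericPoint R)) := ModifLib.isIso_stalkMap_genericPoint p hU
  obtain ⟨V, hV, hno, h2⟩ := Groth.Agent.S11555.result p hn hp.map_generic
    (ConcreteCategory.bijective_of_isIso (p.stalkMap (genericPoint R)))
  have hc : ∀ y ∉ V, IsClosed ({y} : Set Y) := fun y hy => PtBlowLib.isClosed_of_two_le hdim y (h2 y hy)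
  exact ⟨V, hV, PtBlowLib.finite_of_closedPoints V.2.isClosed_compl hc, hc, hno⟩

theorem Mod.support_rpush (hp : Mod p) [IsNoetherian Y] (hn : Pi1.IsNormalScheme Y) (hdim : topologicalKrullDim Y ≤ 2)
    [HasInjectiveResolutions R.Modules] :
    (CohB1.support ((Coh.Rpush p 1).obj (Coh.structureModule R))).Finite ∧
      ∀ y ∈ CohB1.support ((Coh.Rpush p 1).obj (Coh.structureModule R)), IsClosed ({y} : Set Y) := by
  haveI := hp.proper
  haveI : IsLocallyNoetherian R := LocallyOfFiniteType.isLocallyNoetherian p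
  obtain ⟨V, hV, hfin, hc, -⟩ := hp.exists_iso_open hn hdim
  have hsub : CohB1.support ((Coh.Rpush p 1).obj (Coh.structureModule R)) ⊆ (V : Set Y)ᶜ := fun y hy hyV => by
    haveI := hV
    have hd : topologicalKrullDim ↥(p.fiber y) ≤ 0 := ModifLib.dim_le_zero_of_forall_eq fun a b _ => by
      exact (p.fiberι _).isEmbedding.injective (EulerRpushLib.subsingleton_fibre p V hyV
        ((p.range_fiberι y).le ⟨a, rfl⟩) ((p.range_fiberι y).le ⟨b, rfl⟩))
    exact hy (FibVanLib.subsingleton_stalk_rpush p y 0 (by exact_mod_cast hd) (Coh.structureModule R)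
      (DevissLib.isCoh_structureModule R) 1 one_pos)
  exact ⟨hfin.subset hsub, fun y hy => hc y (hsub hy)⟩

end RatModLib
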