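import Mathlib
import Groth.Agent.RatModLib.Mod
import Groth.Agent.SncLib.Base

/-! Vanishing of `R¹p_*O` along compositions of modifications of normal surfaces. -/

set_option autoImplicit false
set_option linter.style.haveILetI false
set_option linter.unusedSectionVars false
set_option maxHeartbeats 1000000
set_option backward.isDefEq.respectTransparency false
set_option backward.isDefEq.respectTransparency.types false
universe u

open CategoryTheory CategoryTheory.Limits AlgebraicGeometry TopologicalSpace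

namespace RatModLib

variable {R Y : Scheme.{u}} [IsIntegral R] [IsIntegral Y] {p : R ⟶ Y}

/-- The objects living over a nonempty affine open of a modification. -/
theorem Mod.restrict_data (hp : Mod p) [IsNoetherian Y] (V : Y.Opens) (hV : (V : Set Y).Nonempty) :
    IsIntegral (V : Scheme.{u}) ∧ IsIntegral (p ⁻¹ᵁ V : Scheme.{u}) ∧ IsNoetherian (V : Scheme.{u}) ∧
      IsNoetherian (p ⁻¹ᵁ V : Scheme.{u}) := by
  haveI := hp.proper
  haveI := hp.nonempty_preimage hV
  haveI : Nonempty (V : Scheme.{u}) := hV.to_subtype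
  haveI : IsLocallyNoetherian R := LocallyOfFiniteType.isLocallyNoetherian p
  haveI : CompactSpace R := QuasiCompact.compactSpace_of_compactSpace p
  haveI : IsNoetherian R := {}
  haveI : NoetherianSpace (V : Scheme.{u}) := V.ι.isEmbedding.isInducing.noetherianSpace
  haveI : NoetherianSpace (p ⁻¹ᵁ V : Scheme.{u}) := (p ⁻¹ᵁ V).ι.isEmbedding.isInducing.noetherianSpace
  exact ⟨isIntegral_of_isOpenImmersion V.ι, isIntegral_of_isOpenImmersion (p ⁻¹ᵁ V).ι, {}, {}⟩

/-- `R¹p_*O = 0` once the source has no `H¹` over each member of an affine-based cover. -/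
theorem Mod.van_restrict_of_h1z (hp : Mod p) [IsNoetherian Y] (hn : Pi1.IsNormalScheme Y)
    (hdim : topologicalKrullDim Y ≤ 2) (V : Y.Opens) (hV : (V : Set Y).Nonempty)
    (h2 : Subsingleton (Coh.HH (V : Scheme.{u}) (Coh.structureModule (V : Scheme.{u})) 2))
    (h1 : H1z (p ⁻¹ᵁ V : Scheme.{u})) : Van (p ∣_ V) := by
  obtain ⟨hi1, hi2, hN1, hN2⟩ := hp.restrict_data V hV
  haveI := hi1; haveI := hi2; haveI := hN1; haveI := hN2
  have hp' := hp.restrict V hV
  haveI := hp'.proper
  haveI : HasInjectiveResolutions (p ⁻¹ᵁ V : Scheme.{u}).Modules := inferInstance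
  have hn' := NormBlowLib.isNormalScheme_open hn V
  haveI := hp'.isIso_unitToPush hn'
  obtain ⟨-, hΓ⟩ := (h1z_iff_leray (p ∣_ V) h2).1 h1
  obtain ⟨hf, hc⟩ := hp'.support_rpush hn' ((V.ι.isEmbedding.isInducing.topologicalKrullDim_le).trans hdim)
  exact van_of_isZero (p ∣_ V) (isZero_of_finite_support _ hf hc hΓ)

/-- Vanishing descends to the first factor. -/
theorem van_left (hp : Mod p) [IsNoetherian Y] (hn : Pi1.IsNormalScheme Y) (hdim : topologicalKrullDim Y ≤ 2)
    {X : Scheme.{u}} [IsIntegral X] [IsNoetherian X] {h : Y ⟶ X} (hh : Mod h) (hX : topologicalKrullDim X ≤ 2)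
    (hc : Van (p ≫ h)) : Van p := by
  haveI := hp.proper; haveI := hh.proper
  haveI : IsLocallyNoetherian R := LocallyOfFiniteType.isLocallyNoetherian p
  haveI : CompactSpace R := QuasiCompact.compactSpace_of_compactSpace p
  haveI : IsNoetherian R := {}
  haveI : HasInjectiveResolutions R.Modules := inferInstance
  refine van_of_local p fun y => ?_
  obtain ⟨W, hW, hyW, -⟩ := exists_isAffineOpen_mem_and_subset (x := h y) (U := (⊤ : X.Opens)) trivial
  let V := h ⁻¹ᵁ W
  have hV : (V : Set Y).Nonempty := ⟨y, hyW⟩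
  have hvan : Van (p ∣_ V) := hp.van_restrict_of_h1z hn hdim V hV
    (hh.subsingleton_H2 hX W hW ⟨h y, hyW⟩) (hc W hW)
  exact ⟨V, hyW, fun W' hW' hle => h1z_of_van_restrict p V hvan W' hW' hle⟩

/-- Vanishing composes. -/
theorem van_comp (hp : Mod p) [IsNoetherian Y] (hn : Pi1.IsNormalScheme Y)
    {X : Scheme.{u}} [IsIntegral X] [IsNoetherian X] {h : Y ⟶ X} (hh : Mod h) (hX : topologicalKrullDim X ≤ 2)
    (hvp : Van p) (hvh : Van h) : Van (p ≫ h) := by
  intro W hW
  rcases (W : Set X).eq_empty_or_nonempty with he | hne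
  · haveI : IsEmpty ((p ≫ h) ⁻¹ᵁ W : Scheme.{u}) := ⟨fun z => by
      have : (p ≫ h) z.1 ∈ (W : Set X) := z.2
      rw [he] at this
      exact this⟩
    exact h1z_of_isEmpty _
  haveI := hp.proper; haveI := hh.proper
  let V := h ⁻¹ᵁ W
  have hV : (V : Set Y).Nonempty := ⟨genericPoint Y, show h (genericPoint Y) ∈ W from
    hh.map_generic.symm ▸ ((genericPoint_spec X).mem_open_set_iff W.2).2 (by simpa using hne)⟩
  obtain ⟨hi1, hi2, hN1, hN2⟩ := hp.restrict_data V hV
  haveI := hi1; haveI := hi2; haveI := hN1; haveI := hN2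
  have hp' := hp.restrict V hV
  haveI := hp'.proper
  haveI : HasInjectiveResolutions (p ⁻¹ᵁ V : Scheme.{u}).Modules := inferInstance
  haveI := hp'.isIso_unitToPush (NormBlowLib.isNormalScheme_open hn V)
  exact (h1z_iff_leray (p ∣_ V) (hh.subsingleton_H2 hX W hW hne)).2
    ⟨hvh W hW, subsingleton_sections_of_isZero (Van.isZero (p ∣_ V) (hvp.restrict p V)) ⊤⟩

/-- Blowing up a regular point of a surface has no higher direct image. -/
theorem van_contraction_step {Y Z E : Scheme.{u}} (ι : E ⟶ Y) [IsClosedImmersion ι]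
    (hE : Models.IsExcCurve ι) (b : Y ⟶ Z) (hb : Models.IsContractionOf ι b) [IsIntegral Z] (hZ : SncLib.Surf Z) :
    ∃ (_ : IsIntegral Y), SncLib.Surf Y ∧ Mod b ∧ Van b := by
  haveI := hb.1; haveI := hb.2.1
  haveI := hZ.noeth
  haveI : IsNoetherian Y := {
    toIsLocallyNoetherian := LocallyOfFiniteType.isLocallyNoetherian b
    toCompactSpace := QuasiCompact.compactSpace_of_compactSpace b }
  obtain ⟨-, -, -, y, hy, hreg, hdim, hbl, hlr, hiso, -, -⟩ := BlowRegLib.contraction_data ι hE b hb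
  haveI := hiso
  haveI := hZ.noeth
  have hd : ringKrullDim (Z.presheaf.stalk y) = 2 := hdim.trans (by norm_num)
  obtain ⟨hi, hY, -⟩ := hZ.blow hy hd b hbl
  haveI := hi
  haveI := hY.noeth
  haveI : HasInjectiveResolutions Y.Modules := inferInstance
  have hne : ((⟨({y} : Set Z)ᶜ, hy.isOpen_compl⟩ : Z.Opens) : Set Z).Nonempty :=
    ⟨genericPoint Z, fun h => hZ.center_ne_generic hd (Set.mem_singleton_iff.1 h).symm⟩
  have hfree : FlatMod.IsFinLocFree (Coh.structureModule Z) :=
    AmpleDevLib.isFinLocFree_of_isInvertible CurvLib.isInvertible_structureModule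
  refine ⟨hi, hY, ⟨inferInstance, _, hne, hiso⟩, van_of_isZero b ?_⟩
  have hz := BlowRegLib.isZero_pullback hbl hlr hfree 1 le_rfl
  exact ((EulerRpushLib.isZero_rpushAb_iff b _ 1).1 hz).of_iso
    ((Coh.Rpush b 1).mapIso (KFlatLib.pullUnitIso b).symm)

/-- Sequences of point blow-ups of regular surfaces have no higher direct image. -/
theorem van_of_contractionSeq {Y X : Scheme.{u}} (g : Y ⟶ X) (hg : Models.IsContractionSeq g) :
    ∀ [IsIntegral X], SncLib.Surf X → ∃ (_ : IsIntegral Y), SncLib.Surf Y ∧ Mod g ∧ Van g := by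
  induction hg with
  | @iso Y X e =>
    intro _ hX
    haveI : Nonempty Y := ⟨e.inv (genericPoint X)⟩
    haveI hYi : IsIntegral Y := isIntegral_of_isOpenImmersion e.hom
    haveI := hX.noeth
    haveI : IsLocallyNoetherian Y := LocallyOfFiniteType.isLocallyNoetherian e.hom
    haveI : CompactSpace Y := QuasiCompact.compactSpace_of_compactSpace e.hom
    refine ⟨hYi, ⟨hYi, {}, fun y => ?_, (e.hom.isEmbedding.isInducing.topologicalKrullDim_le).trans hX.dim⟩,
      Mod.of_isIso e.hom, van_of_isAffineHom e.hom⟩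
    haveI := hX.regular (e.hom y)
    exact IsRegularLocalRing.of_ringEquiv (asIso (e.hom.stalkMap y)).commRingCatIsoToRingEquiv
  | @step Y Z X E ι b r hι hE hb hr ih =>
    intro _ hX
    obtain ⟨hZi, hZ, hmr, hvr⟩ := ih hX
    haveI := hZi; haveI := hι
    obtain ⟨hYi, hY, hmb, hvb⟩ := van_contraction_step ι hE b hb hZ
    haveI := hYi
    haveI := hZ.noeth; haveI := hX.noeth
    exact ⟨hYi, hY, hmb.comp hmr, van_comp hmb (isNormal_of_regular hZ.regular) hmr hX.dim hvb hvr⟩

end RatModLib
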