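import Mathlib
import Groth.Agent.RatModLib.Van
import Groth.Agent.RatModLib.Sections
import Groth.Agent.GenFlatStrat.FGExtend

/-! The maximal ideal of a point without `R¹` becomes invertible on a regular modification. -/

set_option autoImplicit false
set_option linter.style.haveILetI false
set_option linter.unusedSectionVars false
set_option maxHeartbeats 1000000
set_option backward.isDefEq.respectTransparency false
set_option backward.isDefEq.respectTransparency.types false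
universe u

open CategoryTheory CategoryTheory.Limits AlgebraicGeometry TopologicalSpace Opposite

namespace RatModLib

theorem le_right_of_mul {R : Scheme.{u}} {I L : R.IdealSheafData} (W : R.affineOpens) :
    (I * L).ideal W ≤ L.ideal W := by
  rw [Scheme.IdealSheafData.ideal_mul, Pi.mul_apply]
  exact Ideal.mul_le.2 fun a _ b hb => Ideal.mul_mem_left _ a hb

theorem ideal_eq_top_of_disjoint {R : Scheme.{u}} (I : R.IdealSheafData) (W : R.affineOpens)
    (h : ∀ z ∈ W.1, z ∉ (I.support : Set R)) : I.ideal W = ⊤ := by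
  by_contra hne
  obtain ⟨m, hm, hle⟩ := Ideal.exists_le_maximal _ hne
  haveI := hm
  let P : Spec Γ(R, W.1) := ⟨m, hm.isPrime⟩
  have hP : W.2.fromSpec P ∈ (W.1 : Set R) := W.2.range_fromSpec ▸ Set.mem_range_self P
  refine h _ hP ?_
  rw [SetLike.mem_coe, Scheme.IdealSheafData.mem_support_iff_of_mem hP]
  exact ((W.2.fromSpec_image_zeroLocus (I.ideal W : Set Γ(R, W.1))).le ⟨P, hle, rfl⟩).1

/-- Gluing a function on a neighbourhood of a point with zero away from it. -/
theorem exists_glue (Z : Scheme.{u}) (U U' : Z.Opens) (hcov : ⊤ ≤ U ⊔ U') (s : Γ(Z, U))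
    (h : Z.presheaf.map (homOfLE (inf_le_left : U ⊓ U' ≤ U)).op s = 0) :
    ∃ z : Γ(Z, ⊤), Z.presheaf.map (homOfLE (le_top : U ≤ ⊤)).op z = s ∧
      Z.presheaf.map (homOfLE (le_top : U' ≤ ⊤)).op z = 0 := by
  let V : ULift.{u} Bool → Z.Opens := fun b => bif b.down then U else U'
  let sf : ∀ b, Γ(Z, V b) := fun b =>
    match b with
    | ⟨true⟩ => s
    | ⟨false⟩ => (0 : Γ(Z, U'))
  obtain ⟨z, hz, -⟩ := TopCat.Sheaf.existsUnique_gluing' Z.sheaf V ⊤ (fun b => homOfLE le_top)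
    (hcov.trans (sup_le (le_iSup V ⟨true⟩) (le_iSup V ⟨false⟩))) sf (by
      rintro ⟨i⟩ ⟨j⟩
      cases i <;> cases j <;> try rfl
      · change Z.presheaf.map (homOfLE (inf_le_left : U' ⊓ U ≤ U')).op (0 : Γ(Z, U')) =
          Z.presheaf.map (homOfLE (inf_le_right : U' ⊓ U ≤ U)).op s
        have e : Z.presheaf.map (homOfLE (inf_le_right : U' ⊓ U ≤ U)).op =
            Z.presheaf.map (homOfLE (inf_le_left : U ⊓ U' ≤ U)).op ≫
              Z.presheaf.map (homOfLE (inf_comm U' U).le).op := by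
          rw [← Functor.map_comp]; rfl
        rw [map_zero, e, CommRingCat.comp_apply, h, map_zero]
      · change Z.presheaf.map (homOfLE (inf_le_left : U ⊓ U' ≤ U)).op s =
          Z.presheaf.map (homOfLE (inf_le_right : U ⊓ U' ≤ U')).op (0 : Γ(Z, U'))
        rw [map_zero, h])
  exact ⟨z, hz ⟨true⟩, hz ⟨false⟩⟩

variable {B : Type u} [CommRing B] [IsDomain B] [IsNoetherianRing B] [IsIntegrallyClosed B]
  {R : Scheme.{u}} [IsIntegral R] [IsNoetherian R] (f : R ⟶ Spec (CommRingCat.of B))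

/-- **Invertibility of the inverse image of a maximal ideal.** -/
theorem isEffCartier_pre (hp : Mod f) [R.IsSeparated] (hreg : ∀ x : R, IsRegularLocalRing (R.presheaf.stalk x))
    (hdimR : topologicalKrullDim R ≤ 2) (h1 : Subsingleton (Coh.HH R (Coh.structureModule R) 1))
    (h2 : ∀ G : R.Modules, Coh.IsQCoh G → Subsingleton (Coh.HH R G 2)) (M : Ideal B) [hM : M.IsMaximal]
    (hη : genericPoint R ∉ ((pre f M).support : Set R))
    {w : R} (hw : w ∈ ((pre f M).support : Set R)) (hwc : ¬ IsClosed ({w} : Set R)) :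
    BlowUp.IsEffCartierIdeal (pre f M) := by
  haveI := hp.proper
  obtain ⟨U₀, hU₀, hi₀⟩ := hp.iso
  haveI := hi₀
  let J := pre f M
  obtain ⟨I', L, hL, hJ, hfin, hI'⟩ := PtBlowLib.exists_divisorial_part hreg hdimR J hη
  suffices hJL : J = L by
    show BlowUp.IsEffCartierIdeal J
    rw [hJ] at hJL ⊢
    rw [hJL]; exact hL
  have h1J : Subsingleton (Coh.HH R (ClSub.idealMod J) 1) := by
    have := subsingleton_H1_pre f h1 h2 M 1
    rwa [pow_one] at this
  have hext := PtBlowLib.subschemeι_app_top_surjective J h1J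
  have hJW : ∀ W : R.affineOpens, J.ideal W ≤ L.ideal W := fun W => by
    rw [show J = I' * L from hJ]; exact le_right_of_mul W
  have hoff : ∀ W : R.affineOpens, (∀ z ∈ W.1, z ∉ (I'.support : Set R)) → J.ideal W = L.ideal W := fun W h => by
    rw [show J = I' * L from hJ, Scheme.IdealSheafData.ideal_mul, Pi.mul_apply, ideal_eq_top_of_disjoint I' W h,
      Ideal.top_mul]
  -- at most one bad point in an affine open
  have key : ∀ (U : R.affineOpens) (x : R), x ∈ (I'.support : Set R) →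
      (∀ z ∈ U.1, z ∈ (I'.support : Set R) → z = x) → x ∈ U.1 → L.ideal U ≤ J.ideal U := by
    intro U x hx huniq hxU ℓ hℓ
    let i := J.subschemeι
    let U' : R.Opens := ⟨({x} : Set R)ᶜ, (hI' x hx).1.isOpen_compl⟩
    have hcov : (⊤ : J.subscheme.Opens) ≤ (i ⁻¹ᵁ U.1) ⊔ (i ⁻¹ᵁ U') := fun z _ => by
      by_cases hz : i z = x
      · exact Or.inl (show i z ∈ U.1 from hz ▸ hxU)
      · exact Or.inr hz
    have hover : J.subscheme.presheaf.map
        (homOfLE (inf_le_left : (i ⁻¹ᵁ U.1) ⊓ (i ⁻¹ᵁ U') ≤ i ⁻¹ᵁ U.1)).op (i.app U.1 ℓ) = 0 := by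
      refine TopCat.Presheaf.section_ext J.subscheme.sheaf _ _ _ fun z hz => ?_
      change J.subscheme.presheaf.germ _ z hz _ = J.subscheme.presheaf.germ _ z hz 0
      obtain ⟨T, hT, hzT, hTle⟩ := exists_isAffineOpen_mem_and_subset (x := i z) (U := U.1 ⊓ U') hz
      have hTU : T ≤ U.1 := hTle.trans inf_le_left
      have hℓT : R.presheaf.map (homOfLE hTU).op ℓ ∈ J.ideal ⟨T, hT⟩ := by
        rw [hoff ⟨T, hT⟩ fun y hy hy' => (hTle hy).2 (huniq y (hTU hy) hy')]
        rw [← L.map_ideal (U := ⟨T, hT⟩) (V := U) hTU]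
        exact Ideal.mem_map_of_mem _ hℓ
      have h0 := (GenFlatStrat.subschemeι_app_eq_zero_iff J ⟨T, hT⟩ _).2 hℓT
      rw [← CommRingCat.comp_apply, i.naturality] at h0
      have hle : i ⁻¹ᵁ T ≤ (i ⁻¹ᵁ U.1) ⊓ (i ⁻¹ᵁ U') := fun y hy => hTle hy
      refine Eq.trans ?_ (map_zero (J.subscheme.presheaf.germ _ z hz).hom).symm
      refine (J.subscheme.presheaf.germ_res_apply (homOfLE hle) z hzT _).symm.trans ?_
      refine (congrArg (J.subscheme.presheaf.germ (i ⁻¹ᵁ T) z hzT).hom (?_ : _ = (0 : Γ(J.subscheme, i ⁻¹ᵁ T)))).trans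
        (map_zero _)
      rw [← CommRingCat.comp_apply, ← Functor.map_comp]
      exact h0
    obtain ⟨z, hzU, hzU'⟩ := exists_glue J.subscheme (i ⁻¹ᵁ U.1) (i ⁻¹ᵁ U') hcov (i.app U.1 ℓ) hover
    obtain ⟨g, hg⟩ := hext z
    obtain ⟨b, hb⟩ := PtBlowLib.toGlobal_surjective f hU₀ g
    have hres : ∀ (V : R.Opens) (hV : i ⁻¹ᵁ V ≤ (⊤ : J.subscheme.Opens)),
        J.subscheme.presheaf.map (homOfLE hV).op z = i.app V (R.presheaf.map (homOfLE (le_top : V ≤ ⊤)).op g) := by
      intro V hV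
      rw [← hg]
      exact (ConcreteCategory.congr_hom (i.naturality (homOfLE (le_top : V ≤ ⊤)).op) g).symm
    have hbM : b ∈ M := by
      by_contra hbM
      obtain ⟨c, y, hy, hcy⟩ := Ideal.IsMaximal.exists_inv hM hbM
      have hwU' : w ∈ U' := fun h => hwc ((Set.mem_singleton_iff.1 h).symm ▸ (hI' x hx).1)
      obtain ⟨T, hT, hwT, hTle⟩ := exists_isAffineOpen_mem_and_subset (x := w) (U := U') hwU'
      have hgT : R.presheaf.map (homOfLE (le_top : T ≤ ⊤)).op g ∈ J.ideal ⟨T, hT⟩ := by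
        refine (GenFlatStrat.subschemeι_app_eq_zero_iff J ⟨T, hT⟩ _).1 ?_
        refine Eq.trans (hres T le_top).symm ?_
        have e : J.subscheme.presheaf.map (homOfLE (le_top : i ⁻¹ᵁ T ≤ ⊤)).op =
            J.subscheme.presheaf.map (homOfLE (le_top : i ⁻¹ᵁ U' ≤ ⊤)).op ≫
              J.subscheme.presheaf.map (homOfLE (show i ⁻¹ᵁ T ≤ i ⁻¹ᵁ U' from fun y hy => hTle hy)).op := by
          rw [← Functor.map_comp]; rfl
        rw [e, CommRingCat.comp_apply, hzU', map_zero]
      have hone : (1 : Γ(R, T)) ∈ J.ideal ⟨T, hT⟩ := by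
        have e : ∀ u v w : Γ(R, ⊤), u * v + w = 1 → (1 : Γ(R, T)) = gr T u * gr T v + gr T w := fun u v w h => by
          rw [← map_mul, ← map_add, h, map_one]
        have e0 : Coh.toGlobal f c * Coh.toGlobal f b + Coh.toGlobal f y = 1 := by
          rw [← map_mul, ← map_add, hcy, map_one]
        rw [hb] at e0
        rw [e _ _ _ e0]
        exact add_mem (Ideal.mul_mem_left _ _ hgT) (In.of_mem f hy ⟨T, hT⟩)
      exact (SDivLib.mem_support_iff_stalk J w).1 hw
        (by rw [SDivLib.stalkIdeal_eq J ⟨T, hT⟩ hwT, (Ideal.eq_top_iff_one _).2 hone, Ideal.map_top])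
    refine (GenFlatStrat.subschemeι_app_eq_zero_iff J U _).1 ?_
    refine hzU.symm.trans ((hres U.1 le_top).trans ?_)
    exact (GenFlatStrat.subschemeι_app_eq_zero_iff J U _).2 (hb ▸ In.of_mem f hbM U)
  refine DivDescLib.eq_of_stalk fun x => ?_
  by_cases hx : x ∈ (I'.support : Set R)
  · have hTc : IsClosed ((I'.support : Set R) \ {x}) :=
      (Set.biUnion_of_singleton ((I'.support : Set R) \ {x})) ▸
        (hfin.subset Set.sdiff_subset).isClosed_biUnion fun z hz => (hI' z hz.1).1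
    obtain ⟨U, hU, hxU, hUle⟩ := exists_isAffineOpen_mem_and_subset (x := x)
      (U := (⟨_, hTc.isOpen_compl⟩ : R.Opens)) (fun h => h.2 rfl)
    rw [SDivLib.stalkIdeal_eq J ⟨U, hU⟩ hxU, SDivLib.stalkIdeal_eq L ⟨U, hU⟩ hxU]
    refine congrArg (Ideal.map _) (le_antisymm (hJW _) (key ⟨U, hU⟩ x hx (fun z hz hz' => ?_) hxU))
    by_contra hne
    exact hUle hz ⟨hz', hne⟩
  · obtain ⟨U, hU, hxU, hUle⟩ := exists_isAffineOpen_mem_and_subset (x := x)
      (U := (⟨_, I'.support.isClosed.isOpen_compl⟩ : R.Opens)) hx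
    rw [SDivLib.stalkIdeal_eq J ⟨U, hU⟩ hxU, SDivLib.stalkIdeal_eq L ⟨U, hU⟩ hxU, hoff ⟨U, hU⟩ fun z hz => hUle hz]

end RatModLib
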