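import Mathlib
import Groth.Agent.RatModLib.Invertible
import Groth.Agent.NormBlowLib.Dominate
import Groth.Agent.PtBlowLib.Stalk
import Groth.Agent.S4666

/-! Resolving surfaces without `R¹` by normalized blowing ups. -/

set_option autoImplicit false
set_option linter.style.haveILetI false
set_option linter.unusedSectionVars false
set_option maxHeartbeats 2000000
set_option backward.isDefEq.respectTransparency false
set_option backward.isDefEq.respectTransparency.types false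
universe u

open CategoryTheory CategoryTheory.Limits AlgebraicGeometry TopologicalSpace

namespace RatModLib

theorem comap_fromSpec {X : Scheme.{u}} (I : X.IdealSheafData) (W : X.affineOpens) :
    I.comap W.2.fromSpec = Curv2.idealSheaf Γ(X, W.1) (I.ideal W) := by
  refine Scheme.IdealSheafData.ext_of_isAffine ?_
  have hle : ((⟨⊤, isAffineOpen_top _⟩ : (Spec Γ(X, W.1)).affineOpens) : (Spec Γ(X, W.1)).Opens) ≤
      W.2.fromSpec ⁻¹ᵁ W.1 := W.2.fromSpec_preimage_self.ge
  refine (Groth.Agent.S4666.ideal_comap_eq I W.2.fromSpec W ⟨⊤, isAffineOpen_top _⟩ hle).trans ?_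
  refine Eq.trans ?_ (PtBlowLib.idealSheaf_top (A := Γ(X, W.1)) (I.ideal W)).symm
  refine congrArg (fun φ => Ideal.map φ (I.ideal W)) ?_
  refine congrArg CommRingCat.Hom.hom (?_ : W.2.fromSpec.appLE W.1 ⊤ hle = (Scheme.ΓSpecIso Γ(X, W.1)).inv)
  rw [Scheme.Hom.appLE, IsAffineOpen.fromSpec_app_self, Category.assoc, ← Functor.map_comp]
  refine (congrArg (_ ≫ ·) (?_ : _ = 𝟙 _)).trans (Category.comp_id _)
  exact (congrArg _ (Subsingleton.elim _ (𝟙 _))).trans (CategoryTheory.Functor.map_id _ _)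

theorem isMaximal_ideal_point {X : Scheme.{u}} (x : X) (hx : IsClosed ({x} : Set X)) (W : X.affineOpens) (hxW : x ∈ W.1) :
    ((Scheme.IdealSheafData.vanishingIdeal (⟨{x}, hx⟩ : Closeds X)).ideal W).IsMaximal := by
  let P := W.2.primeIdealOf ⟨x, hxW⟩
  have hP : W.2.fromSpec P = x := W.2.fromSpec_primeIdealOf ⟨x, hxW⟩
  have hset : W.2.fromSpec ⁻¹' ({x} : Set X) = {P} := Set.ext fun Q =>
    ⟨fun hQ => W.2.fromSpec.isOpenEmbedding.injective ((Set.mem_singleton_iff.1 hQ).trans hP.symm),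
      fun hQ => (congrArg W.2.fromSpec.base (Set.mem_singleton_iff.1 hQ)).trans hP⟩
  have e : (Scheme.IdealSheafData.vanishingIdeal (⟨{x}, hx⟩ : Closeds X)).ideal W = P.asIdeal := by
    refine Eq.trans ?_ (PrimeSpectrum.vanishingIdeal_singleton P)
    exact congrArg PrimeSpectrum.vanishingIdeal hset
  rw [e]
  refine (PrimeSpectrum.isClosed_singleton_iff_isMaximal P).1 ?_
  rw [← hset]
  exact hx.preimage W.2.fromSpec.continuous

theorem sep_of_proper {R : Scheme.{u}} {B : Type u} [CommRing B] (f : R ⟶ Spec (CommRingCat.of B)) [IsProper f] :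
    R.IsSeparated := ⟨by
  rw [Limits.terminal.hom_ext (Limits.terminal.from R) (f ≫ Limits.terminal.from _)]
  infer_instance⟩

variable {X R : Scheme.{u}} [IsIntegral X] [IsIntegral R] {p : R ⟶ X}

/-- **The inverse image of a closed point is invertible**, when there is a curve over it. -/
theorem isEffCartier_comap_point (hp : Mod p) [IsNoetherian X] (hn : Pi1.IsNormalScheme X)
    (hdim : topologicalKrullDim X ≤ 2) (hR : SncLib.Surf R) (hv : Van p) (x : X) (hx : IsClosed ({x} : Set X))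
    (w : R) (hw : p w = x) (hwc : ¬ IsClosed ({w} : Set R)) :
    BlowUp.IsEffCartierIdeal ((Scheme.IdealSheafData.vanishingIdeal (⟨{x}, hx⟩ : Closeds X)).comap p) := by
  haveI := hp.proper
  haveI := hR.noeth
  obtain ⟨W, hW, hxW, -⟩ := exists_isAffineOpen_mem_and_subset (x := x) (U := (⊤ : X.Opens)) trivial
  let I := Scheme.IdealSheafData.vanishingIdeal (⟨{x}, hx⟩ : Closeds X)
  have hWne : (W : Set X).Nonempty := ⟨x, hxW⟩
  obtain ⟨hi1, hi2, hN1, hN2⟩ := hp.restrict_data W hWne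
  haveI := hi1; haveI := hi2; haveI := hN1; haveI := hN2
  haveI : Nonempty W := hWne.to_subtype
  haveI hWa : IsAffine (W : Scheme.{u}) := hW
  haveI : IsNoetherianRing Γ(X, W) := IsLocallyNoetherian.component_noetherian ⟨W, hW⟩
  haveI : IsIntegrallyClosed Γ(X, W) := LocFFLib.isIntegrallyClosed_sections hn W
  haveI : IsIntegral (Spec (CommRingCat.of Γ(X, W))) := inferInstance
  haveI : Nonempty (Spec (CommRingCat.of Γ(X, W))) := ⟨genericPoint _⟩
  let f : (p ⁻¹ᵁ W : Scheme.{u}) ⟶ Spec (CommRingCat.of Γ(X, W)) := (p ∣_ W) ≫ hW.isoSpec.hom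
  have hf : Mod f := (hp.restrict W hWne).comp (Mod.of_isIso hW.isoSpec.hom)
  haveI := hf.proper
  haveI := sep_of_proper f
  have hdS : topologicalKrullDim (Spec (CommRingCat.of Γ(X, W))) ≤ 2 :=
    ((hW.fromSpec.isEmbedding.isInducing).topologicalKrullDim_le).trans hdim
  have h1 : H1z (p ⁻¹ᵁ W : Scheme.{u}) := hv W hW
  have h2 : ∀ G : (p ⁻¹ᵁ W : Scheme.{u}).Modules, Coh.IsQCoh G →
      Subsingleton (Coh.HH (p ⁻¹ᵁ W : Scheme.{u}) G 2) := fun G hG => by
    haveI := hG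
    exact RatModLib.subsingleton_H2 f (hf.fibre_le_one hdS) G
  let M : Ideal Γ(X, W) := I.ideal ⟨W, hW⟩
  haveI : M.IsMaximal := isMaximal_ideal_point x hx ⟨W, hW⟩ hxW
  let J₀ := I.comap p
  have hJ : pre f M = J₀.comap (p ⁻¹ᵁ W).ι := by
    show (Curv2.idealSheaf Γ(X, W) M).comap f = (I.comap p).comap _
    rw [← comap_fromSpec I ⟨W, hW⟩, ← Scheme.IdealSheafData.comap_comp, ← Scheme.IdealSheafData.comap_comp]
    congr 1
    show ((p ∣_ W) ≫ hW.isoSpec.hom) ≫ hW.fromSpec = (p ⁻¹ᵁ W).ι ≫ p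
    rw [Category.assoc, hW.isoSpec_hom, hW.toSpecΓ_fromSpec, morphismRestrict_ι]
  have hsup : ∀ z : (p ⁻¹ᵁ W : Scheme.{u}), z ∈ ((pre f M).support : Set _) ↔ p z.1 = x := fun z => by
    rw [hJ, Scheme.IdealSheafData.support_comap, Scheme.IdealSheafData.support_comap]
    show p z.1 ∈ (I.support : Set X) ↔ _
    rw [Scheme.IdealSheafData.coe_support_vanishingIdeal]
    exact Set.mem_singleton_iff
  have hη : genericPoint (p ⁻¹ᵁ W : Scheme.{u}) ∉ ((pre f M).support : Set _) := fun h => by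
    have h' := (hsup _).1 h
    have e : (genericPoint (p ⁻¹ᵁ W : Scheme.{u})).1 = genericPoint R :=
      genericPoint_eq_of_isOpenImmersion (p ⁻¹ᵁ W).ι
    rw [e, hp.map_generic] at h'
    exact hwc (by
      have hwη : w = genericPoint R := hp.eq_generic (hw.trans h'.symm)
      have : ({w} : Set R) = p ⁻¹' {x} := Set.ext fun z => ⟨fun hz => (congrArg p.base hz).trans hw,
        fun hz => (hp.eq_generic ((Set.mem_singleton_iff.1 hz).trans h'.symm)).trans hwη.symm⟩
      rw [this]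
      exact hx.preimage p.continuous)
  have hwW : w ∈ p ⁻¹ᵁ W := show p w ∈ W from hw.symm ▸ hxW
  have hwc' : ¬ IsClosed ({(⟨w, hwW⟩ : (p ⁻¹ᵁ W : Scheme.{u}))} : Set (p ⁻¹ᵁ W : Scheme.{u})) := fun h => hwc (by
    refine closure_subset_iff_isClosed.1 fun y hy => ?_
    have hsp : w ⤳ y := specializes_iff_mem_closure.2 hy
    have hyW : y ∈ p ⁻¹ᵁ W := show p y ∈ W from by
      rw [Set.mem_singleton_iff.1 ((hw ▸ hsp.map p.continuous : x ⤳ p y).mem_closed hx rfl)]
      exact hxW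
    have hsp' : (⟨w, hwW⟩ : (p ⁻¹ᵁ W : Scheme.{u})) ⤳ ⟨y, hyW⟩ :=
      ((p ⁻¹ᵁ W).ι.isEmbedding.isInducing.specializes_iff).1 hsp
    exact congrArg Subtype.val (Set.mem_singleton_iff.1 (hsp'.mem_closed h (Set.mem_singleton _))))
  have hC := isEffCartier_pre f hf (fun z => by
      haveI : IsRegularLocalRing (R.presheaf.stalk ((p ⁻¹ᵁ W).ι z)) := hR.regular z.1
      exact IsRegularLocalRing.of_ringEquiv (asIso ((p ⁻¹ᵁ W).ι.stalkMap z)).commRingCatIsoToRingEquiv)
    (((p ⁻¹ᵁ W).ι.isEmbedding.isInducing.topologicalKrullDim_le).trans hR.dim) h1 h2 M hη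
    (w := ⟨w, hwW⟩) ((hsup _).2 hw) hwc'
  rw [hJ] at hC
  refine EffCartLib.isEffCartier_of_stalk J₀ fun z hz U hzU => ?_
  have hzx : p z = x := by
    rw [Scheme.IdealSheafData.support_comap] at hz
    have : p z ∈ (I.support : Set X) := hz
    rwa [Scheme.IdealSheafData.coe_support_vanishingIdeal] at this
  have hzW : z ∈ p ⁻¹ᵁ W := show p z ∈ W from hzx.symm ▸ hxW
  obtain ⟨t, ht, hts⟩ := SDivLib.exists_gen hC (⟨z, hzW⟩ : (p ⁻¹ᵁ W : Scheme.{u}))
  rw [DivDescLib.stalkIdeal_comap] at hts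
  let e : R.presheaf.stalk z ≃+* (p ⁻¹ᵁ W : Scheme.{u}).presheaf.stalk ⟨z, hzW⟩ :=
    (asIso ((p ⁻¹ᵁ W).ι.stalkMap ⟨z, hzW⟩)).commRingCatIsoToRingEquiv
  haveI : IsDomain (R.presheaf.stalk z) := inferInstance
  haveI : IsDomain ((p ⁻¹ᵁ W : Scheme.{u}).presheaf.stalk ⟨z, hzW⟩) := inferInstance
  refine ⟨e.symm t, mem_nonZeroDivisors_iff_ne_zero.2
    ((map_ne_zero_iff e.symm e.symm.injective).2 (nonZeroDivisors.ne_zero ht)), ?_⟩
  have h3 : (IntMult.stalkIdeal J₀ z).map e.toRingHom = Ideal.span {t} := hts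
  rw [← SDivLib.stalkIdeal_eq J₀ U hzU]
  have h4 := congrArg (Ideal.map e.symm.toRingHom) h3
  rw [Ideal.map_map, Ideal.map_span, Set.image_singleton] at h4
  refine Eq.trans ?_ h4
  refine Eq.trans (Ideal.map_id _).symm (congrArg (fun φ => Ideal.map φ (IntMult.stalkIdeal J₀ z)) ?_)
  exact RingHom.ext fun v => (e.symm_apply_apply v).symm

end RatModLib
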