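import Mathlib
import Groth.Agent.RatModLib.Loop
import Groth.Agent.NormBlowLib.FinNormRes

/-! Repeated normalized blowing ups regularize a surface without `R¹`. -/

set_option autoImplicit false
set_option linter.style.haveILetI false
set_option linter.unusedSectionVars false
set_option maxHeartbeats 2000000
set_option backward.isDefEq.respectTransparency false
set_option backward.isDefEq.respectTransparency.types false
universe u

open CategoryTheory CategoryTheory.Limits AlgebraicGeometry TopologicalSpace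

namespace RatModLib

/-- The curves of the source contracted to closed points. -/
def bad {R X : Scheme.{u}} (p : R ⟶ X) : Set R := {w | ¬ IsClosed ({w} : Set R) ∧ IsClosed ({p w} : Set X)}

variable {X R : Scheme.{u}} [IsIntegral X] [IsIntegral R] {p : R ⟶ X}

theorem Mod.finite_bad (hp : Mod p) [IsNoetherian X] (hn : Pi1.IsNormalScheme X) (hdim : topologicalKrullDim X ≤ 2)
    (hX : ¬ IsClosed ({genericPoint X} : Set X)) : (bad p).Finite := by
  haveI := hp.proper
  haveI : IsLocallyNoetherian R := LocallyOfFiniteType.isLocallyNoetherian p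
  haveI : CompactSpace R := QuasiCompact.compactSpace_of_compactSpace p
  haveI : IsNoetherian R := {}
  obtain ⟨V, hV, -, hVc, -⟩ := hp.exists_iso_open hn hdim
  have hVg : genericPoint X ∈ V := Classical.byContradiction fun h => hX (hVc _ h)
  haveI := hV
  have hsub : bad p ⊆ p ⁻¹' (V : Set X)ᶜ := fun w hw hwV => hw.1 (by
    have : ({w} : Set R) = p ⁻¹' {p w} := Set.ext fun z => ⟨fun hz => congrArg p.base hz,
      fun hz => EulerRpushLib.subsingleton_fibre p V hwV (x := p w) hz rfl⟩
    rw [this]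
    exact hw.2.preimage p.continuous)
  have hη : ∀ w ∈ bad p, w ≠ genericPoint R := fun w hw h => hX (hp.map_generic ▸ h ▸ hw.2)
  have hF : IsClosed (p ⁻¹' (V : Set X)ᶜ) := V.2.isClosed_compl.preimage p.continuous
  obtain ⟨T, hTf, hTc, hTi, hTu⟩ := NoetherianSpace.exists_finite_set_isClosed_irreducible hF
  haveI := hTf.to_subtype
  refine (Set.finite_range fun C : T => (hTi C.1 C.2).genericPoint).subset fun w hw => ?_
  obtain ⟨C, hC, hwC⟩ : w ∈ ⋃₀ T := hTu ▸ hsub hw
  refine ⟨⟨C, hC⟩, ?_⟩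
  have hgp := (hTi C hC).isGenericPoint_genericPoint_closure
  rw [(hTc C hC).closure_eq] at hgp
  by_contra hne
  obtain ⟨c, hc, hcc⟩ := (isClosed_closure (s := ({w} : Set R))).exists_closed_singleton ⟨w, subset_closure rfl⟩
  have hgV : (hTi C hC).genericPoint ∈ p ⁻¹' (V : Set X)ᶜ := hTu ▸ Set.mem_sUnion_of_mem hgp.mem hC
  have h3 := ModifLib.length_spec_le (genericPoint_specializes (hTi C hC).genericPoint) (fun e => by
      rw [← e] at hgV
      refine hgV (show p (genericPoint R) ∈ V from ?_)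
      rw [hp.map_generic]
      exact hVg)
    (hgp.specializes hwC) hne (specializes_iff_mem_closure.2 hc) (fun e => hw.1 (e ▸ hcc))
  exact absurd (h3.trans (hp.dim_le hdim)) (by norm_num)

/-- A point of a fibre without isolated points has a generalization in it. -/
theorem exists_nonclosed_over [IsNoetherian X] [IsProper p] (x : X) {w₀ : R} (hw₀ : p w₀ = x)
    (hno : ∀ a : ↥(p.fiber x), ¬ IsOpen ({a} : Set ↥(p.fiber x))) :
    ∃ w : R, p w = x ∧ ¬ IsClosed ({w} : Set R) := by
  subst hw₀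
  haveI : IsNoetherian (p.fiber (p w₀)) := by
    haveI : LocallyOfFiniteType (p.fiberToSpecResidueField (p w₀)) :=
      MorphismProperty.pullback_snd _ _ (inferInstance : LocallyOfFiniteType p)
    haveI := LocallyOfFiniteType.isLocallyNoetherian (p.fiberToSpecResidueField (p w₀))
    haveI : CompactSpace (p.fiber (p w₀)) := QuasiCompact.compactSpace_of_compactSpace (p.fiberToSpecResidueField (p w₀))
    exact ⟨⟩
  obtain ⟨z', x', -, hzx, hne⟩ := RelMinSmLib.exists_specializes_of_not_isOpen (hno (p.asFiber w₀))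
  exact ⟨p.fiberι _ z', (p.range_fiberι _).le ⟨z', rfl⟩, fun hc => hne ((p.fiberι _).isEmbedding.injective
    (Set.mem_singleton_iff.1 ((hzx.map (p.fiberι _).continuous).mem_closed hc rfl)).symm)⟩

theorem Mod.surjective (hp : Mod p) : Function.Surjective p := fun x => by
  haveI := hp.proper
  exact (genericPoint_specializes x).mem_closed p.isClosedMap.isClosed_range ⟨_, hp.map_generic⟩

/-- Points over which a modification is finite. -/
theorem Mod.bijective_stalk (hp : Mod p) {V : X.Opens} [IsIso (p ∣_ V)] {x : X} (hx : x ∈ V) :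
    ∃ w, p w = x ∧ Function.Bijective (p.stalkMap w).hom := by
  obtain ⟨w, rfl⟩ := hp.surjective x
  exact ⟨w, rfl, PtBlowLib.bijective_stalkMap_of_isIso p V w hx⟩

variable {S : Scheme.{u}} [IsIntegral S] [IsNoetherian S] {V : S.Opens}

/-- One step: the curves over a point come apart. -/
theorem exists_step (hfin : NormBlowLib.FinNorm S) (hV : (V : Set S).Nonempty) (hdim : topologicalKrullDim S ≤ 2)
    {g : X ⟶ S} (hg : NormBlowLib.IsSt V g) (hp : Mod p) (hR : SncLib.Surf R) (hv : Van p)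
    (x : X) (hgx : g x ∉ V) (hnr : ¬ IsRegularLocalRing (X.presheaf.stalk x)) :
    ∃ (X' : Scheme.{u}) (_ : IsIntegral X') (g' : X' ⟶ S) (k : R ⟶ X'), NormBlowLib.IsSt V g' ∧ Mod k ∧ Van k ∧
      bad k ⊂ bad p := by
  haveI := hg.proper; haveI := hg.iso; haveI := hg.noetherian; haveI := hp.proper; haveI := hR.noeth
  have hdX := hg.dim_le hV hdim
  obtain ⟨Vp, hVp, -, hcl, hno⟩ := hp.exists_iso_open hg.normal hdX
  have hxV : x ∉ Vp := fun h => by
    haveI := hVp
    obtain ⟨w, hw, hb⟩ := hp.bijective_stalk h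
    subst hw
    haveI := hR.regular w
    exact hnr (IsRegularLocalRing.of_ringEquiv (RingEquiv.ofBijective _ hb).symm)
  have hx := hcl x hxV
  obtain ⟨w₀, hw₀⟩ := hp.surjective x
  obtain ⟨w, hw, hwc⟩ := exists_nonclosed_over x hw₀ (hno x hxV)
  have hJ := isEffCartier_comap_point hp hg.normal hdX hR hv x hx w hw hwc
  let 𝓙 := Scheme.IdealSheafData.vanishingIdeal (⟨{x}, hx⟩ : Closeds X)
  obtain ⟨B, b, hb⟩ := Groth.Agent.S8859.result X 𝓙
  have hgen : genericPoint X ∈ g ⁻¹ᵁ V := ModifLib.genericPoint_mem g hV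
  have hne : 𝓙 ≠ ⊥ := fun h => by
    have h1 : genericPoint X ∈ (𝓙.support : Set X) := by
      rw [h, Scheme.IdealSheafData.support_bot]; trivial
    rw [Scheme.IdealSheafData.coe_support_vanishingIdeal] at h1
    exact hgx ((Set.mem_singleton_iff.1 h1) ▸ hgen)
  obtain ⟨hBi, -, -⟩ := BlowUpLib.isIntegral_of_isBlowUp hb hne
  haveI := hBi
  haveI : IsProper b := BlowUpLib.isProper_of_isBlowUp hb fun W => by
    haveI := IsLocallyNoetherian.component_noetherian W
    exact IsNoetherian.noetherian _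
  let O : X.Opens := ⟨({x} : Set X)ᶜ, hx.isOpen_compl⟩
  haveI hbO : IsIso (b ∣_ O) := EffCartLib.isIso_off_center 𝓙 b hb O fun y hy hy' => by
    rw [Scheme.IdealSheafData.coe_support_vanishingIdeal] at hy'
    exact hy hy'
  have hle : g ⁻¹ᵁ V ≤ O := fun y hy h => hgx ((Set.mem_singleton_iff.1 h) ▸ hy)
  haveI : IsIso (b ∣_ g ⁻¹ᵁ V) := ModifLib.isIso_restrict_of_le b hle
  haveI : IsIso ((b ≫ g) ∣_ V) := by rw [morphismRestrict_comp]; infer_instance
  haveI : IsLocallyNoetherian B := LocallyOfFiniteType.isLocallyNoetherian b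
  haveI : QuasiCompact (B.fromSpecStalk (genericPoint B)) := inferInstance
  haveI : QuasiSeparated (B.fromSpecStalk (genericPoint B)) := inferInstance
  haveI : IsFinite (Curv2.normalizationι B) := hfin B (b ≫ g) inferInstance ⟨V, hV, inferInstance⟩
  have hOne : ((b ⁻¹ᵁ O : B.Opens) : Set B).Nonempty := ⟨_, ((b ∣_ O).homeomorph.symm ⟨_, hle hgen⟩).2⟩
  haveI hνO : IsIso (Curv2.normalizationι B ∣_ b ⁻¹ᵁ O) :=
    NormBlowLib.isIso_normalizationι_of_normal B _ hOne
      (NormBlowLib.isNormalScheme_of_isIso (b ∣_ O) (NormBlowLib.isNormalScheme_open hg.normal O))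
  let π := Curv2.normalizationι B ≫ b
  haveI hπO : IsIso (π ∣_ O) := by
    show IsIso ((Curv2.normalizationι B ≫ b) ∣_ O)
    rw [morphismRestrict_comp]
    infer_instance
  haveI : IsIso (π ∣_ g ⁻¹ᵁ V) := ModifLib.isIso_restrict_of_le _ hle
  haveI : IsProper π := inferInstanceAs (IsProper (Curv2.normalizationι B ≫ b))
  have hst : NormBlowLib.IsSt V (π ≫ g) := ⟨fun r hr => by
      show Resolve.IsNormPtBlowupSeq (((Curv2.normalizationι B ≫ b) ≫ g) ≫ r)
      rw [Category.assoc, Category.assoc]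
      exact Resolve.IsNormPtBlowupSeq.step b (g ≫ r) x hx hb (hg.seq r hr),
    inferInstance, LocFFLib.normalization_isNormal B, inferInstance, by rw [morphismRestrict_comp]; infer_instance⟩
  haveI := hst.noetherian
  have hOg : genericPoint X ∈ O := hle hgen
  have hmπ : Mod π := ⟨inferInstance, O, ⟨_, hOg⟩, hπO⟩
  -- the lift
  obtain ⟨φ, hφ, -⟩ := hb.2 R p hJ
  have hmb : Mod b := ⟨inferInstance, O, ⟨_, hOg⟩, hbO⟩
  have hφη : φ (genericPoint R) = genericPoint B := hmb.eq_generic (by
    show (φ ≫ b) (genericPoint R) = _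
    rw [hφ, hp.map_generic])
  obtain ⟨k, hk, -⟩ := Groth.Agent.S9690.result B φ (isNormal_of_regular hR.regular) fun z hz => by
    have hz' : z = genericPoint R := by
      have e : closure ({z} : Set R) = Set.univ := by
        rw [irreducibleComponents_eq_singleton] at hz; exact hz
      exact IsGenericPoint.eq e (genericPoint_spec _)
    rw [hz']
    exact hφη
  have hkπ : k ≫ π = p := by
    show k ≫ Curv2.normalizationι B ≫ b = p
    rw [← Category.assoc, hk, hφ]
  haveI : IsProper k := by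
    haveI : IsProper (k ≫ π) := hkπ.symm ▸ hp.proper
    exact IsProper.of_comp k π
  have hmk : Mod k := by
    obtain ⟨U, hU, hUi⟩ := hp.iso
    let D : X.Opens := U ⊓ O
    haveI : IsIso (π ∣_ D) := ModifLib.isIso_restrict_of_le π inf_le_right
    haveI : IsIso (p ∣_ D) := ModifLib.isIso_restrict_of_le p (U := U) inf_le_left
    refine ⟨inferInstance, π ⁻¹ᵁ D, ⟨genericPoint _, show π _ ∈ D from ?_⟩, ?_⟩
    · rw [hmπ.map_generic]
      exact ⟨((genericPoint_spec X).mem_open_set_iff U.2).2 (by simpa using hU), hOg⟩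
    · have : IsIso ((k ∣_ π ⁻¹ᵁ D) ≫ (π ∣_ D)) := by
        rw [← morphismRestrict_comp]
        exact (fun (m : _ ⟶ _) (hm : m = p) => by subst hm; infer_instance : ∀ m, m = p → IsIso (m ∣_ D)) _ hkπ
      exact IsIso.of_isIso_comp_right _ (π ∣_ D)
  have hdX' := hst.dim_le hV hdim
  have hvk : Van k := van_left hmk hst.normal hdX' hmπ hdX (hkπ.symm ▸ hv)
  refine ⟨Curv2.normalization B, inferInstance, π ≫ g, k, hst, hmk, hvk, ?_, fun hsub => ?_⟩
  · intro v hv'
    refine ⟨hv'.1, ?_⟩
    have := π.isClosedMap _ hv'.2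
    rwa [Set.image_singleton, ← Scheme.Hom.comp_apply, hkπ] at this
  -- a curve over the point stays a curve
  obtain ⟨Vπ, hVπ, -, -, hnoπ⟩ := hmπ.exists_iso_open hg.normal hdX
  obtain ⟨z₀, hz₀⟩ := hmπ.surjective x
  have hxπ : x ∉ Vπ := fun h => by
    haveI := hVπ
    obtain ⟨z, hz, hbij⟩ := hmπ.bijective_stalk h
    obtain ⟨q, -, hq⟩ := DivDescLib.exists_gen hb.1 (Curv2.normalizationι B z)
    have hC : IntMult.stalkIdeal (𝓙.comap π) z = Ideal.span {((Curv2.normalizationι B).stalkMap z).hom q} := by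
      show IntMult.stalkIdeal (𝓙.comap (Curv2.normalizationι B ≫ b)) z = _
      rw [Scheme.IdealSheafData.comap_comp, DivDescLib.stalkIdeal_comap, hq, Ideal.map_span, Set.image_singleton]
    rw [DivDescLib.stalkIdeal_comap] at hC
    subst hz
    rw [PtBlowLib.stalkIdeal_vanishing_point (π z) hx] at hC
    let e := RingEquiv.ofBijective _ hbij
    have hm : (IsLocalRing.maximalIdeal (X.presheaf.stalk (π z))) =
        Ideal.span {e.symm (((Curv2.normalizationι B).stalkMap z).hom q)} := by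
      have h4 := congrArg (Ideal.map e.symm.toRingHom) hC
      rw [Ideal.map_map, Ideal.map_span, Set.image_singleton] at h4
      refine Eq.trans ?_ h4
      refine Eq.trans (Ideal.map_id _).symm (congrArg (fun ψ => Ideal.map ψ (IsLocalRing.maximalIdeal _)) ?_)
      exact RingHom.ext fun v => (e.symm_apply_apply v).symm
    haveI : IsDomain (X.presheaf.stalk (π z)) := (hg.normal (π z)).1
    haveI : IsNoetherianRing (X.presheaf.stalk (π z)) := inferInstance
    have h1 : ringKrullDim (X.presheaf.stalk (π z)) ≤ 1 := by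
      rw [← IsLocalRing.maximalIdeal_height_eq_ringKrullDim]
      refine WithBot.coe_le_coe.2 ?_
      haveI : (IsLocalRing.maximalIdeal (X.presheaf.stalk (π z))).IsPrincipal := ⟨⟨_, hm⟩⟩
      exact Ideal.height_le_one_of_isPrincipal_of_mem_minimalPrimes (IsLocalRing.maximalIdeal _) _
        ⟨⟨inferInstance, le_rfl⟩, fun q hq _ => hq.2⟩
    have h2 : (2 : WithBot ℕ∞) ≤ ringKrullDim (X.presheaf.stalk (π z)) := by
      obtain ⟨U, hU, hUi⟩ := hp.iso
      haveI : IsIso (p.stalkMap (genericPoint R)) := ModifLib.isIso_stalkMap_genericPoint p hU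
      obtain ⟨W, hW, -, hW2⟩ := Groth.Agent.S11555.result p hg.normal hp.map_generic
        (ConcreteCategory.bijective_of_isIso (p.stalkMap (genericPoint R)))
      refine hW2 _ fun hxW => ?_
      haveI := hW
      obtain ⟨v, hv, hvb⟩ := hp.bijective_stalk hxW
      revert hnr
      rw [← hv]
      intro hnr
      haveI := hR.regular v
      exact hnr (IsRegularLocalRing.of_ringEquiv (RingEquiv.ofBijective _ hvb).symm)
    exact absurd (h2.trans h1) (by norm_num)
  obtain ⟨z, hz, hzc⟩ := exists_nonclosed_over x hz₀ (hnoπ x hxπ)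
  obtain ⟨v, rfl⟩ := hmk.surjective z
  have hvp : p v = x := by rw [← hkπ]; exact hz
  have hvc : ¬ IsClosed ({v} : Set R) := fun h => hzc (by
    have := k.isClosedMap _ h
    rwa [Set.image_singleton] at this)
  exact hzc (hsub ⟨hvc, by rw [hvp]; exact hx⟩).2

/-- **Regularization.** -/
theorem regularize (hfin : NormBlowLib.FinNorm S) (hV : (V : Set S).Nonempty) (hdim : topologicalKrullDim S ≤ 2)
    (hVreg : ∀ s ∈ V, IsRegularLocalRing (S.presheaf.stalk s)) (hS : ¬ IsClosed ({genericPoint S} : Set S))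
    (hR : SncLib.Surf R) : ∀ (n : ℕ) {X : Scheme.{u}} [IsIntegral X] {g : X ⟶ S}, NormBlowLib.IsSt V g →
      ∀ {p : R ⟶ X}, Mod p → Van p → (bad p).ncard ≤ n →
        ∃ (X' : Scheme.{u}) (g' : X' ⟶ S), NormBlowLib.IsSt V g' ∧ ∀ x : X', IsRegularLocalRing (X'.presheaf.stalk x) := by
  intro n
  induction n using Nat.strong_induction_on with
  | _ n ih =>
    intro X _ g hg p hp hv hn
    by_cases h : ∀ x : X, IsRegularLocalRing (X.presheaf.stalk x)
    · exact ⟨X, g, hg, h⟩
    push Not at h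
    obtain ⟨x, hx⟩ := h
    haveI := hg.proper; haveI := hg.iso; haveI := hg.noetherian
    have hgx : g x ∉ V := fun h => by
      haveI := hVreg _ h
      exact hx (IsRegularLocalRing.of_ringEquiv
        (RingEquiv.ofBijective _ (PtBlowLib.bijective_stalkMap_of_isIso g V x h)))
    have hXc : ¬ IsClosed ({genericPoint X} : Set X) := fun hc => hS (by
      have := g.isClosedMap _ hc
      rwa [Set.image_singleton, ModifLib.map_genericPoint g hV] at this)
    have hfin' := hp.finite_bad hg.normal (hg.dim_le hV hdim) hXc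
    obtain ⟨X', hX'i, g', k, hg', hk, hvk, hlt⟩ := exists_step hfin hV hdim hg hp hR hv x hgx hx
    haveI := hX'i
    exact ih _ ((Set.ncard_lt_ncard hlt hfin').trans_le hn) hg' hk hvk le_rfl

/-- **A normal surface with a resolution is resolved by normalized blowing ups.** -/
theorem exists_regular_normalized (hn : Pi1.IsNormalScheme S) (hdim : topologicalKrullDim S ≤ 2)
    (hS : ¬ IsClosed ({genericPoint S} : Set S)) {Z : Scheme.{u}} [IsIntegral Z] (f : Z ⟶ S) (hf : Mod f)
    (hreg : ∀ z : Z, IsRegularLocalRing (Z.presheaf.stalk z)) :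
    ∃ (Xn : Scheme.{u}) (g : Xn ⟶ S), Resolve.IsNormPtBlowupSeq g ∧ IsProper g ∧ IsIntegral Xn ∧
      (∃ U : S.Opens, (U : Set S).Nonempty ∧ IsIso (g ∣_ U)) ∧
      ∀ x : Xn, IsRegularLocalRing (Xn.presheaf.stalk x) := by
  haveI := hf.proper
  obtain ⟨U₀, hU₀, hi₀⟩ := hf.iso
  haveI := hi₀
  have hfin := NormBlowLib.finNorm_of_resolution hdim f hU₀ hreg
  obtain ⟨V₁, hV₁, Xn, g, hg₁, h, hh⟩ := NormBlowLib.dominate hn hfin hdim f hU₀
  let V := V₁ ⊓ U₀
  have hgenV : genericPoint S ∈ V := ⟨((genericPoint_spec S).mem_open_set_iff V₁.2).2 (by simpa using hV₁),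
    ((genericPoint_spec S).mem_open_set_iff U₀.2).2 (by simpa using hU₀)⟩
  have hV : (V : Set S).Nonempty := ⟨_, hgenV⟩
  have hg : NormBlowLib.IsSt V g :=
    ⟨hg₁.seq, hg₁.integral, hg₁.normal, hg₁.proper, haveI := hg₁.iso; ModifLib.isIso_restrict_of_le g inf_le_left⟩
  haveI := hg.proper; haveI := hg.integral; haveI := hg.noetherian; haveI := hg.iso
  have hVreg : ∀ s ∈ V, IsRegularLocalRing (S.presheaf.stalk s) := fun s hs => by
    haveI : IsIso (f ∣_ V) := ModifLib.isIso_restrict_of_le f (U := U₀) inf_le_right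
    obtain ⟨w, rfl⟩ := hf.surjective s
    haveI := hreg w
    exact IsRegularLocalRing.of_ringEquiv
      (RingEquiv.ofBijective _ (PtBlowLib.bijective_stalkMap_of_isIso f V w hs)).symm
  haveI : IsLocallyNoetherian Z := LocallyOfFiniteType.isLocallyNoetherian f
  haveI : CompactSpace Z := QuasiCompact.compactSpace_of_compactSpace f
  haveI : IsNoetherian Z := {}
  have hdZ := hf.dim_le hdim
  have hZ : SncLib.Surf Z := ⟨inferInstance, inferInstance, hreg, hdZ⟩
  haveI : IsProper h := by
    haveI : IsProper (h ≫ f) := hh.symm ▸ hg.proper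
    exact IsProper.of_comp h f
  have hmh : Mod h := by
    haveI : IsIso (f ∣_ V) := ModifLib.isIso_restrict_of_le f (U := U₀) inf_le_right
    refine ⟨inferInstance, f ⁻¹ᵁ V, ⟨genericPoint Z, show f _ ∈ V from hf.map_generic.symm ▸ hgenV⟩, ?_⟩
    have : IsIso ((h ∣_ f ⁻¹ᵁ V) ≫ (f ∣_ V)) := by
      rw [← morphismRestrict_comp]
      exact (fun (m : Xn ⟶ S) (hm : m = g) => by subst hm; exact hg.iso : ∀ m : Xn ⟶ S, m = g → IsIso (m ∣_ V)) _ hh
    exact IsIso.of_isIso_comp_right _ (f ∣_ V)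
  have hnZ := isNormal_of_regular hreg
  obtain ⟨T₀, hT₀, hTf, hTcl, -⟩ := hmh.exists_iso_open hnZ hdZ
  haveI : IsIso (h.stalkMap (genericPoint Xn)) := by
    obtain ⟨U, hU, hUi⟩ := hmh.iso
    exact ModifLib.isIso_stalkMap_genericPoint h hU
  obtain ⟨W, hW, -, hW2⟩ := Groth.Agent.S11555.result h hnZ hmh.map_generic
    (ConcreteCategory.bijective_of_isIso (h.stalkMap (genericPoint Xn)))
  let T : Set Z := (W : Set Z)ᶜ
  have hTc : IsClosed T := W.2.isClosed_compl
  have hTcl' : ∀ z ∈ T, IsClosed ({z} : Set Z) := fun z hz => PtBlowLib.isClosed_of_two_le hdZ z (hW2 z hz)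
  obtain ⟨R, q, hq, -, p, hpq⟩ := Groth.Agent.S7320.result Z T (PtBlowLib.finite_of_closedPoints hTc hTcl') hTc
    (fun z hz => ⟨hTcl' z hz, hreg z, le_antisymm ((DimIneqLib.stalk_dim_le_dim z).trans hdZ) (hW2 z hz)⟩) h (by
      rw [show (⟨Tᶜ, hTc.isOpen_compl⟩ : Z.Opens) = W from Opens.ext (compl_compl _)]
      exact hW)
  obtain ⟨hRi, hR, hmq, hvq⟩ := van_of_contractionSeq q hq hZ
  haveI := hRi; haveI := hR.noeth; haveI := hmq.proper
  haveI : IsProper p := by
    haveI : IsProper (p ≫ h) := hpq.symm ▸ hmq.proper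
    exact IsProper.of_comp p h
  have hmp : Mod p := by
    obtain ⟨U, hU, hUi⟩ := hmq.iso
    obtain ⟨U', hU', hU'i⟩ := hmh.iso
    let D : Z.Opens := U ⊓ U'
    haveI : IsIso (h ∣_ D) := ModifLib.isIso_restrict_of_le h (U := U') inf_le_right
    haveI : IsIso (q ∣_ D) := ModifLib.isIso_restrict_of_le q (U := U) inf_le_left
    refine ⟨inferInstance, h ⁻¹ᵁ D, ⟨genericPoint Xn, show h _ ∈ D from hmh.map_generic.symm ▸
      ⟨((genericPoint_spec Z).mem_open_set_iff U.2).2 (by simpa using hU),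
        ((genericPoint_spec Z).mem_open_set_iff U'.2).2 (by simpa using hU')⟩⟩, ?_⟩
    have : IsIso ((p ∣_ h ⁻¹ᵁ D) ≫ (h ∣_ D)) := by
      rw [← morphismRestrict_comp]
      exact (fun (m : _ ⟶ _) (hm : m = q) => by subst hm; infer_instance : ∀ m, m = q → IsIso (m ∣_ D)) _ hpq
    exact IsIso.of_isIso_comp_right _ (h ∣_ D)
  have hvp : Van p := van_left hmp hg.normal (hg.dim_le hV hdim) hmh hdZ (hpq.symm ▸ hvq)
  obtain ⟨X', g', hg', hreg'⟩ := regularize hfin hV hdim hVreg hS hR _ hg hmp hvp le_rfl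
  exact ⟨X', g', hg'.contractionSeq, hg'.proper, hg'.integral, ⟨V, hV, hg'.iso⟩, hreg'⟩

end RatModLib
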