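import Mathlib
import Groth.Agent.RatModLib.Regularize
import Groth.Agent.S1650
import Groth.Agent.S7297
import Groth.Agent.CMFlatLib.Basic
import Groth.Agent.CMFlatLib.Open
import Groth.Agent.MiscFlat6.NormalLowDim

/-! The blowing up of a rational singularity in its maximal ideal. -/

set_option autoImplicit false
set_option linter.style.haveILetI false
set_option linter.unusedSectionVars false
set_option maxHeartbeats 2000000
set_option backward.isDefEq.respectTransparency false
set_option backward.isDefEq.respectTransparency.types false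
universe u

open CategoryTheory CategoryTheory.Limits AlgebraicGeometry TopologicalSpace

namespace RatModLib

theorem closedPoint_ne_generic {A : Type u} [CommRing A] [IsDomain A] [IsLocalRing A] [IsNoetherianRing A]
    (hdim : ringKrullDim A = 2) :
    genericPoint (Spec (CommRingCat.of A)) ≠ IsLocalRing.closedPoint A := fun h => by
  have hm : IsLocalRing.maximalIdeal A = ⊥ := by
    have := congrArg PrimeSpectrum.asIdeal h
    rw [genericPoint_eq_bot_of_affine] at this
    exact this.symm
  have := IsLocalRing.isField_iff_maximalIdeal_eq.2 hm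
  rw [ringKrullDim_eq_zero_of_isField this] at hdim
  norm_num at hdim

theorem coe_support_pre_max {A : Type u} [CommRing A] [IsLocalRing A] {X : Scheme.{u}} (b : X ⟶ Spec (CommRingCat.of A)) :
    ((pre b (IsLocalRing.maximalIdeal A)).support : Set X) = b ⁻¹' {IsLocalRing.closedPoint A} := by
  ext x
  rw [Scheme.IdealSheafData.support_comap]
  show b x ∈ ((Curv2.idealSheaf A (IsLocalRing.maximalIdeal A)).support : Set (Spec (CommRingCat.of A))) ↔ _
  rw [PtBlowLib.coe_support_idealSheaf, PrimeSpectrum.mem_zeroLocus]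
  refine ⟨fun h => PrimeSpectrum.ext ?_, fun h a ha => ?_⟩
  · exact ((IsLocalRing.maximalIdeal.isMaximal A).eq_of_le (b x).isPrime.ne_top h).symm
  · rw [show b x = IsLocalRing.closedPoint A from h]
    exact ha

/-- The geometry of the blowing up in the maximal ideal. -/
theorem blow_data (A : Type u) [CommRing A] [IsDomain A] [IsLocalRing A] [IsNoetherianRing A]
    [IsIntegrallyClosed A] (hN : CAlg.IsNagata A) (hdim : ringKrullDim A = 2) (hA : Curv2.IsRationalSing A)
    {X : Scheme.{u}} (b : X ⟶ Spec (CommRingCat.of A))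
    (hb : BlowUp.IsBlowUp b (Curv2.idealSheaf A (IsLocalRing.maximalIdeal A))) :
    ∃ (_ : IsIntegral X), Mod b ∧ Pi1.IsNormalScheme X ∧ X.IsSeparated ∧ IsNoetherian X ∧ topologicalKrullDim X ≤ 2 ∧
      H1z X ∧ (∀ G : X.Modules, Coh.IsQCoh G → Subsingleton (Coh.HH X G 2)) ∧
      genericPoint X ∉ ((pre b (IsLocalRing.maximalIdeal A)).support : Set X) ∧
      ∃ w ∈ ((pre b (IsLocalRing.maximalIdeal A)).support : Set X), ¬ IsClosed ({w} : Set X) := by
  let I := Curv2.idealSheaf A (IsLocalRing.maximalIdeal A)
  let s : Spec (CommRingCat.of A) := IsLocalRing.closedPoint A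
  have hs := IsLocalRing.isClosed_singleton_closedPoint A
  have hηs := closedPoint_ne_generic (A := A) hdim
  have hIs : (I.support : Set (Spec (CommRingCat.of A))) = {s} := by
    have h := coe_support_pre_max (A := A) (𝟙 (Spec (CommRingCat.of A)))
    rw [show pre (𝟙 (Spec (CommRingCat.of A))) (IsLocalRing.maximalIdeal A) = I from
      Scheme.IdealSheafData.comap_id _] at h
    rw [h]
    rfl
  have hI : I ≠ ⊥ := fun h => by
    have h1 : genericPoint (Spec (CommRingCat.of A)) ∈ (I.support : Set (Spec (CommRingCat.of A))) := by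
      rw [h, Scheme.IdealSheafData.support_bot]; trivial
    rw [hIs] at h1
    exact hηs h1
  obtain ⟨hXi, -, -⟩ := BlowUpLib.isIntegral_of_isBlowUp hb hI
  haveI := hXi
  haveI : IsProper b := BlowUpLib.isProper_of_isBlowUp hb fun W => by
    haveI := IsLocallyNoetherian.component_noetherian W
    exact IsNoetherian.noetherian _
  haveI : IsLocallyNoetherian X := LocallyOfFiniteType.isLocallyNoetherian b
  haveI : CompactSpace X := QuasiCompact.compactSpace_of_compactSpace b
  haveI : IsNoetherian X := {}
  let U : (Spec (CommRingCat.of A)).Opens := ⟨({s} : Set _)ᶜ, hs.isOpen_compl⟩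
  haveI hUi : IsIso (b ∣_ U) := EffCartLib.isIso_off_center I b hb U fun y hy hy' => by
    rw [hIs] at hy'
    exact hy hy'
  have hU : (U : Set (Spec (CommRingCat.of A))).Nonempty := ⟨_, hηs⟩
  have hm : Mod b := ⟨inferInstance, U, hU, hUi⟩
  have hXn : Pi1.IsNormalScheme X := Groth.Agent.S1650.result A hN hdim hA X b hb
  have hd : topologicalKrullDim (Spec (CommRingCat.of A)) ≤ 2 :=
    (PrimeSpectrum.topologicalKrullDim_eq_ringKrullDim A).le.trans hdim.le
  have hη : genericPoint X ∉ ((pre b (IsLocalRing.maximalIdeal A)).support : Set X) := fun h => by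
    rw [coe_support_pre_max] at h
    exact hηs (hm.map_generic.symm.trans h)
  refine ⟨hXi, hm, hXn, sep_of_proper b, inferInstance, hm.dim_le hd, hA X b inferInstance hXi hXn ⟨U, hU, hUi⟩,
    fun G hG => Groth.Agent.S7297.result A hN hdim hA X b hXn ⟨U, hU, hUi⟩ G hG 2 le_rfl, hη, ?_⟩
  obtain ⟨V, hV, -, -, hno⟩ := hm.exists_iso_open (ParaFLib.isNormal_spec A) hd
  obtain ⟨z₀, hz₀⟩ := hm.surjective s
  have hsV : s ∉ V := fun h => by
    haveI := hV
    obtain ⟨z, hz, hbij⟩ := hm.bijective_stalk h
    obtain ⟨q, -, hq⟩ := SDivLib.exists_gen hb.1 z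
    rw [DivDescLib.stalkIdeal_comap] at hq
    have hIv : IntMult.stalkIdeal I (b z) = IsLocalRing.maximalIdeal ((Spec (CommRingCat.of A)).presheaf.stalk (b z)) := by
      rw [hz]
      show IntMult.stalkIdeal I s = _
      rw [SDivLib.stalkIdeal_eq I ⟨⊤, isAffineOpen_top _⟩ (show s ∈ (⊤ : (Spec (CommRingCat.of A)).Opens) from trivial),
        show I.ideal ⟨⊤, isAffineOpen_top _⟩ = (IsLocalRing.maximalIdeal A).map (Scheme.ΓSpecIso (CommRingCat.of A)).inv.hom
          from PtBlowLib.idealSheaf_top _, Ideal.map_map]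
      letI : Algebra A ((Spec (CommRingCat.of A)).presheaf.stalk s) :=
        StructureSheaf.stalkAlgebra A s
      haveI : IsLocalization.AtPrime ((Spec (CommRingCat.of A)).presheaf.stalk s) (IsLocalRing.maximalIdeal A) :=
        StructureSheaf.IsLocalization.to_stalk A s
      exact IsLocalization.AtPrime.map_eq_maximalIdeal (IsLocalRing.maximalIdeal A)
        ((Spec (CommRingCat.of A)).presheaf.stalk s)
    rw [hIv] at hq
    let e := RingEquiv.ofBijective _ hbij
    haveI hp : (IsLocalRing.maximalIdeal ((Spec (CommRingCat.of A)).presheaf.stalk (b z))).IsPrincipal := by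
      refine ⟨⟨e.symm q, ?_⟩⟩
      have h4 := congrArg (Ideal.map e.symm.toRingHom) hq
      rw [Ideal.map_map, Ideal.map_span, Set.image_singleton] at h4
      refine Eq.trans ?_ h4
      refine Eq.trans (Ideal.map_id _).symm (congrArg (fun ψ => Ideal.map ψ (IsLocalRing.maximalIdeal _)) ?_)
      exact RingHom.ext fun v => (e.symm_apply_apply v).symm
    haveI : IsDomain ((Spec (CommRingCat.of A)).presheaf.stalk (b z)) := inferInstance
    have h1 : ringKrullDim ((Spec (CommRingCat.of A)).presheaf.stalk (b z)) ≤ 1 := by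
      rw [← IsLocalRing.maximalIdeal_height_eq_ringKrullDim]
      refine WithBot.coe_le_coe.2 ?_
      exact Ideal.height_le_one_of_isPrincipal_of_mem_minimalPrimes (IsLocalRing.maximalIdeal _) _
        ⟨⟨inferInstance, le_rfl⟩, fun q hq _ => hq.2⟩
    have h2 : ringKrullDim ((Spec (CommRingCat.of A)).presheaf.stalk s) = 2 := by
      refine Eq.trans ?_ hdim
      letI : Algebra A ((Spec (CommRingCat.of A)).presheaf.stalk s) :=
        StructureSheaf.stalkAlgebra A s
      haveI : IsLocalization.AtPrime ((Spec (CommRingCat.of A)).presheaf.stalk s) (IsLocalRing.maximalIdeal A) :=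
        StructureSheaf.IsLocalization.to_stalk A s
      rw [IsLocalization.AtPrime.ringKrullDim_eq_height (IsLocalRing.maximalIdeal A),
        IsLocalRing.maximalIdeal_height_eq_ringKrullDim]
    rw [hz] at h1
    rw [h2] at h1
    exact absurd h1 (by norm_num)
  obtain ⟨w, hw, hwc⟩ := exists_nonclosed_over s hz₀ (hno s hsV)
  exact ⟨w, by rw [coe_support_pre_max]; exact hw, hwc⟩

/-- The exceptional divisor is Cohen–Macaulay of dimension one. -/
theorem cm_dim_one {X : Scheme.{u}} [IsIntegral X] [IsNoetherian X] (hn : Pi1.IsNormalScheme X)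
    (hdim : topologicalKrullDim X ≤ 2) (E : X.IdealSheafData) (hE : BlowUp.IsEffCartierIdeal E)
    (hη : genericPoint X ∉ (E.support : Set X)) {w : X} (hw : w ∈ (E.support : Set X)) (hwc : ¬ IsClosed ({w} : Set X)) :
    (∀ e : E.subscheme, LocCoh.IsCohenMacaulayLocalRing (E.subscheme.presheaf.stalk e)) ∧
      topologicalKrullDim E.subscheme = 1 := by
  refine ⟨fun e => ?_, ?_⟩
  · let x := E.subschemeι e
    have hx : x ∈ (E.support : Set X) := E.range_subschemeι ▸ Set.mem_range_self e
    have hk : RingHom.ker (E.subschemeι.stalkMap e).hom = IntMult.stalkIdeal E x := by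
      rw [IntTensorLib.ker_stalkMap_eq_stalkIdeal E.subschemeι e, E.ker_subschemeι]
    let ε := (Ideal.quotEquivOfEq hk.symm).trans
      (RingHom.quotientKerEquivOfSurjective (E.subschemeι.stalkMap_surjective e))
    obtain ⟨t, ht, hts⟩ := SDivLib.exists_gen hE x
    have htm : t ∈ IsLocalRing.maximalIdeal (X.presheaf.stalk x) := by
      by_contra h
      refine (SDivLib.mem_support_iff_stalk E x).1 hx ?_
      rw [hts, Ideal.span_singleton_eq_top]
      exact IsLocalRing.notMem_maximalIdeal.1 h
    haveI : IsLocallyNoetherian E.subscheme := LocallyOfFiniteType.isLocallyNoetherian E.subschemeι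
    haveI : IsNoetherianRing (E.subscheme.presheaf.stalk e) := inferInstance
    haveI := (hn x).1
    haveI : IsNoetherianRing (X.presheaf.stalk x) := inferInstance
    haveI hnt : Nontrivial (X.presheaf.stalk x ⧸ Ideal.span {t}) :=
      Ideal.Quotient.nontrivial_iff.2 (hts ▸ (SDivLib.mem_support_iff_stalk E x).1 hx)
    haveI : IsLocalRing (X.presheaf.stalk x ⧸ Ideal.span {t}) :=
      IsLocalRing.of_surjective' _ Ideal.Quotient.mk_surjective
    rw [CMFlatLib.isCohenMacaulayLocalRing_iff_isCM]
    refine CatLib.isCM_of_ringEquiv ((Ideal.quotEquivOfEq hts.symm).trans ε) ?_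
    refine (CMFlatLib.isCM_quotient_iff ?_ htm).2 ?_
    · exact isSMulRegular_iff_right_eq_zero_of_smul.2 fun z hz =>
        (mul_eq_zero.1 hz).resolve_left (nonZeroDivisors.ne_zero ht)
    · exact (CMFlatLib.isCohenMacaulayLocalRing_iff_isCM _).1
        (MiscFlat6.isCohenMacaulayLocalRing_stalk_of_normal X hn hdim x)
  · have hhom : topologicalKrullDim E.subscheme = topologicalKrullDim (E.support : Set X) := by
      refine (E.subschemeι.isEmbedding.toHomeomorph.isHomeomorph.topologicalKrullDim_eq).trans ?_
      rw [E.range_subschemeι]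
    rw [hhom]
    refine le_antisymm (ModifLib.dim_le_of_genericPoint_notMem 1 (hdim.trans le_rfl) _ E.support.isClosed hη) ?_
    obtain ⟨c, hc, hcc⟩ := (isClosed_closure (s := ({w} : Set X))).exists_closed_singleton ⟨w, subset_closure rfl⟩
    have hsp : w ⤳ c := specializes_iff_mem_closure.2 hc
    have hcE : c ∈ (E.support : Set X) := hsp.mem_closed E.support.isClosed hw
    let Z : Set X := E.support
    haveI : QuasiSober Z := E.support.isClosed.isClosedEmbedding_subtypeVal.quasiSober
    have hlt : (⟨closure {(⟨c, hcE⟩ : Z)}, isIrreducible_singleton.closure, isClosed_closure⟩ : IrreducibleCloseds Z) <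
        ⟨closure {(⟨w, hw⟩ : Z)}, isIrreducible_singleton.closure, isClosed_closure⟩ := by
      have hs' : (⟨w, hw⟩ : Z) ⤳ ⟨c, hcE⟩ := (subtype_specializes_iff _ _).2 hsp
      refine lt_of_le_not_ge (fun v hv => closure_minimal (Set.singleton_subset_iff.2 hs'.mem_closure) isClosed_closure hv)
        fun hle => hwc ?_
      have h2 : (⟨c, hcE⟩ : Z) ⤳ ⟨w, hw⟩ := specializes_iff_mem_closure.2 (hle (subset_closure rfl))
      have : c = w := congrArg Subtype.val (h2.antisymm hs').eq
      rw [← this]; exact hcc
    exact Order.LTSeries.length_le_krullDim ((RelSeries.singleton _ _).snoc _ (by simpa using hlt))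

end RatModLib
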