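import Mathlib
import Groth.Agent.RatModLib.Gen
import Groth.Agent.RatModLib.BlowData
import Groth.Agent.RatModLib.Gr
import Groth.Agent.SDivLib.Divisor

/-! Pairs of elements generating a power of the closed fibre ideal on the blowing up. -/

set_option autoImplicit false
set_option linter.style.haveILetI false
set_option linter.unusedSectionVars false
set_option maxHeartbeats 1000000
set_option backward.isDefEq.respectTransparency false
set_option backward.isDefEq.respectTransparency.types false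
universe u

open CategoryTheory AlgebraicGeometry TopologicalSpace IsLocalRing

noncomputable section

namespace RatModLib

variable {A : Type u} [CommRing A] {X : Scheme.{u}}

theorem stalkIdeal_pre (f : X ⟶ Spec (CommRingCat.of A)) (K : Ideal A) (x : X) :
    IntMult.stalkIdeal (pre f K) x = K.map (phi f x) := by
  obtain ⟨U, hU, hx, -⟩ := exists_isAffineOpen_mem_and_subset (x := x) (U := (⊤ : X.Opens)) trivial
  rw [SDivLib.stalkIdeal_eq _ ⟨U, hU⟩ hx, PtBlowLib.ideal_comap_idealSheaf, Ideal.map_map]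
  refine congrArg (fun φ => Ideal.map φ K) (RingHom.ext fun a => ?_)
  exact (X.presheaf.germ_res_apply (homOfLE (le_top : U ≤ ⊤)) x hx (Coh.toGlobal f a))

/-- Membership in the inverse image can be tested in the local rings. -/
theorem in_of_stalk (f : X ⟶ Spec (CommRingCat.of A)) (K : Ideal A) {a : A}
    (h : ∀ x, phi f x a ∈ K.map (phi f x)) : In (pre f K) (Coh.toGlobal f a) := fun W =>
  SDivLib.le_of_stalk (I := pre f (Ideal.span {a})) (fun x => by
    rw [stalkIdeal_pre, stalkIdeal_pre, Ideal.map_span, Set.image_singleton, Ideal.span_singleton_le_iff_mem]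
    exact h x) W (In.of_mem f (Ideal.mem_span_singleton_self a) W)

theorem mem_support_pre_iff (f : X ⟶ Spec (CommRingCat.of A)) (K : Ideal A) (x : X) :
    x ∈ ((pre f K).support : Set X) ↔ K.map (phi f x) ≤ maximalIdeal (X.presheaf.stalk x) := by
  rw [← stalkIdeal_pre]
  refine ⟨fun h => le_maximalIdeal ((SDivLib.mem_support_iff_stalk _ x).1 h), fun h =>
    (SDivLib.mem_support_iff_stalk _ x).2 fun h' => (maximalIdeal.isMaximal _).ne_top (top_le_iff.1 (h' ▸ h))⟩

theorem closed_mem_support [IsLocalRing A] (f : X ⟶ Spec (CommRingCat.of A)) [IsProper f] {x : X}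
    (hx : IsClosed ({x} : Set X)) : x ∈ ((pre f (maximalIdeal A)).support : Set X) := by
  rw [mem_support_pre_iff, Ideal.map_le_iff_le_comap]
  have h := f.isClosedMap _ hx
  rw [Set.image_singleton] at h
  have h2 : (f x).asIdeal = maximalIdeal A := eq_maximalIdeal ((PrimeSpectrum.isClosed_singleton_iff_isMaximal _).1 h)
  have h3 : f x = Spec.map (CommRingCat.ofHom (phi f x)) (closedPoint (X.presheaf.stalk x)) := by
    rw [← fromSpecStalk_comp, Scheme.Hom.comp_apply]
    exact congrArg (fun z => f z) (Scheme.fromSpecStalk_closedPoint (X := X) (x := x)).symm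
  rw [← h2, h3]
  exact le_rfl

theorem finite_maximal_in {T : Set X} [NoetherianSpace X] (hT : IsClosed T) :
    {x : X | x ∈ T ∧ ∀ y ∈ T, y ⤳ x → y = x}.Finite := by
  classical
  obtain ⟨S, hSf, hSc, hSi, hST⟩ := NoetherianSpace.exists_finite_set_isClosed_irreducible hT
  haveI : Finite S := hSf
  refine (Set.finite_range fun s : S => (hSi s.1 s.2).genericPoint).subset ?_
  rintro x ⟨hxT, hx⟩
  obtain ⟨s, hs, hxs⟩ : ∃ s ∈ S, x ∈ s := by rw [hST] at hxT; exact Set.mem_sUnion.1 hxT
  have hgs : (hSi s hs).genericPoint ∈ s := by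
    have := (hSi s hs).isGenericPoint_genericPoint (hSc s hs)
    exact this.mem
  refine ⟨⟨s, hs⟩, hx _ (hST ▸ Set.mem_sUnion.2 ⟨s, hs, hgs⟩) ?_⟩
  exact ((hSi s hs).isGenericPoint_genericPoint (hSc s hs)).specializes hxs

/-- In a space of dimension two, a point strictly between the generic point and another non-closed point
does not exist. -/
theorem eq_of_specializes_of_nonclosed [IsIntegral X] [CompactSpace X] (hd : topologicalKrullDim X ≤ 2)
    {x y : X} (hxy : y ⤳ x) (hy : y ≠ genericPoint X) (hx : ¬ IsClosed ({x} : Set X)) : y = x := by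
  by_contra hne
  obtain ⟨x0, hx0, hx0c⟩ := (isClosed_closure (s := ({x} : Set X))).exists_closed_singleton
    ⟨x, subset_closure rfl⟩
  have hx0s : x ⤳ x0 := specializes_iff_mem_closure.2 hx0
  let cl : X → IrreducibleCloseds X := fun z => ⟨closure {z}, isIrreducible_singleton.closure, isClosed_closure⟩
  have hlt : ∀ {z z' : X}, z ⤳ z' → z ≠ z' → cl z' < cl z := fun {z z'} h hne => by
    refine lt_of_le_of_ne (specializes_iff_closure_subset.1 h) fun he => hne ?_
    exact ((inseparable_iff_closure_eq.mpr (congrArg IrreducibleCloseds.carrier he)).eq).symm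
  have h1 : cl x0 < cl x := hlt hx0s fun h => hx (h ▸ hx0c)
  have h2 : cl x < cl y := hlt hxy hne
  have h3 : cl y < cl (genericPoint X) := hlt (genericPoint_specializes y) (Ne.symm hy)
  let L : LTSeries (IrreducibleCloseds X) :=
    (((RelSeries.singleton _ (cl x0)).snoc (cl x) h1).snoc (cl y) (by simpa using h2)).snoc
      (cl (genericPoint X)) (by simpa using h3)
  have h : ((3 : ℕ) : WithBot ℕ∞) ≤ 2 := (show ((L.length : ℕ) : WithBot ℕ∞) ≤ _ from Order.LTSeries.length_le_krullDim L).trans hd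
  exact absurd (show (3 : ℕ) ≤ 2 by exact_mod_cast h) (by omega)

/-- Two elements of degree `D` without common zero, for `D` a power of any large prime. -/
theorem exists_pair [IsLocalRing A] [IsIntegral X] [IsNoetherian X] (f : X ⟶ Spec (CommRingCat.of A)) [IsProper f]
    (hb : BlowUp.IsBlowUp f (Curv2.idealSheaf A (maximalIdeal A))) (hd : topologicalKrullDim X ≤ 2)
    (hη : genericPoint X ∉ ((pre f (maximalIdeal A)).support : Set X)) :
    ∃ N : ℕ, ∀ p : ℕ, p.Prime → N ≤ p → ∃ (k : ℕ) (a b : A),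
      a ∈ maximalIdeal A ^ (p ^ (k + 1)) ∧ b ∈ maximalIdeal A ^ (p ^ (k + 1)) ∧ ∀ x, Gen f (maximalIdeal A) (p ^ (k + 1)) a x ∨ Gen f (maximalIdeal A) (p ^ (k + 1)) b x := by
  classical
  haveI : CompactSpace X := inferInstance
  have hb' : BlowUp.IsBlowUp f (BlowUpLib.specIdeal (maximalIdeal A)) := hb
  have hP : ∀ x, ∃ t, t ≠ 0 ∧ (maximalIdeal A).map (phi f x) = Ideal.span {t} := fun x => by
    obtain ⟨t, ht, hs⟩ := SDivLib.exists_gen hb.1 x
    exact ⟨t, nonZeroDivisors.ne_zero ht, by rw [← stalkIdeal_pre, ← hs]⟩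
  let E : Set X := ((pre f (maximalIdeal A)).support : Set X)
  have hE : IsClosed E := (pre f (maximalIdeal A)).support.isClosed
  let S₁ := (finite_maximal_in (X := X) hE).toFinset
  obtain ⟨N₁, hN₁⟩ := exists_gen_at hb' hP S₁ fun x hx y hy h =>
    ((Set.Finite.mem_toFinset _).1 hx).2 y ((Set.Finite.mem_toFinset _).1 hy).1 h
  refine ⟨N₁, fun p hp hNp => ?_⟩
  obtain ⟨a, ha, haS⟩ := hN₁ p hNp
  let T : Set X := E ∩ {x | Gen f (maximalIdeal A) p a x}ᶜ
  have hT : IsClosed T := hE.inter (gen_open hb' hP ha).isClosed_compl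
  have hTc : ∀ x ∈ T, IsClosed ({x} : Set X) := fun x hx => by
    by_contra hnc
    exact hx.2 (haS x ((Set.Finite.mem_toFinset _).2
      ⟨hx.1, fun y hy hyx => eq_of_specializes_of_nonclosed hd hyx (fun h => hη (h ▸ hy)) hnc⟩))
  let S₂ := (finite_maximal_in (X := X) hT).toFinset
  have hS₂ : ∀ x ∈ T, x ∈ S₂ := fun x hx =>
    (Set.Finite.mem_toFinset _).2 ⟨hx, fun y hy hyx => (hTc y hy).closure_subset_iff.2 le_rfl |> fun h =>
      (Set.mem_singleton_iff.1 (h (specializes_iff_mem_closure.1 hyx))).symm⟩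
  obtain ⟨N₂, hN₂⟩ := exists_gen_at hb' hP S₂ fun x hx y hy h =>
    ((Set.Finite.mem_toFinset _).1 hx).2 y ((Set.Finite.mem_toFinset _).1 hy).1 h
  obtain ⟨b, hbm, hbS⟩ := hN₂ (p ^ N₂) (Nat.lt_pow_self hp.one_lt).le
  refine ⟨N₂, a ^ (p ^ N₂), b ^ p, ?_, ?_, fun x => ?_⟩
  · rw [pow_succ', pow_mul]; exact Ideal.pow_mem_pow ha _
  · rw [pow_succ, pow_mul]; exact Ideal.pow_mem_pow hbm _
  have hor : Gen f (maximalIdeal A) p a x ∨ Gen f (maximalIdeal A) (p ^ N₂) b x := by
    obtain ⟨x0, hx0, hx0c⟩ := (isClosed_closure (s := ({x} : Set X))).exists_closed_singleton ⟨x, subset_closure rfl⟩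
    have hs : x ⤳ x0 := specializes_iff_mem_closure.2 hx0
    by_cases h : Gen f (maximalIdeal A) p a x0
    · exact .inl (hs.mem_open (gen_open hb' hP ha) h)
    · exact .inr (hs.mem_open (gen_open hb' hP hbm) (hbS x0 (hS₂ x0 ⟨closed_mem_support f hx0c, h⟩)))
  rcases hor with h | h
  · exact .inl (by rw [pow_succ']; exact h.pow _)
  · exact .inr (by rw [pow_succ]; exact h.pow _)

end RatModLib

end
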