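import Mathlib
import Groth.Agent.RatModLib.Gr
import Groth.Agent.RatModLib.Gen
import Groth.Agent.RatModLib.Pair
import Groth.Agent.AmpleDevLib.Devissage
import Groth.Agent.ProjFormLib.Proj
import Groth.Agent.HilbPolyLib.Twist

/-! A trivial conormal sheaf gives linear growth of the sections of the powers. -/

set_option autoImplicit false
set_option linter.style.haveILetI false
set_option linter.unusedSectionVars false
set_option maxHeartbeats 2000000
set_option backward.isDefEq.respectTransparency false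
set_option backward.isDefEq.respectTransparency.types false
universe u

open CategoryTheory CategoryTheory.Limits AlgebraicGeometry TopologicalSpace Opposite

noncomputable section

namespace RatModLib

variable {X : Scheme.{u}}

/-- A trivial conormal sheaf trivializes every graded piece. -/
theorem nonempty_graded_triv [IsNoetherian X] (I : X.IdealSheafData) (hI : BlowUp.IsEffCartierIdeal I)
    (hc : Nonempty ((Scheme.Modules.pullback I.subschemeι).obj (ClSub.idealMod I) ≅ Coh.structureModule I.subscheme))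
    (n : ℕ) : Nonempty (CohB1.tensorMod (CohB1.tensorPow (ClSub.idealMod I) n) (ClSub.quotMod I) ≅ ClSub.quotMod I) := by
  obtain ⟨c⟩ := hc
  have hinv := IntMultLib.isInvertible_idealMod _ hI
  let pr := @asIso _ _ _ _ (ProjFormLib.projApp I.subschemeι (ClSub.idealMod I) (Coh.structureModule I.subscheme))
    (ProjFormLib.isIso_projApp I.subschemeι (AmpleDevLib.isFinLocFree_of_isInvertible hinv) (Coh.structureModule I.subscheme))
  let e : CohB1.tensorMod (ClSub.idealMod I) (ClSub.quotMod I) ≅ ClSub.quotMod I :=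
    pr ≪≫ (Coh.push I.subschemeι).mapIso (HilbPolyLib.swapIso _ _ ≪≫ HilbPolyLib.unitLeft _ ≪≫ c)
  induction n with
  | zero => exact ⟨HilbPolyLib.unitLeft _⟩
  | succ n ih =>
    obtain ⟨e'⟩ := ih
    exact ⟨HilbPolyLib.assocIso _ _ _ ≪≫ HilbPolyLib.congrRight _ e ≪≫ e'⟩

variable {A : Type u} [CommRing A] [X.Over (Spec (CommRingCat.of A))]
  (hinj : Function.Injective (Coh.toGlobal (X ↘ Spec (CommRingCat.of A))))
  (hsurj : Function.Surjective (Coh.toGlobal (X ↘ Spec (CommRingCat.of A))))

/-- The sections of the powers, as submodules of the base. -/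
def secPow (I : X.IdealSheafData) (n : ℕ) : Submodule A A := LinearMap.range (kap hinj hsurj (I ^ n))

theorem secPow_zero (I : X.IdealSheafData) : secPow hinj hsurj I 0 = ⊤ :=
  range_kap hinj hsurj _ ⊤ fun a => iff_of_true (fun W => by
    rw [ideal_pow_eq, pow_zero, Ideal.one_eq_top]; trivial) trivial

theorem secPow_phi (I : X.IdealSheafData) (x : X) (hx : x ∈ (I.support : Set X)) (n : ℕ) {a : A}
    (ha : a ∈ secPow hinj hsurj I n) :
    phi (X ↘ Spec (CommRingCat.of A)) x a ∈ IsLocalRing.maximalIdeal (X.presheaf.stalk x) ^ n := by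
  obtain ⟨z, rfl⟩ := ha
  have h : In (I ^ n) (Coh.toGlobal (X ↘ Spec (CommRingCat.of A)) (kap hinj hsurj (I ^ n) z)) := by
    show In (I ^ n) (Coh.toGlobal _ (h0O hinj hsurj (ModifLib.hL (ClSub.idealModι (I ^ n)) 0 z)))
    rw [toGlobal_h0O, ModifLib.h0Sec_map]
    exact in_of_section _
  obtain ⟨U, hU, hxU, -⟩ := exists_isAffineOpen_mem_and_subset (x := x) (U := (⊤ : X.Opens)) trivial
  have h' := h ⟨U, hU⟩
  rw [ideal_pow_eq] at h'
  have h2 := Ideal.mem_map_of_mem (X.presheaf.germ U x hxU).hom h'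
  rw [Ideal.map_pow, ← SDivLib.stalkIdeal_eq I ⟨U, hU⟩ hxU] at h2
  have hle : IntMult.stalkIdeal I x ≤ IsLocalRing.maximalIdeal (X.presheaf.stalk x) :=
    IsLocalRing.le_maximalIdeal ((SDivLib.mem_support_iff_stalk _ x).1 hx)
  refine Ideal.pow_right_mono hle n ?_
  have e : (X.presheaf.germ U x hxU).hom (gr U (Coh.toGlobal (X ↘ Spec (CommRingCat.of A)) (kap hinj hsurj (I ^ n) z))) =
      phi (X ↘ Spec (CommRingCat.of A)) x (kap hinj hsurj (I ^ n) z) :=
    X.presheaf.germ_res_apply (homOfLE (le_top : U ≤ ⊤)) x hxU _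
  exact e ▸ h2

/-- **Linear growth.** -/
theorem length_secPow_le [IsIntegral X] [IsNoetherian X] [X.IsSeparated] (I : X.IdealSheafData) (hI : BlowUp.IsEffCartierIdeal I)
    (hc : Nonempty ((Scheme.Modules.pullback I.subschemeι).obj (ClSub.idealMod I) ≅ Coh.structureModule I.subscheme))
    (n : ℕ) :
    Module.length A (A ⧸ secPow hinj hsurj I n) ≤ n * Module.length A (Coh.HH X (ClSub.quotMod I) 0) := by
  induction n with
  | zero =>
    rw [Nat.cast_zero, zero_mul, nonpos_iff_eq_zero, Module.length_eq_zero_iff, secPow_zero]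
    exact Submodule.Quotient.subsingleton_iff.2 rfl
  | succ n ih =>
    obtain ⟨hJ, ⟨p⟩⟩ := BlowPtLib.nonempty_idealMod_pow I hI n
    let J := I ^ n
    let S := (CurvLib.idealSeq I).map (CurvLib.tensorLeft' (ClSub.idealMod J))
    have hS : S.ShortExact :=
      HilbPolyLib.shortExact_tensor (IntMultLib.isInvertible_idealMod _ hJ) (CurvLib.idealSeq_shortExact I)
    obtain ⟨e₁, e₂, he⟩ := exists_seq hJ hI
    obtain ⟨eq⟩ := nonempty_graded_triv I hI hc n
    let eT : S.X₃ ≅ ClSub.quotMod I := (HilbPolyLib.congrLeft p (ClSub.quotMod I)).symm ≪≫ eq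
    let g : Coh.HH X S.X₂ 0 →ₗ[A] Coh.HH X S.X₃ 0 := ModifLib.hL S.g 0
    let κ : Coh.HH X S.X₂ 0 →ₗ[A] A := (kap hinj hsurj J).comp (ModifLib.hLIso (A := A) e₂ 0).toLinearMap
    have hκinj : Function.Injective κ := (kap_injective hinj hsurj J).comp (ModifLib.hLIso (A := A) e₂ 0).injective
    have hκ : LinearMap.range κ = secPow hinj hsurj I n :=
      LinearMap.range_comp_of_range_eq_top _ (LinearEquiv.range _)
    have hcomp : ∀ w, κ (ModifLib.hL S.f 0 w) = kap hinj hsurj (J * I) (ModifLib.hLIso (A := A) e₁ 0 w) := fun w => by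
      show h0O hinj hsurj (ModifLib.hL (A := A) (ClSub.idealModι J) 0 (ModifLib.hL (A := A) e₂.hom 0 (ModifLib.hL (A := A) S.f 0 w))) =
        h0O hinj hsurj (ModifLib.hL (A := A) (ClSub.idealModι (J * I)) 0 (ModifLib.hL (A := A) e₁.hom 0 w))
      refine congrArg _ ?_
      refine ((ModifLib.hL_comp (A := A) _ _ 0 _).symm.trans (ModifLib.hL_comp (A := A) _ _ 0 _).symm).trans ?_
      refine Eq.trans ?_ (ModifLib.hL_comp (A := A) _ _ 0 _)
      exact congrArg (fun ψ => ModifLib.hL (A := A) ψ 0 w) he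
    have hsucc : secPow hinj hsurj I (n + 1) = (LinearMap.ker g).map κ := by
      have h1 : secPow hinj hsurj I (n + 1) = LinearMap.range (kap hinj hsurj (J * I)) := by
        rw [secPow, pow_succ]
      rw [h1]
      refine SetLike.ext fun x => ⟨?_, ?_⟩
      · rintro ⟨v, rfl⟩
        obtain ⟨w, rfl⟩ := (ModifLib.hLIso (A := A) e₁ 0).surjective v
        refine ⟨ModifLib.hL S.f 0 w, ?_, hcomp w⟩
        show ModifLib.hL (A := A) S.g 0 (ModifLib.hL (A := A) S.f 0 w) = 0
        rw [← ModifLib.hL_comp, S.zero]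
        show Sheaf.H.map ((QCohLib.toAbF X).map (0 : S.X₁ ⟶ S.X₃)) 0 w = 0
        rw [Functor.map_zero]
        exact (congrArg (fun e => Abelian.Ext.comp _ e (add_zero 0)) (Abelian.Ext.mk₀_zero _ _)).trans
          (Abelian.Ext.comp_zero ..)
      · rintro ⟨y, hy, rfl⟩
        obtain ⟨w, rfl⟩ := AtlasCoh.hExact₂ (QCohLib.toAbF_shortExact hS) 0 y hy
        exact ⟨_, (hcomp w).symm⟩
    have hle : secPow hinj hsurj I (n + 1) ≤ secPow hinj hsurj I n := by
      rw [hsucc, ← hκ]; exact LinearMap.map_le_range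
    let q : (A ⧸ secPow hinj hsurj I (n + 1)) →ₗ[A] A ⧸ secPow hinj hsurj I n :=
      Submodule.mapQ _ _ LinearMap.id hle
    have hq : Function.Surjective q := fun y => by
      obtain ⟨z, rfl⟩ := Submodule.Quotient.mk_surjective (secPow hinj hsurj I n) y
      exact ⟨Submodule.Quotient.mk z, rfl⟩
    rw [Module.length_eq_add_of_exact (LinearMap.ker q).subtype q (Submodule.injective_subtype _) hq
      (LinearMap.exact_subtype_ker_map q), Nat.cast_succ, add_mul, one_mul, add_comm]
    refine add_le_add ih ?_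
    rw [(ModifLib.hLIso (A := A) eT 0).length_eq.symm]
    let F : Coh.HH X S.X₂ 0 →ₗ[A] A ⧸ secPow hinj hsurj I (n + 1) := (Submodule.mkQ _).comp κ
    have hF : LinearMap.range F = LinearMap.ker q := by
      rw [LinearMap.range_comp, hκ]
      ext y
      obtain ⟨z, rfl⟩ := Submodule.Quotient.mk_surjective (secPow hinj hsurj I (n + 1)) y
      rw [LinearMap.mem_ker]
      show Submodule.Quotient.mk z ∈ Submodule.map _ _ ↔ Submodule.Quotient.mk z = (0 : A ⧸ secPow hinj hsurj I n)
      rw [Submodule.Quotient.mk_eq_zero]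
      refine ⟨?_, fun hz => ⟨z, hz, rfl⟩⟩
      rintro ⟨x, hx, hxy⟩
      have := hle ((Submodule.Quotient.eq _).1 hxy)
      simpa using sub_mem hx this
    have hFg : LinearMap.ker g ≤ LinearMap.ker F := fun y hy => by
      rw [LinearMap.mem_ker]
      show Submodule.Quotient.mk (κ y) = (0 : A ⧸ secPow hinj hsurj I (n + 1))
      rw [Submodule.Quotient.mk_eq_zero, hsucc]
      exact Submodule.mem_map_of_mem hy
    rw [← hF, ← (LinearMap.quotKerEquivRange F).length_eq]
    refine le_trans (Module.length_le_of_surjective (Submodule.factor hFg) (Submodule.factor_surjective hFg)) ?_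
    rw [(LinearMap.quotKerEquivRange g).length_eq]
    exact Module.length_le_of_injective (LinearMap.range g).subtype (Submodule.injective_subtype _)

end RatModLib

end
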