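import Mathlib

/-! Quadratic growth of valuation ideals of a two-dimensional divisorial valuation. -/

set_option autoImplicit false
set_option linter.style.haveILetI false
universe u

open IsLocalRing

namespace RatModLib

variable {A O : Type u} [CommRing A] [IsLocalRing A] [CommRing O] [IsLocalRing O] [IsDomain O] (φ : A →+* O)

/-- The valuation ideals. -/
def valIdeal (n : ℕ) : Ideal A := (maximalIdeal O ^ n).comap φ

theorem valIdeal_anti {m n : ℕ} (h : m ≤ n) : valIdeal φ n ≤ valIdeal φ m :=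
  Ideal.comap_mono (Ideal.pow_le_pow_right h)

theorem quad_growth (hφ : ∀ c ∈ maximalIdeal A, φ c ∈ maximalIdeal O) (t : O) (ht : maximalIdeal O = Ideal.span {t})
    (ht0 : t ≠ 0) (a b : A) (d : ℕ) (hd : 0 < d) (w u : O) (hw : IsUnit w) (hb : φ b = w * t ^ d)
    (hab : φ a = φ b * u)
    (hind : ∀ (N : ℕ) (c : ℕ → A), (∑ i ∈ Finset.range N, φ (c i) * u ^ i) ∈ maximalIdeal O →
      ∀ i < N, c i ∈ maximalIdeal A) (J : ℕ) :
    ((J * J : ℕ) : ℕ∞) ≤ 2 * Module.length A (A ⧸ valIdeal φ (d * J)) := by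
  classical
  induction J with
  | zero => simp
  | succ j ih =>
    let F := valIdeal φ (d * (j + 1))
    let F' := valIdeal φ (d * j)
    have hle : F ≤ F' := valIdeal_anti φ (Nat.mul_le_mul_left d j.le_succ)
    let q : (A ⧸ F) →ₗ[A] A ⧸ F' := Submodule.mapQ F F' LinearMap.id hle
    have hq : Function.Surjective q := fun y => by
      obtain ⟨z, rfl⟩ := Submodule.Quotient.mk_surjective F' y
      exact ⟨Submodule.Quotient.mk z, rfl⟩
    have hlen := Module.length_eq_add_of_exact (LinearMap.ker q).subtype q (Submodule.injective_subtype _) hq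
      (LinearMap.exact_subtype_ker_map q)
    -- monomials of degree j
    let e : Fin (j + 1) → A := fun i => a ^ (i : ℕ) * b ^ (j - (i : ℕ))
    have he : ∀ i, φ (e i) = w ^ j * t ^ (d * j) * u ^ (i : ℕ) := fun i => by
      have hij : j = (i : ℕ) + (j - (i : ℕ)) := (Nat.add_sub_cancel' (Nat.le_of_lt_succ i.2)).symm
      show φ (a ^ (i : ℕ) * b ^ (j - (i : ℕ))) = _
      rw [map_mul, map_pow, map_pow, hab, hb]
      obtain ⟨k, hk⟩ : ∃ k, k = j - (i : ℕ) := ⟨_, rfl⟩
      rw [← hk] at hij ⊢
      rw [congrArg (fun n => w ^ n * t ^ (d * n) * u ^ (i : ℕ)) hij]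
      ring
    have hT : maximalIdeal O ^ (d * j) = Ideal.span {t ^ (d * j)} := by rw [ht, Ideal.span_singleton_pow]
    let G : Submodule A A := Submodule.span A (Set.range e) ⊔ F
    have hGF : G ≤ F' := sup_le (Submodule.span_le.2 (by
      rintro _ ⟨i, rfl⟩
      show φ (e i) ∈ maximalIdeal O ^ (d * j)
      rw [he, hT]
      exact Ideal.mem_span_singleton'.2 ⟨w ^ j * u ^ (i : ℕ), by ring⟩)) hle
    let ψ₀ : (Fin (j + 1) → A) →ₗ[A] A ⧸ F := (Submodule.mkQ F).comp (Fintype.linearCombination A e)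
    have hker : LinearMap.ker ψ₀ ≤ Submodule.pi Set.univ fun _ : Fin (j + 1) => maximalIdeal A := by
      intro c hc i _
      have hc' : ∑ i, c i * e i ∈ F := by
        have := (Submodule.Quotient.mk_eq_zero F).1 (LinearMap.mem_ker.1 hc)
        simpa [Fintype.linearCombination_apply] using this
      have h1 : φ (∑ i, c i * e i) ∈ maximalIdeal O ^ (d * (j + 1)) := hc'
      rw [ht, Ideal.span_singleton_pow, map_sum] at h1
      obtain ⟨z, hz⟩ := Ideal.mem_span_singleton'.1 h1
      have h2 : t ^ (d * j) * (w ^ j * ∑ i, φ (c i) * u ^ (i : ℕ)) = t ^ (d * j) * (z * t ^ d) := by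
        rw [show t ^ (d * j) * (z * t ^ d) = z * t ^ (d * (j + 1)) by ring, hz, Finset.mul_sum, Finset.mul_sum]
        refine Finset.sum_congr rfl fun i _ => ?_
        rw [map_mul, he]
        ring
      have h3 := mul_left_cancel₀ (pow_ne_zero _ ht0) h2
      have h4 : w ^ j * ∑ i, φ (c i) * u ^ (i : ℕ) ∈ maximalIdeal O := by
        rw [h3, ht]
        exact Ideal.mul_mem_left _ _ (Ideal.pow_mem_of_mem _ (Ideal.mem_span_singleton_self t) d hd)
      have h5 := (Ideal.unit_mul_mem_iff_mem _ (hw.pow j)).1 h4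
      let c' : ℕ → A := fun n => if h : n < j + 1 then c ⟨n, h⟩ else 0
      have h6 : ∑ n ∈ Finset.range (j + 1), φ (c' n) * u ^ n = ∑ i, φ (c i) * u ^ (i : ℕ) := by
        rw [Finset.sum_range]
        refine Finset.sum_congr rfl fun i _ => ?_
        simp [c', i.2, Nat.le_of_lt_succ i.2]
      have := hind (j + 1) c' (h6 ▸ h5) i.1 i.2
      simpa [c', i.2, Nat.le_of_lt_succ i.2] using this
    have hrange : LinearMap.range ψ₀ ≤ LinearMap.ker q := by
      rintro _ ⟨c, rfl⟩
      show Submodule.Quotient.mk (Fintype.linearCombination A e c) = (0 : A ⧸ F')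
      rw [Submodule.Quotient.mk_eq_zero]
      exact hGF (Submodule.mem_sup_left (Fintype.range_linearCombination A e ▸ ⟨c, rfl⟩))
    have hk : ((j + 1 : ℕ) : ℕ∞) ≤ Module.length A ↥(LinearMap.range ψ₀) := by
      have hsurj : Function.Surjective (Submodule.factor hker) := Submodule.factor_surjective hker
      have l1 := Module.length_le_of_surjective (Submodule.factor hker) hsurj
      rw [(Submodule.quotientPi fun _ : Fin (j + 1) => maximalIdeal A).length_eq, Module.length_pi,
        show Module.length A (A ⧸ maximalIdeal A) = 1 from Module.length_eq_one_iff.2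
          (isSimpleModule_iff_isCoatom.2 (IsLocalRing.maximalIdeal.isMaximal A).out)] at l1
      simp only [Finset.sum_const, Finset.card_univ, Fintype.card_fin, nsmul_eq_mul, mul_one] at l1
      rw [← (LinearMap.quotKerEquivRange ψ₀).length_eq]
      refine le_trans (le_of_eq ?_) l1
      simp [ENat.card_eq_coe_fintype_card]
    have hk2 : ((j + 1 : ℕ) : ℕ∞) ≤ Module.length A ↥(LinearMap.ker q) :=
      hk.trans (Module.length_le_of_injective (Submodule.inclusion hrange) (Submodule.inclusion_injective hrange))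
    show ((_ : ℕ) : ℕ∞) ≤ 2 * Module.length A (A ⧸ F)
    rw [hlen]
    refine le_trans ?_ (le_of_le_of_eq (add_le_add (mul_le_mul_right hk2 2)
      (ih : ((j * j : ℕ) : ℕ∞) ≤ 2 * Module.length A (A ⧸ F'))) (mul_add _ _ _).symm)
    exact_mod_cast (by ring_nf; omega : (j + 1) * (j + 1) ≤ 2 * (j + 1) + j * j)

end RatModLib
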