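import Mathlib
import Groth.Agent.RatModLib.ConormalLinear
import Groth.Agent.RatModLib.QuadGrowth
import Groth.Agent.PtBlowLib.Colength
import Groth.Agent.PtBlowLib.PointBlow
import Groth.Agent.DualCxLib.LocDuality
import Groth.Agent.CurvLib.Divisor
import Groth.Agent.FormalLib.Main
import Groth.Agent.S11555

/-! A divisor in the closed fibre of a modification of a normal surface has nontrivial conormal sheaf. -/

set_option autoImplicit false
set_option linter.style.haveILetI false
set_option maxHeartbeats 2000000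
set_option backward.isDefEq.respectTransparency false
set_option backward.isDefEq.respectTransparency.types false
universe u

open CategoryTheory CategoryTheory.Limits AlgebraicGeometry TopologicalSpace Opposite IsLocalRing

noncomputable section

namespace RatModLib

variable {A : Type u} [CommRing A] [IsDomain A] [IsLocalRing A] [IsNoetherianRing A] {X : Scheme.{u}}

theorem phi_mem_maximal (f : X ⟶ Spec (CommRingCat.of A)) {x : X} (hx : f x = closedPoint A) {a : A}
    (ha : a ∈ maximalIdeal A) : phi f x a ∈ maximalIdeal (X.presheaf.stalk x) := by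
  have key : ∀ p : (Spec (CommRingCat.of A) : Scheme.{u}), p = closedPoint A → a ∈ p.asIdeal := by
    rintro _ rfl; exact ha
  have h := (omega_mem (f x) a).2 (key _ hx)
  have h0 : phi (𝟙 _) (f x) a = omega (f x) a := by
    have e := RingHom.congr_fun (omega_phi (A := A) (RingHom.id A) (f x)) a
    rw [CommRingCat.ofHom_id, Spec.map_id] at e
    exact e
  rw [← stalkMap_phi f (𝟙 _) f (Category.comp_id f) x a, h0]
  intro hu
  exact h (isUnit_of_map_unit (f.stalkMap x).hom _ hu)

theorem not_isIso_stalk_dim [IsIntegral X] [IsIntegrallyClosed A] (hdim : ringKrullDim A = 2) (f : X ⟶ Spec (CommRingCat.of A))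
    [IsProper f] {U : (Spec (CommRingCat.of A)).Opens} (hU : (U : Set (Spec (CommRingCat.of A))).Nonempty) [IsIso (f ∣_ U)]
    (x : X) (hx : IsClosed ({x} : Set X)) : (2 : WithBot ℕ∞) ≤ ringKrullDim (X.presheaf.stalk x) := by
  have hfx : f x = closedPoint A := by
    have h1 := f.isClosedMap _ hx
    rw [Set.image_singleton] at h1
    exact PrimeSpectrum.ext (IsLocalRing.eq_maximalIdeal ((PrimeSpectrum.isClosed_singleton_iff_isMaximal _).1 h1))
  haveI : IsIso (f.stalkMap (genericPoint X)) := ModifLib.isIso_stalkMap_genericPoint f hU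
  obtain ⟨V, hV, hno, -⟩ := Groth.Agent.S11555.result f (ParaFLib.isNormal_spec A) (ModifLib.map_genericPoint f hU)
    (ConcreteCategory.bijective_of_isIso (f.stalkMap (genericPoint X)))
  by_cases hc : closedPoint A ∈ V
  · haveI := hV
    haveI : IsIso (f.stalkMap x) := (ConcreteCategory.isIso_iff_bijective _).2
      (PtBlowLib.bijective_stalkMap_of_isIso f V x (hfx.symm ▸ hc))
    rw [← ringKrullDim_eq_of_ringEquiv (asIso (f.stalkMap x)).commRingCatIsoToRingEquiv,
      ringKrullDim_eq_of_ringEquiv (R := (Spec (CommRingCat.of A)).presheaf.stalk (f x)) (StructureSheaf.stalkIso A (f x)).toRingEquiv.symm]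
    have key : ∀ p : PrimeSpectrum A, p = closedPoint A → (2 : WithBot ℕ∞) ≤ ringKrullDim (Localization.AtPrime p.asIdeal) := by
      rintro _ rfl
      rw [IsLocalization.AtPrime.ringKrullDim_eq_height (closedPoint A).asIdeal,
        show (closedPoint A).asIdeal = maximalIdeal A from rfl, IsLocalRing.maximalIdeal_height_eq_ringKrullDim, hdim]
    exact key _ hfx
  · obtain ⟨z, hz⟩ : x ∈ Set.range (f.fiberι (closedPoint A)) := by
      rw [Scheme.Hom.range_fiberι]; exact hfx
    have hno' := hno _ hc z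
    obtain ⟨w, hwz, hne⟩ : ∃ w, w ⤳ z ∧ w ≠ z := by
      by_contra h
      push Not at h
      haveI : NoetherianSpace ↥(f.fiber (closedPoint A)) := by
        haveI : IsLocallyNoetherian X := LocallyOfFiniteType.isLocallyNoetherian f
        haveI : CompactSpace X := QuasiCompact.compactSpace_of_compactSpace f
        haveI : IsNoetherian X := {}
        exact (f.fiberι (closedPoint A)).isEmbedding.isInducing.noetherianSpace
      apply hno'
      have hzc : IsClosed ({z} : Set ↥(f.fiber (closedPoint A))) := by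
        have := hx.preimage (f.fiberι (closedPoint A)).continuous
        rwa [show (f.fiberι (closedPoint A)) ⁻¹' {x} = {z} from Set.ext fun w => by
          rw [Set.mem_preimage, Set.mem_singleton_iff, Set.mem_singleton_iff, ← hz]
          exact (f.fiberι (closedPoint A)).isEmbedding.injective.eq_iff] at this
      -- the irreducible component through `z` is `{z}`
      let C := irreducibleComponent z
      have hC := irreducibleComponent_mem_irreducibleComponents z
      obtain ⟨η, hη⟩ := QuasiSober.sober hC.1 isClosed_irreducibleComponent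
      have hηz : η ⤳ z := hη.specializes mem_irreducibleComponent
      have hηeq : η = z := h η hηz
      subst hηeq
      have hCz : C = {η} := hη.symm.trans hzc.closure_eq
      obtain ⟨O, hO, hOne, hOC⟩ := NoetherianSpace.exists_isOpen_nonempty_subset_irreducibleComponent _ hC
      have : O = {η} := (Set.subset_singleton_iff_eq.1 (hOC.trans hCz.le)).resolve_left hOne.ne_empty
      exact this ▸ hO
    let w' := f.fiberι (closedPoint A) w
    have hfw : f w' = closedPoint A := by
      have : w' ∈ Set.range (f.fiberι (closedPoint A)) := ⟨w, rfl⟩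
      rwa [Scheme.Hom.range_fiberι] at this
    have h1 : w' ⤳ x := hz ▸ hwz.map (f.fiberι (closedPoint A)).continuous
    have h2 : w' ≠ x := fun h => hne ((f.fiberι (closedPoint A)).isEmbedding.injective (h.trans hz.symm))
    have h3 : genericPoint X ≠ w' := fun h => by
      have e := ModifLib.map_genericPoint f hU
      rw [h, hfw] at e
      have : maximalIdeal A = ⊥ := by
        rw [genericPoint_eq_bot_of_affine] at e
        exact congrArg PrimeSpectrum.asIdeal e
      rw [ringKrullDim_eq_zero_of_isField (IsLocalRing.isField_iff_maximalIdeal_eq.2 this)] at hdim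
      exact absurd hdim (by norm_num)
    obtain ⟨p, hp⟩ : genericPoint X ∈ Set.range (X.fromSpecStalk x) := by
      rw [Scheme.range_fromSpecStalk]; exact genericPoint_specializes _
    obtain ⟨q, hq⟩ : w' ∈ Set.range (X.fromSpecStalk x) := by
      rw [Scheme.range_fromSpecStalk]; exact h1
    let r : Spec (X.presheaf.stalk x) := IsLocalRing.closedPoint (X.presheaf.stalk x)
    have hr : X.fromSpecStalk x r = x := Scheme.fromSpecStalk_closedPoint
    have emb := (X.fromSpecStalk x).isEmbedding.isInducing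
    have hpq : @LT.lt (PrimeSpectrum (X.presheaf.stalk x)) _ p q := by
      refine @lt_of_le_of_ne (PrimeSpectrum (X.presheaf.stalk x)) _ p q ((PrimeSpectrum.le_iff_specializes p q).2 ((emb.specializes_iff).1 (by rw [hp, hq]; exact genericPoint_specializes _))) ?_
      rintro rfl; exact h3 (hp.symm.trans hq)
    have hqr : @LT.lt (PrimeSpectrum (X.presheaf.stalk x)) _ q r := by
      refine @lt_of_le_of_ne (PrimeSpectrum (X.presheaf.stalk x)) _ q r ((PrimeSpectrum.le_iff_specializes q r).2 ((emb.specializes_iff).1 (by rw [hq, hr]; exact h1))) ?_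
      rintro rfl; exact h2 (hq.symm.trans hr)
    let l : LTSeries (PrimeSpectrum (X.presheaf.stalk x)) :=
      ((RelSeries.singleton _ p).snoc q (by exact hpq)).snoc r (by
        rw [RelSeries.last_snoc]; exact hqr)
    have hl := Order.LTSeries.length_le_krullDim l
    exact hl

theorem frac_surj [IsIntegral X] (c : X ⟶ Spec (CommRingCat.of A)) [IsProper c]
    {V₀ : (Spec (CommRingCat.of A)).Opens} (hV₀ : (V₀ : Set (Spec (CommRingCat.of A))).Nonempty) [IsIso (c ∣_ V₀)] :
    Function.Injective (phi c (genericPoint X)) ∧ ∀ k : X.functionField,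
      ∃ a b : A, b ≠ 0 ∧ k * phi c (genericPoint X) b = phi c (genericPoint X) a := by
  let η := genericPoint X
  haveI hiS : IsIso (c.stalkMap η) := ModifLib.isIso_stalkMap_genericPoint c hV₀
  let S := Spec (CommRingCat.of A)
  have hbij : Function.Bijective (c.stalkMap η).hom := ConcreteCategory.bijective_of_isIso (c.stalkMap η)
  have hphi : ∀ a, (c.stalkMap η).hom (phi (𝟙 S) (c η) a) = phi c η a := fun a =>
    stalkMap_phi c (𝟙 S) c (Category.comp_id c) η a
  have key : ∀ p : S, p = genericPoint S →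
      Function.Injective (phi (𝟙 S) p) ∧
        ∀ k : S.presheaf.stalk p, ∃ a b : A, b ≠ 0 ∧ k * phi (𝟙 S) p b = phi (𝟙 S) p a := by
    rintro _ rfl
    letI : Algebra Γ(S, ⊤) (S.presheaf.stalk (genericPoint S)) :=
      ((S.presheaf.germ ⊤ (genericPoint S) trivial).hom).toAlgebra
    haveI : Nonempty (⊤ : S.Opens) := ⟨⟨genericPoint S, trivial⟩⟩
    haveI : IsFractionRing Γ(S, ⊤) S.functionField :=
      functionField_isFractionRing_of_isAffineOpen S ⊤ (isAffineOpen_top S)
    have hb : Function.Bijective (Coh.toGlobal (𝟙 S)) := by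
      show Function.Bijective ((Scheme.ΓSpecIso (CommRingCat.of A)).inv ≫ (𝟙 S : S ⟶ S).appTop).hom
      rw [Scheme.Hom.id_appTop, Category.comp_id]
      exact ConcreteCategory.bijective_of_isIso _
    refine ⟨(S.germToFunctionField_injective ⊤).comp hb.1, fun k => ?_⟩
    obtain ⟨⟨a, b⟩, hab⟩ := IsLocalization.surj (nonZeroDivisors Γ(S, ⊤)) (S := S.functionField) k
    obtain ⟨a', rfl⟩ := hb.2 a
    obtain ⟨b', hb'⟩ := hb.2 b.1
    refine ⟨a', b', fun h0 => ?_, ?_⟩
    · exact nonZeroDivisors.ne_zero b.2 (hb' ▸ h0 ▸ map_zero _)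
    · rw [← hb'] at hab
      exact hab
  obtain ⟨k1, k2⟩ := key _ (ModifLib.map_genericPoint c hV₀)
  refine ⟨fun a b h => k1 (hbij.1 (by rw [hphi, hphi]; exact h)), fun k => ?_⟩
  obtain ⟨k', rfl⟩ := hbij.2 k
  obtain ⟨a, b, hb, hab⟩ := k2 k'
  exact ⟨a, b, hb, by rw [← hphi, ← hphi, ← map_mul, hab]⟩

theorem phi_spec (f : X ⟶ Spec (CommRingCat.of A)) {x y : X} (h : y ⤳ x) (a : A) :
    (X.presheaf.stalkSpecializes h).hom (phi f x a) = phi f y a :=
  TopCat.Presheaf.germ_stalkSpecializes_apply X.presheaf (U := ⊤) trivial h _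

theorem conormal_nontrivial [IsIntegrallyClosed A] (hdim : ringKrullDim A = 2) [IsIntegral X]
    [X.Over (Spec (CommRingCat.of A))] [IsProper (X ↘ Spec (CommRingCat.of A))]
    (hbir : ∃ U : (Spec (CommRingCat.of A)).Opens, (U : Set (Spec (CommRingCat.of A))).Nonempty ∧
      IsIso ((X ↘ Spec (CommRingCat.of A)) ∣_ U)) (hXn : Pi1.IsNormalScheme X)
    (I : X.IdealSheafData) (hI : BlowUp.IsEffCartierIdeal I) (hne : (I.support : Set X).Nonempty)
    (hZ : (I.support : Set X) ⊆ (X ↘ Spec (CommRingCat.of A)).base ⁻¹' {closedPoint A})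
    (hc : Nonempty ((Scheme.Modules.pullback I.subschemeι).obj (ClSub.idealMod I) ≅ Coh.structureModule I.subscheme)) :
    False := by
  classical
  let f := X ↘ Spec (CommRingCat.of A)
  obtain ⟨U, hU, hiso⟩ := hbir
  haveI := hiso
  haveI : IsLocallyNoetherian X := LocallyOfFiniteType.isLocallyNoetherian f
  haveI : CompactSpace X := QuasiCompact.compactSpace_of_compactSpace f
  haveI : IsNoetherian X := {}
  haveI : X.IsSeparated := ⟨by
    rw [Limits.terminal.hom_ext (Limits.terminal.from X) (f ≫ Limits.terminal.from _)]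
    infer_instance⟩
  have hinj := toGlobal_injective f hU
  have hsurj := PtBlowLib.toGlobal_surjective f hU
  -- the length of the functions on the divisor
  have hfl : IsFiniteLength A (Coh.HH X (ClSub.quotMod I) 0) := by
    haveI : Module.Finite A (Coh.HH X (ClSub.quotMod I) 0) := FormalLib.finite_HH _ (CurvLib.isCoh_quotMod I) 0
    let Z := I.subscheme
    haveI : CompactSpace Z := QuasiCompact.compactSpace_of_compactSpace I.subschemeι
    have hnil : ∀ a ∈ maximalIdeal A, IsNilpotent (PtBlowLib.subAlg (A := A) I a) := fun a ha => by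
      refine (Scheme.isNilpotent_iff_basicOpen_eq_bot (X := Z) _).2 (eq_bot_iff.2 fun z hz => ?_)
      have h1 : f (I.subschemeι z) = closedPoint A := hZ (by
        show I.subschemeι z ∈ (I.support : Set X)
        rw [← I.range_subschemeι]; exact ⟨z, rfl⟩)
      have h2 : IsUnit (Z.presheaf.germ ⊤ z trivial (PtBlowLib.subAlg (A := A) I a)) :=
        (Scheme.mem_basicOpen_top Z _ z).1 hz
      have h3 : (I.subschemeι.stalkMap z).hom (phi f (I.subschemeι z) a) =
          Z.presheaf.germ ⊤ z trivial (PtBlowLib.subAlg (A := A) I a) :=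
        Scheme.Hom.germ_stalkMap_apply I.subschemeι ⊤ z trivial (Coh.toGlobal f a)
      rw [← h3] at h2
      exact absurd (isUnit_of_map_unit _ _ h2) (phi_mem_maximal f h1 ha)
    let J : Ideal A := (RingHom.ker (PtBlowLib.subAlg (A := A) I)).radical
    have hJ : maximalIdeal A ≤ J := fun a ha => (hnil a ha).imp fun n hn => by
      rw [RingHom.mem_ker, map_pow]; exact hn
    obtain ⟨k, hk⟩ := Ideal.exists_pow_le_of_le_radical_of_fg hJ (IsNoetherian.noetherian _)
    refine Groth.Agent.DualCxLib.isFiniteLength_of_pow_kill _ (k := k) fun a ha x => ?_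
    apply (ModifLib.h0Sec (ClSub.quotMod I)).injective
    rw [ModifLib.h0Sec_smul, map_zero]
    show PtBlowLib.subAlg (A := A) I a * (show Γ(Z, I.subschemeι ⁻¹ᵁ ⊤) from ModifLib.h0Sec (ClSub.quotMod I) x) = 0
    rw [show PtBlowLib.subAlg (A := A) I a = 0 from hk ha, zero_mul]
  obtain ⟨L, hL⟩ : ∃ L : ℕ, Module.length A (Coh.HH X (ClSub.quotMod I) 0) = L :=
    (WithTop.ne_top_iff_exists.1 (Module.length_ne_top_iff.2 hfl)).imp fun _ h => h.symm
  -- a closed point of the support and a curve through it
  obtain ⟨x, hxS, hx⟩ := I.support.isClosed.exists_closed_singleton hne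
  have hdx : (2 : WithBot ℕ∞) ≤ ringKrullDim (X.presheaf.stalk x) := not_isIso_stalk_dim hdim f hU x hx
  haveI : IsDomain (X.presheaf.stalk x) := (hXn x).1
  obtain ⟨t, htn, ht⟩ := SDivLib.exists_gen hI x
  have htm : t ∈ maximalIdeal (X.presheaf.stalk x) :=
    le_maximalIdeal ((SDivLib.mem_support_iff_stalk _ x).1 hxS) (ht ▸ Ideal.mem_span_singleton_self t)
  obtain ⟨p, hp, hpm⟩ := Ideal.exists_minimalPrimes_le (I := Ideal.span {t}) (J := maximalIdeal (X.presheaf.stalk x))
    ((Ideal.span_singleton_le_iff_mem _).2 htm)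
  haveI : p.IsPrime := hp.1.1
  have hph : p.height ≤ 1 := Ideal.height_le_one_of_isPrincipal_of_mem_minimalPrimes (Ideal.span {t}) p hp
  have hp0 : p ≠ ⊥ := fun h => nonZeroDivisors.ne_zero htn (Ideal.mem_bot.1 (h ▸ hp.1.2 (Ideal.mem_span_singleton_self t)))
  let P : Spec (X.presheaf.stalk x) := ⟨p, inferInstance⟩
  let ξ : X := X.fromSpecStalk x P
  have hξx : ξ ⤳ x := Scheme.range_fromSpecStalk.subset ⟨P, rfl⟩
  have hξne : ξ ≠ x := fun h => by
    have hP : P = (closedPoint (X.presheaf.stalk x)) :=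
      (X.fromSpecStalk x).isEmbedding.injective (h.trans Scheme.fromSpecStalk_closedPoint.symm)
    have hpm' : p = maximalIdeal (X.presheaf.stalk x) := congrArg PrimeSpectrum.asIdeal hP
    rw [hpm', ← WithBot.coe_le_coe, IsLocalRing.maximalIdeal_height_eq_ringKrullDim] at hph
    exact absurd (hdx.trans hph) (by decide)
  have hξS : ξ ∈ (I.support : Set X) := by
    have h1 : P ∈ ((I.comap (X.fromSpecStalk x)).support : Set _) := by
      rw [PtBlowLib.comap_fromSpecStalk, PtBlowLib.coe_support_idealSheaf, ht]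
      exact hp.1.2
    rw [Scheme.IdealSheafData.support_comap] at h1
    exact h1
  haveI : IsDomain (X.presheaf.stalk ξ) := (hXn ξ).1
  have hξd : ringKrullDim (X.presheaf.stalk ξ) = p.height := by
    haveI : Flat (X.fromSpecStalk x) := AlgSpLib.flat_fromSpecStalk x
    let e := RingEquiv.ofBijective _ (PtBlowLib.bijective_stalkMap_of_flat_preimmersion (X.fromSpecStalk x) P)
    rw [ringKrullDim_eq_of_ringEquiv e,
      ringKrullDim_eq_of_ringEquiv (R := (Spec (X.presheaf.stalk x)).presheaf.stalk P)
        (StructureSheaf.stalkIso (X.presheaf.stalk x) P).toRingEquiv.symm,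
      IsLocalization.AtPrime.ringKrullDim_eq_height P.asIdeal]
  have hp1 : p.height = 1 := le_antisymm hph (ENat.one_le_iff_ne_zero.2 fun h => hp0 (Ideal.height_eq_zero_iff_eq_bot.1 h))
  have hO : IsDiscreteValuationRing (X.presheaf.stalk ξ) := by
    have hnf : ¬ IsField (X.presheaf.stalk ξ) := fun h => by
      rw [ringKrullDim_eq_zero_of_isField h, hp1] at hξd
      exact absurd hξd (by decide)
    haveI : Ring.DimensionLEOne (X.presheaf.stalk ξ) := by
      haveI : Ring.KrullDimLE 1 (X.presheaf.stalk ξ) := Ring.krullDimLE_iff.2 (by rw [hξd, hp1]; exact le_rfl)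
      infer_instance
    haveI := (hXn ξ).2
    have hu : ∃! P : Ideal (X.presheaf.stalk ξ), P ≠ ⊥ ∧ P.IsPrime := ⟨maximalIdeal _,
      ⟨fun h => hnf (IsLocalRing.isField_iff_maximalIdeal_eq.2 h), inferInstance⟩,
      fun Q hQ => IsLocalRing.eq_maximalIdeal (Ideal.IsPrime.isMaximal hQ.2 hQ.1)⟩
    have hiff : IsDiscreteValuationRing (X.presheaf.stalk ξ) ↔ IsIntegrallyClosed (X.presheaf.stalk ξ) ∧
        ∃! P : Ideal (X.presheaf.stalk ξ), P ≠ ⊥ ∧ P.IsPrime :=
      (IsDiscreteValuationRing.TFAE (X.presheaf.stalk ξ) hnf).out 0 3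
    exact hiff.2 ⟨inferInstance, hu⟩
  have hfξ : f ξ = closedPoint A := hZ hξS
  -- a transcendental function
  obtain ⟨W, hW, hxW, -⟩ := exists_isAffineOpen_mem_and_subset (x := x) (U := (⊤ : X.Opens)) trivial
  have hξW : ξ ∈ W := hξx.mem_open W.2 hxW
  let gξ := (X.presheaf.germ W ξ hξW).hom
  let q : Ideal Γ(X, W) := (maximalIdeal (X.presheaf.stalk ξ)).comap gξ
  have hres : ∀ a, gξ (gr W (Coh.toGlobal f a)) = phi f ξ a := fun a =>
    X.presheaf.germ_res_apply (homOfLE (le_top : W ≤ ⊤)) ξ hξW _
  obtain ⟨w, hw⟩ : ∃ w : Γ(X, W), ∀ (N : ℕ) (c : ℕ → A),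
      (∑ i ∈ Finset.range N, phi f ξ (c i) * gξ w ^ i) ∈ maximalIdeal (X.presheaf.stalk ξ) → ∀ i < N, c i ∈ maximalIdeal A := by
    by_contra hcon
    push Not at hcon
    let ψ : A →+* Γ(X, W) ⧸ q := (Ideal.Quotient.mk q).comp (((X.presheaf.map (homOfLE (le_top : W ≤ ⊤)).op).hom).comp (Coh.toGlobal f))
    have hψ : ∀ a ∈ maximalIdeal A, ψ a = 0 := fun a ha => Ideal.Quotient.eq_zero_iff_mem.2 (by
      show gξ (gr W (Coh.toGlobal f a)) ∈ maximalIdeal _
      rw [hres]; exact phi_mem_maximal f hfξ ha)
    letI : Algebra (ResidueField A) (Γ(X, W) ⧸ q) := (Ideal.Quotient.lift (maximalIdeal A) ψ hψ).toAlgebra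
    haveI : Algebra.IsAlgebraic (ResidueField A) (Γ(X, W) ⧸ q) := ⟨fun z => by
      obtain ⟨w, rfl⟩ := Ideal.Quotient.mk_surjective z
      obtain ⟨N, c, hsum, i, hi, hci⟩ := hcon w
      refine ⟨∑ j ∈ Finset.range N, Polynomial.monomial j (residue A (c j)), fun h0 => ?_, ?_⟩
      · have := congrArg (fun P : Polynomial (ResidueField A) => P.coeff i) h0
        simp [Polynomial.finsetSum_coeff, Polynomial.coeff_monomial, hi] at this
        exact hci this
      · rw [map_sum]
        simp only [Polynomial.aeval_monomial]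
        have hsum' : (∑ j ∈ Finset.range N, (gr W (Coh.toGlobal f (c j))) * w ^ j) ∈ q := by
          show gξ _ ∈ maximalIdeal _
          simpa [map_sum, hres] using hsum
        rw [← Ideal.Quotient.eq_zero_iff_mem, map_sum] at hsum'
        refine Eq.trans (Finset.sum_congr rfl fun j _ => ?_) hsum'
        rw [map_mul, map_pow]
        exact congrArg (fun z => z * _) rfl⟩
    haveI : Algebra.IsIntegral (ResidueField A) (Γ(X, W) ⧸ q) := Algebra.IsAlgebraic.isIntegral
    have hfld : IsField (Γ(X, W) ⧸ q) := isField_of_isIntegral_of_isField' (Field.toIsField (ResidueField A))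
    haveI := Ideal.Quotient.maximal_of_isField q hfld
    have hqle : q ≤ (maximalIdeal (X.presheaf.stalk x)).comap (X.presheaf.germ W x hxW).hom := fun z hz => by
      by_contra hzu
      have hu : IsUnit ((X.presheaf.germ W x hxW).hom z) := not_not.1 hzu
      have := hu.map (X.presheaf.stalkSpecializes hξx).hom
      erw [TopCat.Presheaf.germ_stalkSpecializes_apply X.presheaf hxW hξx z] at this
      exact hz this
    have heq := (Ideal.IsMaximal.eq_of_le ‹q.IsMaximal› (Ideal.IsPrime.ne_top inferInstance) hqle)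
    apply hξne
    let rx := hW.primeIdealOf ⟨x, hxW⟩
    let rξ := hW.primeIdealOf ⟨ξ, hξW⟩
    have e1 : ∀ (y : X) (hy : y ∈ W), (hW.primeIdealOf ⟨y, hy⟩).asIdeal =
        (maximalIdeal (X.presheaf.stalk y)).comap (X.presheaf.germ W y hy).hom := fun y hy => by
      letI := (X.presheaf.germ W y hy).hom.toAlgebra
      haveI : IsLocalization.AtPrime (X.presheaf.stalk y) (hW.primeIdealOf ⟨y, hy⟩).asIdeal :=
        hW.isLocalization_stalk ⟨y, hy⟩
      exact (IsLocalization.AtPrime.comap_maximalIdeal (X.presheaf.stalk y) (hW.primeIdealOf ⟨y, hy⟩).asIdeal).symm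
    have : rξ = rx := PrimeSpectrum.ext ((e1 ξ hξW).trans (heq.trans (e1 x hxW).symm))
    exact (hW.fromSpec_primeIdealOf ⟨ξ, hξW⟩).symm.trans ((congrArg _ this).trans (hW.fromSpec_primeIdealOf ⟨x, hxW⟩))
  let u := gξ w
  obtain ⟨hσ, hfr⟩ := frac_surj f hU
  have hgen : genericPoint X ⤳ ξ := genericPoint_specializes _
  let ι := (X.presheaf.stalkSpecializes hgen).hom
  have hι : Function.Injective ι := FaithfulSMul.algebraMap_injective (X.presheaf.stalk ξ) X.functionField
  obtain ⟨a, b, hb0, hab⟩ := hfr (ι u)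
  have hab' : phi f ξ a = phi f ξ b * u := hι (by
    rw [map_mul, phi_spec, phi_spec, mul_comm]; exact hab.symm)
  obtain ⟨π, hπ⟩ := IsDiscreteValuationRing.exists_irreducible (X.presheaf.stalk ξ)
  have hφb : phi f ξ b ≠ 0 := fun h => hb0 (hσ (by rw [← phi_spec f hgen, h, map_zero, map_zero]))
  obtain ⟨d, w0, hd⟩ := IsDiscreteValuationRing.eq_unit_mul_pow_irreducible hφb hπ
  have hd0 : 0 < d := Nat.pos_of_ne_zero fun h => by
    rw [h, pow_zero, mul_one] at hd
    have hbu : IsUnit b := not_not.1 fun hbn =>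
      (phi_mem_maximal f hfξ hbn) (hd ▸ w0.isUnit)
    obtain ⟨b', hb'⟩ := hbu.exists_left_inv
    have hu : u = phi f ξ (b' * a) := by
      rw [map_mul, hab', ← mul_assoc, ← map_mul, hb', map_one, one_mul]
    have := hw 2 (fun i => if i = 0 then -(b' * a) else 1) (by
      simp only [Finset.sum_range_succ, Finset.sum_range_zero, if_pos, if_neg one_ne_zero, map_neg, map_one, pow_zero,
        pow_one, mul_one, one_mul, zero_add, ← hu]
      simp [u]) 1 (by norm_num)
    exact (maximalIdeal.isMaximal A).ne_top ((Ideal.eq_top_iff_one _).2 this)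
  have hquad := quad_growth (phi f ξ) (fun c hc => phi_mem_maximal f hfξ hc) π hπ.maximalIdeal_eq hπ.ne_zero a b d hd0
    w0 u w0.isUnit hd hab' hw (2 * d * L + 1)
  have hle : secPow hinj hsurj I (d * (2 * d * L + 1)) ≤ valIdeal (phi f ξ) (d * (2 * d * L + 1)) :=
    fun c hc' => secPow_phi hinj hsurj I ξ hξS _ hc'
  have h1 := hquad.trans (mul_le_mul_right ((Module.length_le_of_surjective (Submodule.factor hle)
    (Submodule.factor_surjective hle)).trans (length_secPow_le hinj hsurj I hI hc _)) 2)
  rw [hL] at h1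
  have h2 : (2 * d * L + 1) * (2 * d * L + 1) ≤ 2 * (d * (2 * d * L + 1) * L) := by exact_mod_cast h1
  nlinarith

end RatModLib

end
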