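import Mathlib
import Groth.Agent.RatModLib.ConormalFibre
import Groth.Agent.S11555

/-! Functions of the base factoring on the components of the closed fibre. -/

set_option autoImplicit false
set_option linter.style.haveILetI false
set_option maxHeartbeats 2000000
set_option backward.isDefEq.respectTransparency false
set_option backward.isDefEq.respectTransparency.types false
universe u

open CategoryTheory CategoryTheory.Limits AlgebraicGeometry TopologicalSpace Opposite IsLocalRing

noncomputable section

namespace RatModLib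

theorem exists_function_factor {A : Type u} [CommRing A] [IsDomain A] [IsLocalRing A] [IsNoetherianRing A]
    [IsIntegrallyClosed A] (hdim : ringKrullDim A = 2) {X : Scheme.{u}} (f : X ⟶ Spec (CommRingCat.of A)) [IsProper f]
    [IsIntegral X] {U : (Spec (CommRingCat.of A)).Opens} (hU : (U : Set (Spec (CommRingCat.of A))).Nonempty)
    [IsIso (f ∣_ U)] (hf : ¬ IsIso f) :
    ∃ a : A, a ≠ 0 ∧ a ∈ maximalIdeal A ∧
      ∀ C ∈ irreducibleComponents ↥(f.base ⁻¹' {closedPoint A}),
        ∃ (x ξ : ↥(f.base ⁻¹' {closedPoint A})) (hξx : (ξ : X) ⤳ (x : X)),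
          x ∈ C ∧ IsGenericPoint ξ C ∧ IsClosed ({(x : X)} : Set X) ∧
          (∀ C' ∈ irreducibleComponents ↥(f.base ⁻¹' {closedPoint A}), C' ≠ C → x ∉ C') ∧
          ∃ g q : X.presheaf.stalk (x : X), g ∈ maximalIdeal (X.presheaf.stalk (x : X)) ∧
            (X.presheaf.germ ⊤ (x : X) trivial).hom (Coh.toGlobal f a) = g * q ∧
            IsUnit ((X.presheaf.stalkSpecializes hξx).hom g) := by
  classical
  haveI : IsLocallyNoetherian X := LocallyOfFiniteType.isLocallyNoetherian f
  haveI : CompactSpace X := QuasiCompact.compactSpace_of_compactSpace f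
  haveI : IsNoetherian X := {}
  let F : Set X := f.base ⁻¹' {closedPoint A}
  have hFc : IsClosed F := ((PrimeSpectrum.isClosed_singleton_iff_isMaximal _).2
    (maximalIdeal.isMaximal A)).preimage f.continuous
  haveI : NoetherianSpace F := Topology.IsEmbedding.subtypeVal.isInducing.noetherianSpace
  haveI : QuasiSober F := hFc.isClosedEmbedding_subtypeVal.quasiSober
  let h := f.fiberHomeo (closedPoint A)
  haveI : JacobsonSpace F := JacobsonSpace.of_isOpenEmbedding h.symm.isOpenEmbedding
  haveI : IsIso (f.stalkMap (genericPoint X)) := ModifLib.isIso_stalkMap_genericPoint f hU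
  obtain ⟨V, hV, hno, -⟩ := Groth.Agent.S11555.result f (ParaFLib.isNormal_spec A) (ModifLib.map_genericPoint f hU)
    (ConcreteCategory.bijective_of_isIso (f.stalkMap (genericPoint X)))
  have hc : closedPoint A ∉ V := fun hc => hf (by
    have htop : V = ⊤ := top_le_iff.1 fun p _ => (IsLocalRing.specializes_closedPoint p).mem_open V.2 hc
    haveI := hV
    subst htop
    exact (IsZariskiLocalAtTarget.of_iSup_eq_top (P := MorphismProperty.isomorphisms Scheme.{u})
      (fun _ : Unit => (⊤ : (Spec (CommRingCat.of A)).Opens)) (by simp) fun _ => hV))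
  obtain ⟨hσ, hfr⟩ := frac_surj f hU
  have key : ∀ C ∈ irreducibleComponents F, ∃ (x ξ : F) (hξx : (ξ : X) ⤳ (x : X)) (α : A) (β : A),
      α ≠ 0 ∧ x ∈ C ∧ IsGenericPoint ξ C ∧ IsClosed ({(x : X)} : Set X) ∧
        (∀ C' ∈ irreducibleComponents F, C' ≠ C → x ∉ C') ∧
        ∃ g : X.presheaf.stalk (x : X), g ∈ maximalIdeal (X.presheaf.stalk (x : X)) ∧
          phi f (x : X) α = g * phi f (x : X) β ∧ IsUnit ((X.presheaf.stalkSpecializes hξx).hom g) := by
    intro C hC
    let S : Set F := (⋃₀ (irreducibleComponents F \ {C}))ᶜ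
    have hfin : (irreducibleComponents F).Finite := NoetherianSpace.finite_irreducibleComponents
    have hSo : IsOpen S := by
      rw [isOpen_compl_iff, Set.sUnion_eq_biUnion]
      exact hfin.sdiff.isClosed_biUnion fun W hW => isClosed_of_mem_irreducibleComponents W hW.1
    have hSC : S ⊆ C := subset_closure.trans (closure_sUnion_irreducibleComponents_sdiff_singleton hfin C hC).le
    have hSne : S.Nonempty := by
      by_contra hn
      have e := closure_sUnion_irreducibleComponents_sdiff_singleton hfin C hC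
      change closure S = C at e
      rw [Set.not_nonempty_iff_eq_empty.1 hn, closure_empty] at e
      exact hC.1.nonempty.ne_empty e.symm
    obtain ⟨x, hxS, hxc⟩ := nonempty_inter_closedPoints hSne hSo.isLocallyClosed
    have hxc' : IsClosed ({x} : Set F) := hxc
    obtain ⟨ξ, hξ⟩ := QuasiSober.sober hC.1 (isClosed_of_mem_irreducibleComponents C hC)
    have hspec : ξ ⤳ x := hξ.specializes (hSC hxS)
    have hξx : (ξ : X) ⤳ (x : X) := hspec.map continuous_subtype_val
    have hne : ξ ≠ x := fun e => by
      subst e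
      have hCx : C = {ξ} := hξ.symm.trans hxc'.closure_eq
      have hS1 : S = {ξ} := (Set.subset_singleton_iff_eq.1 (hSC.trans hCx.le)).resolve_left hSne.ne_empty
      obtain ⟨z, hz⟩ := h.surjective ξ
      refine hno _ hc z ?_
      have : h ⁻¹' S = {z} := by
        rw [hS1]; ext w; simp [← hz, h.injective.eq_iff]
      exact this ▸ hSo.preimage h.continuous
    have hxX : IsClosed ({(x : X)} : Set X) := by
      have := hFc.isClosedEmbedding_subtypeVal.isClosedMap _ hxc'
      rwa [Set.image_singleton] at this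
    obtain ⟨W, hW, hxW, -⟩ := exists_isAffineOpen_mem_and_subset (x := (x : X)) (U := (⊤ : X.Opens)) trivial
    have hξW : (ξ : X) ∈ W := hξx.mem_open W.2 hxW
    have e1 : ∀ (y : X) (hy : y ∈ W), (hW.primeIdealOf ⟨y, hy⟩).asIdeal =
        (maximalIdeal (X.presheaf.stalk y)).comap (X.presheaf.germ W y hy).hom := fun y hy => by
      letI := (X.presheaf.germ W y hy).hom.toAlgebra
      haveI : IsLocalization.AtPrime (X.presheaf.stalk y) (hW.primeIdealOf ⟨y, hy⟩).asIdeal :=
        hW.isLocalization_stalk ⟨y, hy⟩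
      exact (IsLocalization.AtPrime.comap_maximalIdeal (X.presheaf.stalk y) (hW.primeIdealOf ⟨y, hy⟩).asIdeal).symm
    let px := (maximalIdeal (X.presheaf.stalk (x : X))).comap (X.presheaf.germ W (x : X) hxW).hom
    let pξ := (maximalIdeal (X.presheaf.stalk (ξ : X))).comap (X.presheaf.germ W (ξ : X) hξW).hom
    obtain ⟨z, hzx, hzξ⟩ : ∃ z, z ∈ px ∧ z ∉ pξ := by
      by_contra hn
      push Not at hn
      have hle2 : pξ ≤ px := fun z hz => by
        by_contra hzu
        have hu : IsUnit ((X.presheaf.germ W (x : X) hxW).hom z) := not_not.1 hzu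
        have := hu.map (X.presheaf.stalkSpecializes hξx).hom
        erw [TopCat.Presheaf.germ_stalkSpecializes_apply X.presheaf hxW hξx z] at this
        exact hz this
      have heq : pξ = px := le_antisymm hle2 hn
      apply hne
      refine Subtype.ext ?_
      have e : hW.primeIdealOf ⟨(ξ : X), hξW⟩ = hW.primeIdealOf ⟨(x : X), hxW⟩ :=
        PrimeSpectrum.ext ((e1 _ hξW).trans (heq.trans (e1 _ hxW).symm))
      exact (hW.fromSpec_primeIdealOf ⟨_, hξW⟩).symm.trans ((congrArg _ e).trans (hW.fromSpec_primeIdealOf ⟨_, hxW⟩))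
    let g := (X.presheaf.germ W (x : X) hxW).hom z
    have hgξ : IsUnit ((X.presheaf.stalkSpecializes hξx).hom g) := by
      erw [TopCat.Presheaf.germ_stalkSpecializes_apply X.presheaf hxW hξx z]
      exact not_not.1 hzξ
    have hgen : genericPoint X ⤳ (x : X) := genericPoint_specializes _
    let ι := (X.presheaf.stalkSpecializes hgen).hom
    have hι : Function.Injective ι := FaithfulSMul.algebraMap_injective (X.presheaf.stalk (x : X)) X.functionField
    obtain ⟨α, β, hβ, hab⟩ := hfr (ι g)
    have hαβ : phi f (x : X) α = g * phi f (x : X) β := hι (by rw [map_mul, phi_spec, phi_spec]; exact hab.symm)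
    have hg0 : g ≠ 0 := fun h0 => not_isUnit_zero (by rwa [h0, map_zero] at hgξ)
    have hα : α ≠ 0 := fun h0 => by
      rw [h0, map_zero] at hab
      rcases mul_eq_zero.1 hab with h1 | h1
      · exact hg0 (hι (h1.trans (map_zero _).symm))
      · exact hβ (hσ (h1.trans (map_zero _).symm))
    refine ⟨x, ξ, hξx, α, β, hα, hSC hxS, hξ, hxX, fun C' hC' hne' hx' => ?_, g, hzx, hαβ, hgξ⟩
    exact hxS ⟨C', ⟨hC', hne'⟩, hx'⟩
  choose x ξ hξx α β hα hxC hξC hxX hother g hg hαβ hgu using key
  obtain ⟨c, hc, hc0⟩ := Submodule.exists_mem_ne_zero_of_ne_bot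
    (show maximalIdeal A ≠ ⊥ from fun e => absurd (hdim.symm.trans
      (ringKrullDim_eq_zero_of_isField (IsLocalRing.isField_iff_maximalIdeal_eq.2 e))) (by norm_num))
  have hfin : (irreducibleComponents F).Finite := NoetherianSpace.finite_irreducibleComponents
  haveI := hfin.fintype
  let P := ∏ C : irreducibleComponents F, α C.1 C.2
  refine ⟨c * P, mul_ne_zero hc0 (Finset.prod_ne_zero_iff.2 fun C _ => hα C.1 C.2), Ideal.mul_mem_right _ _ hc,
    fun C hC => ⟨x C hC, ξ C hC, hξx C hC, hxC C hC, hξC C hC, hxX C hC, hother C hC, g C hC, ?_⟩⟩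
  obtain ⟨r, hr⟩ : α C hC ∣ c * P := Dvd.dvd.mul_left (Finset.dvd_prod_of_mem (fun D : irreducibleComponents F => α D.1 D.2) (Finset.mem_univ ⟨C, hC⟩)) c
  refine ⟨phi f _ (β C hC) * phi f _ r, hg C hC, ?_, hgu C hC⟩
  show phi f _ (c * P) = _
  rw [hr, map_mul, hαβ, mul_assoc]

end RatModLib

end
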