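import Mathlib

/-! Linear growth of the graded ring from pairs of generating elements. -/

set_option autoImplicit false
set_option linter.style.haveILetI false
set_option linter.unusedSectionVars false
set_option maxHeartbeats 1000000
universe u

open IsLocalRing

noncomputable section

namespace RatModLib

/-- Two coprime periods give constancy. -/
theorem const_of_periodic {g : ℕ → ℤ} {D D' : ℕ} (h : ∀ n, g (n + D) = g n) (h' : ∀ n, g (n + D') = g n)
    (hco : Nat.Coprime D D') (hD' : 1 < D') : ∀ n, g n = g 0 := by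
  have hk : ∀ k n, g (n + k * D) = g n := fun k => by
    induction k with
    | zero => simp
    | succ k ih => intro n; rw [Nat.succ_mul, ← add_assoc, h, ih]
  have hk' : ∀ k n, g (n + k * D') = g n := fun k => by
    induction k with
    | zero => simp
    | succ k ih => intro n; rw [Nat.succ_mul, ← add_assoc, h', ih]
  obtain ⟨m, -, hm⟩ := Nat.exists_mul_mod_eq_one_of_coprime hco hD'
  intro n
  induction n with
  | zero => rfl
  | succ n ih =>
    rw [← ih, ← hk' (D * m / D') (n + 1), ← hk m n, Nat.mul_comm m D]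
    congr 1
    have := Nat.div_add_mod (D * m) D'
    rw [hm] at this
    rw [Nat.mul_comm (D * m / D') D']
    omega

/-- Vanishing second differences in two coprime steps give linearity. -/
theorem linear_of_second_diff {h : ℕ → ℤ} {D D' : ℕ} (hD : 1 < D) (hD' : 1 < D') (hco : Nat.Coprime D D')
    (e : ∀ n, h n + h (n + 2 * D) = 2 * h (n + D)) (e' : ∀ n, h n + h (n + 2 * D') = 2 * h (n + D')) :
    ∀ n : ℕ, h n = h 0 + n * (h 1 - h 0) := by
  have iter : ∀ (E : ℕ), (∀ n, h n + h (n + 2 * E) = 2 * h (n + E)) →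
      (∀ n, h (n + E + E) - h (n + E) = h (n + E) - h n) ∧ ∀ k n, h (n + k * E) = h n + k * (h (n + E) - h n) := by
    intro E he
    have h1 : ∀ n, h (n + E + E) - h (n + E) = h (n + E) - h n := fun n => by
      have := he n
      rw [two_mul E, ← add_assoc] at this
      linarith
    refine ⟨h1, fun k => ?_⟩
    induction k with
    | zero => simp
    | succ k ih =>
      intro n
      rw [Nat.succ_mul, ← add_assoc, show n + k * E + E = n + E + k * E by ring, ih, h1]
      push_cast
      ring
  obtain ⟨p1, i1⟩ := iter D e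
  obtain ⟨p2, i2⟩ := iter D' e'
  have hr : ∀ n, (D' : ℤ) * (h (n + D) - h n) = D * (h (n + D') - h n) := fun n => by
    have a1 := i1 D' n
    have a2 := i2 D n
    rw [Nat.mul_comm D D'] at a2
    linarith
  have hC : ∀ n, h (n + D) - h n = h (0 + D) - h 0 :=
    const_of_periodic p1 (fun n => by
      refine mul_left_cancel₀ (show (D' : ℤ) ≠ 0 by omega) ?_
      rw [hr, hr, p2]) hco hD'
  have hC' : ∀ n, h (n + D') - h n = h (0 + D') - h 0 :=
    const_of_periodic p2 (fun n => by
      refine mul_left_cancel₀ (show (D : ℤ) ≠ 0 by omega) ?_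
      rw [← hr, ← hr, p1]) hco.symm hD
  have hg : ∀ n, h (n + 1) - h n = h (0 + 1) - h 0 := by
    refine const_of_periodic (fun n => ?_) (fun n => ?_) hco hD'
    · have a1 := hC (n + 1)
      have a2 := hC n
      rw [show n + D + 1 = n + 1 + D by ring]
      linarith
    · have a1 := hC' (n + 1)
      have a2 := hC' n
      rw [show n + D' + 1 = n + 1 + D' by ring]
      linarith
  intro n
  induction n with
  | zero => simp
  | succ n ih =>
    have := hg n
    rw [zero_add] at this
    push_cast
    linarith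

variable {A : Type u} [CommRing A]

/-- Torsion free detection: an element of the fraction field carried into `A` by a power of the maximal ideal. -/
theorem mem_of_mul_pow_mem [IsDomain A] [IsLocalRing A] [IsNoetherianRing A] [IsIntegrallyClosed A]
    (hdim : ringKrullDim A = 2) (z : FractionRing A) :
    ∀ n : ℕ, (∀ c ∈ maximalIdeal A ^ n, ∃ r, algebraMap A (FractionRing A) r = z * algebraMap A _ c) →
      ∃ r, algebraMap A (FractionRing A) r = z := by
  have step : ∀ w : FractionRing A, (∀ c ∈ maximalIdeal A, ∃ r, algebraMap A (FractionRing A) r = w * algebraMap A _ c) →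
      ∃ r, algebraMap A (FractionRing A) r = w := by
    intro w hw
    by_cases hin : ∀ c ∈ maximalIdeal A, ∃ r ∈ maximalIdeal A, algebraMap A (FractionRing A) r = w * algebraMap A _ c
    · let N : Submodule A (FractionRing A) := Submodule.map (Algebra.linearMap A (FractionRing A)) (maximalIdeal A)
      have hne : (maximalIdeal A) ≠ ⊥ := fun h => by
        have hf := IsLocalRing.isField_iff_maximalIdeal_eq.2 h
        rw [ringKrullDim_eq_zero_of_isField hf] at hdim
        exact absurd hdim (by decide)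
      obtain ⟨c0, hc0, hc00⟩ := Submodule.exists_mem_ne_zero_of_ne_bot hne
      have hint : IsIntegral A w := by
        refine isIntegral_of_smul_mem_submodule N ?_ ((IsNoetherian.noetherian _).map _) w ?_
        · exact fun h => (IsFractionRing.injective A (FractionRing A)).ne hc00 <| by
            have : algebraMap A (FractionRing A) c0 ∈ N := ⟨c0, hc0, rfl⟩
            rw [h, Submodule.mem_bot] at this
            rw [this, map_zero]
        · rintro _ ⟨c, hc, rfl⟩
          obtain ⟨r, hr, hrw⟩ := hin c hc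
          exact ⟨r, hr, hrw⟩
      exact IsIntegrallyClosed.algebraMap_eq_of_integral hint
    · push Not at hin
      obtain ⟨c, hc, hcr⟩ := hin
      obtain ⟨r, hr⟩ := hw c hc
      have hu : IsUnit r := notMem_maximalIdeal.1 fun h => hcr r h hr
      exfalso
      have hp : (maximalIdeal A).IsPrincipal := by
        refine ⟨c, le_antisymm (fun d hd => ?_) ((Ideal.span_singleton_le_iff_mem _).2 hc)⟩
        obtain ⟨s, hs⟩ := hw d hd
        obtain ⟨v, hv⟩ := hu
        refine Ideal.mem_span_singleton'.2 ⟨s * ↑v⁻¹, IsFractionRing.injective A (FractionRing A) ?_⟩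
        have e1 : algebraMap A (FractionRing A) (d * r) = algebraMap A _ (s * c) := by
          rw [map_mul, map_mul, hr, hs]; ring
        have e2 : d * r = s * c := IsFractionRing.injective A (FractionRing A) e1
        rw [← hv] at e2
        refine congrArg _ ?_
        calc s * ↑v⁻¹ * c = (s * c) * ↑v⁻¹ := by ring
          _ = (d * ↑v) * ↑v⁻¹ := by rw [e2]
          _ = d := Units.mul_inv_cancel_right d v
      haveI := hp
      have h1 : ringKrullDim A ≤ 1 := by
        have h := (maximalIdeal A).height_le_spanFinrank (maximalIdeal.isMaximal A).ne_top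
        rw [← IsLocalRing.maximalIdeal_height_eq_ringKrullDim]
        have h' : Submodule.spanFinrank (maximalIdeal A) ≤ 1 := by
          obtain ⟨d, hd⟩ := hp
          rw [hd]
          exact (Submodule.spanFinrank_span_le_ncard_of_finite (Set.finite_singleton d)).trans (by simp)
        exact_mod_cast h.trans (by exact_mod_cast h')
      rw [hdim] at h1
      exact absurd h1 (by decide)
  intro n
  induction n generalizing z with
  | zero =>
    intro h
    obtain ⟨r, hr⟩ := h 1 (by simp)
    exact ⟨r, by rw [hr, map_one, mul_one]⟩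
  | succ n ih =>
    intro h
    refine ih z fun c hc => step _ fun d hd => ?_
    obtain ⟨r, hr⟩ := h (c * d) (by rw [pow_succ]; exact Ideal.mul_mem_mul hc hd)
    exact ⟨r, by rw [hr, map_mul, mul_assoc]⟩

/-- Solutions of `a x + b y = 0`. -/
theorem exists_syzygy [IsDomain A] [IsLocalRing A] [IsNoetherianRing A] [IsIntegrallyClosed A]
    (hdim : ringKrullDim A = 2) {a b : A} {N : ℕ} (hN : ∀ c ∈ maximalIdeal A ^ N, ∃ u v, c = a * u + b * v)
    (hab : a ≠ 0 ∨ b ≠ 0) {x y : A} (h : a * x + b * y = 0) : ∃ z, x = b * z ∧ y = -(a * z) := by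
  let φ := algebraMap A (FractionRing A)
  have hinj := IsFractionRing.injective A (FractionRing A)
  obtain ⟨w, hw1, hw2⟩ : ∃ w, w * φ b = φ x ∧ w * φ a = -φ y := by
    have h' : φ a * φ x + φ b * φ y = 0 := by rw [← map_mul, ← map_mul, ← map_add, h, map_zero]
    rcases hab with ha | hb
    · have ha' : φ a ≠ 0 := (map_ne_zero_iff φ hinj).2 ha
      refine ⟨-φ y / φ a, ?_, div_mul_cancel₀ _ ha'⟩
      rw [div_mul_eq_mul_div, div_eq_iff ha']
      linear_combination -h'
    · have hb' : φ b ≠ 0 := (map_ne_zero_iff φ hinj).2 hb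
      refine ⟨φ x / φ b, div_mul_cancel₀ _ hb', ?_⟩
      rw [div_mul_eq_mul_div, div_eq_iff hb']
      linear_combination h'
  obtain ⟨z, rfl⟩ := mem_of_mul_pow_mem hdim w N fun c hc => by
    obtain ⟨u, v, rfl⟩ := hN c hc
    refine ⟨-y * u + x * v, ?_⟩
    rw [map_add, map_mul, map_mul, map_neg, map_add, map_mul, map_mul]
    linear_combination -(φ u) * hw2 - (φ v) * hw1
  refine ⟨z, hinj ?_, hinj ?_⟩
  · rw [← hw1, map_mul, mul_comm]
  · rw [map_neg, map_mul, mul_comm, hw2, neg_neg]

section Length

variable (M : Ideal A)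

/-- The graded piece. -/
abbrev grp (n : ℕ) := ↥(M ^ n) ⧸ Submodule.comap (M ^ n).subtype (M ^ (n + 1))

/-- Multiplication between graded pieces. -/
def grMul {D : ℕ} (c : A) (hc : c ∈ M ^ D) (k : ℕ) : grp M k →ₗ[A] grp M (k + D) :=
  Submodule.mapQ _ _
    (((LinearMap.lsmul A A c).comp (M ^ k).subtype).codRestrict (M ^ (k + D)) fun z => by
      show c * (z : A) ∈ _
      rw [add_comm, pow_add]; exact Ideal.mul_mem_mul hc z.2)
    fun z hz => by
      show c * (z : A) ∈ M ^ (k + D + 1)
      rw [show k + D + 1 = D + (k + 1) by omega, pow_add]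
      exact Ideal.mul_mem_mul hc hz

theorem grMul_mk {D : ℕ} (c : A) (hc : c ∈ M ^ D) (k : ℕ) (z : ↥(M ^ k)) (h : c * (z : A) ∈ M ^ (k + D)) :
    grMul M c hc k (Submodule.Quotient.mk z) = Submodule.Quotient.mk ⟨c * z, h⟩ := rfl

theorem grp_mk_eq_zero {n : ℕ} (z : ↥(M ^ n)) :
    (Submodule.Quotient.mk z : grp M n) = 0 ↔ (z : A) ∈ M ^ (n + 1) := Submodule.Quotient.mk_eq_zero _

/-- The second difference of the lengths vanishes. -/
theorem length_second_diff {D : ℕ} {a b : A} (ha : a ∈ M ^ D) (hb : b ∈ M ^ D)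
    (hS : ∀ c ∈ M ^ (D + D), ∃ u ∈ M ^ D, ∃ v ∈ M ^ D, c = a * u + b * v)
    (hC : ∀ n z, a * z ∈ M ^ (n + D) → b * z ∈ M ^ (n + D) → z ∈ M ^ n)
    (hZ : ∀ x y, a * x + b * y = 0 → ∃ z, x = b * z ∧ y = -(a * z)) (n : ℕ) :
    Module.length A (grp M n) + Module.length A (grp M (n + D + D)) =
      Module.length A (grp M (n + D)) + Module.length A (grp M (n + D)) := by
  have hS' : ∀ k, ∀ c ∈ M ^ (k + D + D), ∃ u ∈ M ^ (k + D), ∃ v ∈ M ^ (k + D), c = a * u + b * v := fun k c hc => by
    rw [add_assoc, pow_add] at hc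
    induction hc using Submodule.mul_induction_on' with
    | mem_mul_mem e he d hd =>
      obtain ⟨u, hu, v, hv, rfl⟩ := hS d hd
      exact ⟨e * u, pow_add M k D ▸ Ideal.mul_mem_mul he hu, e * v, pow_add M k D ▸ Ideal.mul_mem_mul he hv, by ring⟩
    | add c _ d _ hc hd =>
      obtain ⟨u, hu, v, hv, rfl⟩ := hc
      obtain ⟨u', hu', v', hv', rfl⟩ := hd
      exact ⟨u + u', add_mem hu hu', v + v', add_mem hv hv', by ring⟩
  let α : grp M n →ₗ[A] grp M (n + D) × grp M (n + D) := (grMul M b hb n).prod (-(grMul M a ha n))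
  let β : grp M (n + D) × grp M (n + D) →ₗ[A] grp M (n + D + D) :=
    (grMul M a ha (n + D)).coprod (grMul M b hb (n + D))
  have hmul : ∀ (c : A), c ∈ M ^ D → ∀ {k : ℕ} (z : ↥(M ^ k)), c * (z : A) ∈ M ^ (k + D) := fun c hc k z => by
    rw [add_comm, pow_add]; exact Ideal.mul_mem_mul hc z.2
  have hα : Function.Injective α := (injective_iff_map_eq_zero α).2 fun q hq => by
    obtain ⟨z, rfl⟩ := Submodule.Quotient.mk_surjective _ q
    obtain ⟨h1, h2⟩ := Prod.ext_iff.1 hq
    have h1' : grMul M b hb n (Submodule.Quotient.mk z) = 0 := h1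
    have h2' : grMul M a ha n (Submodule.Quotient.mk z) = 0 := neg_eq_zero.1 h2
    rw [grMul_mk M _ _ _ _ (hmul _ hb z), grp_mk_eq_zero] at h1'
    rw [grMul_mk M _ _ _ _ (hmul _ ha z), grp_mk_eq_zero] at h2'
    refine (grp_mk_eq_zero M z).2 (hC (n + 1) z ?_ ?_)
    · rwa [show n + 1 + D = n + D + 1 by omega]
    · rwa [show n + 1 + D = n + D + 1 by omega]
  have hβ : Function.Surjective β := fun q => by
    obtain ⟨⟨c, hc⟩, rfl⟩ := Submodule.Quotient.mk_surjective _ q
    obtain ⟨u, hu, v, hv, rfl⟩ := hS' n c hc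
    exact ⟨(Submodule.Quotient.mk ⟨u, hu⟩, Submodule.Quotient.mk ⟨v, hv⟩), rfl⟩
  have hαβ : Function.Exact α β := by
    rintro ⟨p, q⟩
    obtain ⟨⟨x, hx⟩, rfl⟩ := Submodule.Quotient.mk_surjective _ p
    obtain ⟨⟨y, hy⟩, rfl⟩ := Submodule.Quotient.mk_surjective _ q
    constructor
    · intro h
      have h' : a * x + b * y ∈ M ^ (n + 1 + D + D) := by
        rw [show n + 1 + D + D = n + D + D + 1 by omega]
        exact (grp_mk_eq_zero M (n := n + D + D) ⟨a * x + b * y,
          add_mem (hmul a ha ⟨x, hx⟩) (hmul b hb ⟨y, hy⟩)⟩).1 h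
      obtain ⟨u, hu, v, hv, he⟩ := hS' (n + 1) _ h'
      obtain ⟨z, hz1, hz2⟩ := hZ (x - u) (y - v) (by linear_combination he)
      rw [show n + 1 + D = n + D + 1 by omega] at hu hv
      have hu' : x - u ∈ M ^ (n + D) := sub_mem hx (Ideal.pow_le_pow_right (Nat.le_succ _) hu)
      have hv' : y - v ∈ M ^ (n + D) := sub_mem hy (Ideal.pow_le_pow_right (Nat.le_succ _) hv)
      have hzn : z ∈ M ^ n := hC n z (by rw [← neg_neg (a * z), ← hz2]; exact neg_mem hv') (hz1 ▸ hu')
      refine ⟨Submodule.Quotient.mk ⟨z, hzn⟩, Prod.ext ?_ ?_⟩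
      · refine (Submodule.Quotient.eq _).2 ?_
        show b * z - x ∈ M ^ (n + D + 1)
        rw [← hz1, show x - u - x = -u by ring]
        exact neg_mem hu
      · show -(Submodule.Quotient.mk (⟨a * z, hmul a ha ⟨z, hzn⟩⟩ : ↥(M ^ (n + D))) : grp M (n + D)) = _
        rw [← Submodule.Quotient.mk_neg]
        refine (Submodule.Quotient.eq _).2 ?_
        show -(a * z) - y ∈ M ^ (n + D + 1)
        rw [← hz2, show y - v - y = -v by ring]
        exact neg_mem hv
    · rintro ⟨r, hr⟩
      obtain ⟨⟨z, hz⟩, rfl⟩ := Submodule.Quotient.mk_surjective _ r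
      rw [← hr]
      show grMul M a ha (n + D) (grMul M b hb n (Submodule.Quotient.mk ⟨z, hz⟩)) +
        grMul M b hb (n + D) (-(grMul M a ha n (Submodule.Quotient.mk ⟨z, hz⟩))) = 0
      rw [map_neg, ← sub_eq_add_neg, sub_eq_zero]
      refine congrArg Submodule.Quotient.mk (Subtype.ext ?_)
      show a * (b * z) = b * (a * z)
      ring
  rw [← Module.length_eq_add_of_exact α β hα hβ hαβ, Module.length_prod]

end Length

end RatModLib

end
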