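import Mathlib
import Groth.Agent.RatModLib.Pair
import Groth.Agent.RatModLib.Growth
import Groth.Agent.BlowUpLib.Exists

/-! The Hilbert function of a rational singularity is linear. -/

set_option autoImplicit false
set_option linter.style.haveILetI false
set_option linter.unusedSectionVars false
set_option maxHeartbeats 1000000
set_option backward.isDefEq.respectTransparency false
set_option backward.isDefEq.respectTransparency.types false
universe u

open CategoryTheory AlgebraicGeometry TopologicalSpace IsLocalRing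

noncomputable section

namespace RatModLib

variable {A : Type u} [CommRing A] [IsLocalRing A] [IsNoetherianRing A]

theorem length_grp_ne_top (n : ℕ) : Module.length A (grp (maximalIdeal A) n) ≠ ⊤ := by
  have hfl : IsFiniteLength A (A ⧸ maximalIdeal A ^ (n + 1)) :=
    InjHullLib.isFiniteLength_quotient_pow (m := maximalIdeal A) (n + 1)
  let j : grp (maximalIdeal A) n →ₗ[A] A ⧸ maximalIdeal A ^ (n + 1) :=
    Submodule.mapQ _ _ (maximalIdeal A ^ n).subtype le_rfl
  have hj : Function.Injective j := (injective_iff_map_eq_zero j).2 fun q hq => by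
    obtain ⟨z, rfl⟩ := Submodule.Quotient.mk_surjective _ q
    have hq' : (Submodule.Quotient.mk (z : A) : A ⧸ maximalIdeal A ^ (n + 1)) = 0 := hq
    exact (Submodule.Quotient.mk_eq_zero _).2 (Submodule.mem_comap.2 ((Submodule.Quotient.mk_eq_zero (maximalIdeal A ^ (n + 1))).1 hq'))
  exact ne_top_of_le_ne_top (Module.length_ne_top_iff.2 hfl) (Module.length_le_of_injective j hj)

theorem length_grp_zero : Module.length A (grp (maximalIdeal A) 0) = 1 := by
  let π : ↥(maximalIdeal A ^ 0) →ₗ[A] A ⧸ maximalIdeal A :=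
    (Submodule.mkQ (maximalIdeal A)).comp (maximalIdeal A ^ 0).subtype
  have hπ : Function.Surjective π := fun q => by
    obtain ⟨z, rfl⟩ := Submodule.mkQ_surjective _ q
    exact ⟨⟨z, by simp⟩, rfl⟩
  have hker : LinearMap.ker π = Submodule.comap (maximalIdeal A ^ 0).subtype (maximalIdeal A ^ (0 + 1)) := by
    ext z
    rw [LinearMap.mem_ker, Submodule.mem_comap, zero_add, pow_one]
    exact Submodule.Quotient.mk_eq_zero _
  rw [((Submodule.quotEquivOfEq _ _ hker.symm).trans (π.quotKerEquivOfSurjective hπ)).length_eq]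
  exact Module.length_eq_one_iff.2 (isSimpleModule_iff_isCoatom.2 (maximalIdeal.isMaximal A).out)

theorem one_le_length_grp_one [IsDomain A] (hdim : ringKrullDim A = 2) :
    1 ≤ Module.length A (grp (maximalIdeal A) 1) := by
  rw [Order.one_le_iff_pos, Module.length_pos_iff, Submodule.Quotient.nontrivial_iff, Ne,
    Submodule.comap_subtype_eq_top, pow_one, show (1 : ℕ) + 1 = 2 from rfl, pow_two]
  intro h
  have h0 : maximalIdeal A = ⊥ := Submodule.eq_bot_of_le_smul_of_le_jacobson_bot (maximalIdeal A) (maximalIdeal A)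
    (IsNoetherian.noetherian _) h (by rw [IsLocalRing.jacobson_eq_maximalIdeal ⊥ bot_ne_top])
  have hf := IsLocalRing.isField_iff_maximalIdeal_eq.2 h0
  rw [ringKrullDim_eq_zero_of_isField hf] at hdim
  exact absurd hdim (by decide)

theorem exists_linear [IsDomain A] [IsIntegrallyClosed A] (hN : CAlg.IsNagata A) (hdim : ringKrullDim A = 2)
    (hA : Curv2.IsRationalSing A) :
    ∃ μ : ℕ, ∀ r : ℕ, Module.length A (grp (maximalIdeal A) r) = ((r * μ + 1 : ℕ) : ℕ∞) := by
  classical
  obtain ⟨X, f, hb⟩ := BlowUpLib.exists_isBlowUp (Spec (CommRingCat.of A)) (Curv2.idealSheaf A (maximalIdeal A))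
  obtain ⟨hXi, hm, hXn, hsep, hnoe, hdX, h1, h2, hη, w, hw, hwc⟩ := blow_data A hN hdim hA f hb
  haveI := hXi; haveI := hsep; haveI := hnoe; haveI := hm.proper
  obtain ⟨U, hU, hUi⟩ := hm.iso
  haveI := hUi
  haveI : CompactSpace X := inferInstance
  let M := maximalIdeal A
  have hsec : ∀ (n : ℕ) (a : A), In (pre f M ^ n) (Coh.toGlobal f a) ↔ a ∈ M ^ n :=
    sections_pow f hU M hb.1 ⟨w, hw⟩ h1 h2
  obtain ⟨N, hpair⟩ := exists_pair f hb hdX hη
  have key : ∀ p : ℕ, p.Prime → N ≤ p → ∃ k, ∀ n,
      Module.length A (grp M n) + Module.length A (grp M (n + p ^ (k + 1) + p ^ (k + 1))) =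
        Module.length A (grp M (n + p ^ (k + 1))) + Module.length A (grp M (n + p ^ (k + 1))) := by
    intro p hp hNp
    obtain ⟨k, a, b, ha, hbm, hor⟩ := hpair p hp hNp
    refine ⟨k, fun n => ?_⟩
    let D := p ^ (k + 1)
    have hP : ∀ x, ∃ t, t ≠ 0 ∧ M.map (phi f x) = Ideal.span {t} := fun x => by
      obtain ⟨t, ht, hs⟩ := SDivLib.exists_gen hb.1 x
      exact ⟨t, nonZeroDivisors.ne_zero ht, by rw [← stalkIdeal_pre, ← hs]⟩
    have hne : ∀ x c, Gen f M D c x → phi f x c ≠ 0 := fun x c hg h0 => by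
      obtain ⟨t, ht0, ht⟩ := hP x
      have h' := hg.2
      rw [Ideal.map_pow, ht, Ideal.span_singleton_pow, h0, Ideal.span_singleton_zero, Ideal.span_singleton_eq_bot] at h'
      exact pow_ne_zero D ht0 h'
    have hC : ∀ m z, a * z ∈ M ^ (m + D) → b * z ∈ M ^ (m + D) → z ∈ M ^ m := fun m z h1' h2' => by
      refine (hsec m z).1 ?_
      rw [← pre_pow]
      refine in_of_stalk f _ fun x => ?_
      have cancel : ∀ c, Gen f M D c x → c * z ∈ M ^ (m + D) → phi f x z ∈ (M ^ m).map (phi f x) := fun c hg hcz => by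
        have h := Ideal.mem_map_of_mem (phi f x) hcz
        rw [pow_add, Ideal.map_mul, hg.2, Ideal.mem_mul_span_singleton, map_mul, mul_comm] at h
        obtain ⟨s, hs, hsz⟩ := h
        exact mul_right_cancel₀ (hne x c hg) hsz ▸ hs
      rcases hor x with h | h
      · exact cancel a h h1'
      · exact cancel b h h2'
    have hI : BlowUp.IsEffCartierIdeal (pre f M ^ D) := (BlowPtLib.nonempty_idealMod_pow _ hb.1 D).1
    have hgen : ∀ W : X.affineOpens, (pre f M ^ D).ideal W =
        Ideal.span (Set.range fun i => gr W.1 (![Coh.toGlobal f a, Coh.toGlobal f b] i)) := fun W => by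
      have he : pre f (M ^ D) = pre f (Ideal.span {a, b}) := DivDescLib.eq_of_stalk fun x => by
        rw [stalkIdeal_pre, stalkIdeal_pre]
        refine le_antisymm ?_ (Ideal.map_mono (Ideal.span_le.2 (Set.insert_subset ha (Set.singleton_subset_iff.2 hbm))))
        rcases hor x with h | h <;> rw [h.2, Ideal.span_singleton_le_iff_mem] <;>
          exact Ideal.mem_map_of_mem _ (Ideal.subset_span (by simp))
      rw [← pre_pow, he, PtBlowLib.ideal_comap_idealSheaf, Ideal.map_span, Set.image_pair]
      congr 1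
      ext z
      simp only [Set.mem_range, Fin.exists_fin_two, Matrix.cons_val_zero, Matrix.cons_val_one, Set.mem_insert_iff,
        Set.mem_singleton_iff]
      exact ⟨fun h => h.imp Eq.symm Eq.symm, fun h => h.imp Eq.symm Eq.symm⟩
    have hS : ∀ c ∈ M ^ (D + D), ∃ u ∈ M ^ D, ∃ v ∈ M ^ D, c = a * u + b * v := fun c hc => by
      obtain ⟨y, hy, hz⟩ := exists_decomposition ![Coh.toGlobal f a, Coh.toGlobal f b] hI hgen h1 h2 0
        (Coh.toGlobal f c) (by rw [← pow_mul, mul_comm, zero_add, two_mul]; exact (hsec _ c).2 hc)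
      choose r hr using fun i => PtBlowLib.toGlobal_surjective f hU (y i)
      have hrm : ∀ i, r i ∈ M ^ D := fun i => (hsec D (r i)).1 (by
        have h := hy i
        rw [zero_add, pow_one] at h
        rwa [hr])
      refine ⟨r 0, hrm 0, r 1, hrm 1, toGlobal_injective f hU ?_⟩
      rw [hz, Fin.sum_univ_two, ← hr 0, ← hr 1]
      simp [mul_comm]
    have hab : a ≠ 0 ∨ b ≠ 0 := by
      rcases hor (genericPoint X) with h | h
      · exact .inl fun h0 => hne _ _ h (by rw [h0, map_zero])
      · exact .inr fun h0 => hne _ _ h (by rw [h0, map_zero])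
    exact length_second_diff M ha hbm hS hC
      (fun x y hxy => exists_syzygy hdim (N := D + D)
        (fun c hc => let ⟨u, _, v, _, e⟩ := hS c hc; ⟨u, v, e⟩) hab hxy) n
  obtain ⟨p, hp1, hp⟩ := Nat.exists_infinite_primes (max N 2)
  obtain ⟨q, hq1, hq⟩ := Nat.exists_infinite_primes (p + 1)
  obtain ⟨k, hk⟩ := key p hp ((le_max_left _ _).trans hp1)
  obtain ⟨l, hl⟩ := key q hq (by have := le_max_left N 2; omega)
  let h : ℕ → ℕ := fun n => (Module.length A (grp M n)).toNat
  have hh : ∀ n, ((h n : ℕ) : ℕ∞) = Module.length A (grp M n) := fun n => ENat.natCast_toNat (length_grp_ne_top n)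
  have conv : ∀ D, (∀ n, Module.length A (grp M n) + Module.length A (grp M (n + D + D)) =
      Module.length A (grp M (n + D)) + Module.length A (grp M (n + D))) →
      ∀ n, (h n : ℤ) + (h (n + 2 * D) : ℤ) = 2 * (h (n + D) : ℤ) := fun D hD n => by
    have := hD n
    rw [← hh, ← hh, ← hh] at this
    have h' : h n + h (n + D + D) = h (n + D) + h (n + D) := by exact_mod_cast this
    rw [two_mul D, ← add_assoc]
    omega
  have hlin := linear_of_second_diff (h := fun n => (h n : ℤ)) (D := p ^ (k + 1)) (D' := q ^ (l + 1))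
    (Nat.one_lt_pow (Nat.succ_ne_zero k) hp.one_lt) (Nat.one_lt_pow (Nat.succ_ne_zero l) hq.one_lt)
    (Nat.coprime_pow_primes _ _ hp hq (by omega)) (conv _ hk) (conv _ hl)
  have h0 : h 0 = 1 := by show (Module.length A (grp M 0)).toNat = 1; rw [length_grp_zero]; rfl
  have h11 : 1 ≤ h 1 := by
    have := one_le_length_grp_one (A := A) hdim
    rw [← hh 1] at this
    exact_mod_cast this
  refine ⟨h 1 - 1, fun r => ?_⟩
  rw [← hh r]
  congr 1
  have := hlin r
  simp only [h0] at this
  zify [h11]
  rw [this]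
  push_cast
  ring

end RatModLib

end
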