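import Mathlib
import Groth.Agent.RatModLib.Mod
import Groth.Agent.RpushLib.AffBaseBC
import Groth.Agent.S0036
import Groth.Agent.PtBlowLib.Step

/-! Vanishing of `R¹` of a modification from rationality at the closed points. -/

set_option autoImplicit false
set_option linter.style.haveILetI false
set_option linter.unusedSectionVars false
set_option maxHeartbeats 2000000
set_option backward.isDefEq.respectTransparency false
set_option backward.isDefEq.respectTransparency.types false
universe u

open CategoryTheory CategoryTheory.Limits AlgebraicGeometry TopologicalSpace Opposite TensorProduct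

namespace RatModLib

/-- A localization of a normal modification is a normal modification. -/
theorem exists_localization {A : Type u} [CommRing A] [IsDomain A] (S : Submonoid A) (hS : S ≤ nonZeroDivisors A)
    (B : Type u) [CommRing B] [Algebra A B] [IsLocalization S B] [IsDomain B]
    {Z : Scheme.{u}} [IsIntegral Z] (f : Z ⟶ Spec (CommRingCat.of A)) (hf : Mod f) (hn : Pi1.IsNormalScheme Z) :
    IsIntegral (pullback f (Spec.map (CommRingCat.ofHom (algebraMap A B)))) ∧
      Pi1.IsNormalScheme (pullback f (Spec.map (CommRingCat.ofHom (algebraMap A B)))) ∧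
      IsProper (pullback.snd f (Spec.map (CommRingCat.ofHom (algebraMap A B)))) ∧
      ∃ U : (Spec (CommRingCat.of B)).Opens, (U : Set (Spec (CommRingCat.of B))).Nonempty ∧
        IsIso (pullback.snd f (Spec.map (CommRingCat.ofHom (algebraMap A B))) ∣_ U) := by
  haveI := hf.proper
  let g := Spec.map (CommRingCat.ofHom (algebraMap A B))
  haveI hgp : IsPreimmersion g := IsPreimmersion.of_isLocalization S
  haveI hgf : Flat g := by
    rw [HasRingHomProperty.Spec_iff (P := @Flat)]
    exact RingHom.flat_algebraMap_iff.2 (IsLocalization.flat B S)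
  let q := pullback.fst f g
  let sn := pullback.snd f g
  haveI : IsPreimmersion q := MorphismProperty.pullback_fst f g hgp
  haveI : Flat q := MorphismProperty.pullback_fst f g hgf
  haveI : IsProper sn := MorphismProperty.pullback_snd f g hf.proper
  have hnP : Pi1.IsNormalScheme (pullback f g) := fun z => by
    let e := RingEquiv.ofBijective _ (PtBlowLib.bijective_stalkMap_of_flat_preimmersion q z)
    obtain ⟨h1, h2⟩ := hn (q z)
    haveI := h1; haveI := h2
    exact ⟨e.symm.injective.isDomain e.symm.toRingHom, IsIntegrallyClosed.of_equiv e⟩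
  -- the generic point lifts
  have hgη : g (genericPoint (Spec (CommRingCat.of B))) = genericPoint (Spec (CommRingCat.of A)) := by
    rw [genericPoint_eq_bot_of_affine, genericPoint_eq_bot_of_affine]
    refine PrimeSpectrum.ext ?_
    show Ideal.comap (algebraMap A B) ⊥ = ⊥
    rw [← RingHom.ker_eq_comap_bot, ← RingHom.injective_iff_ker_eq_bot]
    exact IsLocalization.injective B hS
  obtain ⟨η', hη', -⟩ := Scheme.Pullback.exists_preimage_pullback (f := f) (g := g) (genericPoint Z)
    (genericPoint (Spec (CommRingCat.of B))) (hf.map_generic.trans hgη.symm)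
  have hgen : ∀ z : ↥(pullback f g), η' ⤳ z := fun z => by
    rw [← q.isEmbedding.isInducing.specializes_iff, hη']
    exact genericPoint_specializes _
  haveI : Nonempty ↥(pullback f g) := ⟨η'⟩
  haveI : IrreducibleSpace ↥(pullback f g) := by
    refine (irreducibleSpace_def _).2 ?_
    have : closure ({η'} : Set ↥(pullback f g)) = Set.univ :=
      Set.eq_univ_of_forall fun z => (hgen z).mem_closure
    rw [Set.top_eq_univ, ← this]
    exact isIrreducible_singleton.closure
  haveI : IsReduced (pullback f g) := by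
    haveI : ∀ z : ↥(pullback f g), IsReduced (Spec (CommRingCat.of ((pullback f g).presheaf.stalk z))) := fun z => by
      haveI := (hnP z).1
      infer_instance
    haveI : ∀ z : ↥(pullback f g), _root_.IsReduced ((pullback f g).presheaf.stalk z) := fun z => by
      haveI := (hnP z).1
      infer_instance
    exact isReduced_of_isReduced_stalk _
  refine ⟨isIntegral_of_irreducibleSpace_of_isReduced _, hnP, inferInstance, ?_⟩
  obtain ⟨U, hU, hi⟩ := hf.iso
  refine ⟨g ⁻¹ᵁ U, ⟨genericPoint (Spec (CommRingCat.of B)), show g _ ∈ U from hgη.symm ▸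
    ((genericPoint_spec _).mem_open_set_iff U.2).2 (by simpa using hU)⟩, ?_⟩
  exact RGFlatLib.isIso_restrict_of_isPullback (IsPullback.of_hasPullback f g).flip hi

variable {R X : Scheme.{u}} [IsIntegral R] [IsIntegral X] {p : R ⟶ X}

/-- **`R¹p_*O = 0` when the closed points of the base are rational singularities.** -/
theorem van_of_rational (hp : Mod p) [IsNoetherian X] (hn' : Pi1.IsNormalScheme R)
    (hrat : ∀ x : X, IsClosed ({x} : Set X) → Curv2.IsRationalSing (X.presheaf.stalk x)) : Van p := by
  haveI := hp.proper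
  haveI : IsLocallyNoetherian R := LocallyOfFiniteType.isLocallyNoetherian p
  haveI : CompactSpace R := QuasiCompact.compactSpace_of_compactSpace p
  haveI : IsNoetherian R := {}
  haveI : HasInjectiveResolutions R.Modules := inferInstance
  have hO := DevissLib.isCoh_structureModule R
  haveI : Coh.IsQCoh (Coh.structureModule R) := hO.1
  let N := (Coh.Rpush p 1).obj (Coh.structureModule R)
  have hN : Coh.IsCoh N := Groth.Agent.S0036.result p _ hO 1
  refine van_of_isZero p (DevissLib.isZero_of_support_empty ?_)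
  by_contra hne
  obtain ⟨x, hxs, hx⟩ := (QCohLib.isClosed_support N hN.2).exists_closed_singleton
    (Set.nonempty_iff_ne_empty.2 hne)
  refine hxs ?_
  refine (QCohLib.subsingleton_stalk_iff N x).2 fun U hxU t => ?_
  obtain ⟨W, hW, hxW, hWU⟩ := exists_isAffineOpen_mem_and_subset (x := x) (U := U) hxU
  have hWne : (W : Set X).Nonempty := ⟨x, hxW⟩
  haveI : Nonempty W := hWne.to_subtype
  let A := Γ(X, W)
  let B := X.presheaf.stalk x
  letI algB : Algebra A B := (X.presheaf.germ W x hxW).hom.toAlgebra
  haveI : IsLocalization.AtPrime B (hW.primeIdealOf ⟨x, hxW⟩).asIdeal := hW.isLocalization_stalk ⟨x, hxW⟩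
  haveI : Nonempty (W : Scheme.{u}) := hWne.to_subtype
  haveI : IsIntegral (W : Scheme.{u}) := isIntegral_of_isOpenImmersion W.ι
  haveI : IsAffine (W : Scheme.{u}) := hW
  haveI := hp.nonempty_preimage hWne
  haveI : IsIntegral (p ⁻¹ᵁ W : Scheme.{u}) := isIntegral_of_isOpenImmersion (p ⁻¹ᵁ W).ι
  haveI : IsIntegral (Spec (CommRingCat.of A)) := inferInstance
  haveI : Nonempty (Spec (CommRingCat.of A)) := ⟨genericPoint _⟩
  let f : (p ⁻¹ᵁ W : Scheme.{u}) ⟶ Spec (CommRingCat.of A) := (p ∣_ W) ≫ hW.isoSpec.hom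
  have hf : Mod f := (hp.restrict W hWne).comp (Mod.of_isIso hW.isoSpec.hom)
  haveI := hf.proper
  haveI : CompactSpace (p ⁻¹ᵁ W : Scheme.{u}) := QuasiCompact.compactSpace_of_compactSpace f
  haveI : QuasiSeparatedSpace (p ⁻¹ᵁ W : Scheme.{u}) :=
    (quasiSeparatedSpace_iff_quasiSeparated _).2 (by
      rw [Limits.terminal.hom_ext (Limits.terminal.from _) (f ≫ Limits.terminal.from _)]
      infer_instance)
  let S := (hW.primeIdealOf ⟨x, hxW⟩).asIdeal.primeCompl
  have hS : S ≤ nonZeroDivisors A := Ideal.primeCompl_le_nonZeroDivisors _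
  haveI : IsDomain B := inferInstance
  haveI : Module.Flat A B := IsLocalization.flat B S
  obtain ⟨hPi, hPn, hPp, hPU⟩ :=
    exists_localization S hS B f hf (NormBlowLib.isNormalScheme_open hn' (p ⁻¹ᵁ W))
  let g := Spec.map (CommRingCat.ofHom (algebraMap A B))
  have h1 : H1z (pullback f g) := hrat x hx (pullback f g) (pullback.snd f g) hPp hPi hPn hPU
  let M := (Coh.structureModule R).restrict (p ⁻¹ᵁ W).ι
  obtain ⟨o⟩ := MiscFlat6.nonempty_restrict_structureModule (p ⁻¹ᵁ W).ι
  obtain ⟨e⟩ := RpushLib.nonempty_affBase_bc (IsPullback.of_hasPullback f g) M 1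
  letI := Module.compHom (Coh.HH (p ⁻¹ᵁ W : Scheme.{u}) M 1) (Coh.toGlobal f)
  haveI : Subsingleton (B ⊗[A] Coh.HH (p ⁻¹ᵁ W : Scheme.{u}) M 1) := by
    have hs := SerreVanLib.subsingleton_HH_of_iso
      ((Scheme.Modules.pullback (pullback.fst f g)).mapIso o ≪≫ (KFlatLib.pullUnitIso (pullback.fst f g))) 1 h1
    exact e.toEquiv.subsingleton
  let eW := RpushLib.rpushSectionsEquiv p (Coh.structureModule R) 1 hW
  let t' : Γ(N, W) := N.presheaf.map (homOfLE hWU).op t
  haveI hloc : IsLocalizedModule S (TensorProduct.mk A B (Coh.HH (p ⁻¹ᵁ W : Scheme.{u}) M 1) 1) :=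
    (isLocalizedModule_iff_isBaseChange S B _).2 (TensorProduct.isBaseChange A _ B)
  obtain ⟨s, hs⟩ := (IsLocalizedModule.eq_zero_iff (f := TensorProduct.mk A B (Coh.HH (p ⁻¹ᵁ W : Scheme.{u}) M 1) 1) S
    (m := eW t')).1 (Subsingleton.elim _ _)
  have hst : (s : A) • t' = 0 := by
    apply eW.injective
    rw [map_zero, RpushLib.rpushSectionsEquiv_smul]
    refine Eq.trans ?_ hs
    show HSMul.hSMul (α := Coh.Γtop (p ⁻¹ᵁ W : Scheme.{u})) _ _ = Coh.toGlobal f (s : A) • eW t'
    refine congrArg (fun r : Coh.Γtop (p ⁻¹ᵁ W : Scheme.{u}) => r • eW t') ?_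
    have hc : f = (p ∣_ W) ≫ (W : Scheme.{u}).toSpecΓ ≫ Spec.map W.topIso.inv := by
      show (p ∣_ W) ≫ hW.isoSpec.hom = _
      rw [hW.isoSpec_hom, Scheme.Opens.toSpecΓ]
    show _ = f.appTop.hom ((Scheme.ΓSpecIso (CommRingCat.of A)).inv.hom s.1)
    have hf' : f.appTop = (Scheme.ΓSpecIso (CommRingCat.of A)).hom ≫ p.app W ≫ (p ⁻¹ᵁ W).topIso.inv := by
      show ((p ∣_ W) ≫ hW.isoSpec.hom).appTop = _
      rw [Scheme.Hom.comp_appTop, hW.isoSpec_hom_appTop, morphismRestrict_appTop, Category.assoc]
      congr 1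
      simp [Scheme.Hom.app_eq_appLE, Scheme.Hom.appLE_map, Scheme.Hom.map_appLE]
    rw [hf']
    simp
    rfl
  let D := X.basicOpen (s : A)
  have hxD : x ∈ D := by
    rw [Scheme.mem_basicOpen _ _ _ hxW]
    exact IsLocalization.map_units (M := S) B s
  refine ⟨D, (X.basicOpen_le _).trans hWU, hxD, ?_⟩
  have hu : IsUnit (X.presheaf.map (homOfLE (X.basicOpen_le (s : A))).op (s : A)) :=
    RingedSpace.isUnit_res_basicOpen _ _
  have e0 : N.presheaf.map (homOfLE (X.basicOpen_le (s : A))).op t' = 0 := by
    have h2 := congrArg (N.presheaf.map (homOfLE (X.basicOpen_le (s : A))).op) hst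
    rw [Scheme.Modules.map_smul, map_zero] at h2
    exact (IsUnit.smul_eq_zero hu).1 h2
  refine Eq.trans ?_ e0
  show _ = N.presheaf.map _ (N.presheaf.map (homOfLE hWU).op t)
  rw [← AddCommGrpCat.comp_apply, ← Functor.map_comp]
  rfl

end RatModLib
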