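import Mathlib
import Groth.Agent.NormFin.CurveNormalization
import Groth.Agent.NormalLib.Transfer

/-! Normalization of a Nagata scheme in a finite extension of its function field. -/

set_option autoImplicit false
set_option linter.style.haveILetI false
universe u

open CategoryTheory CategoryTheory.Limits AlgebraicGeometry

namespace RatModLib

open NormFinLib in
theorem normalization_finite_normal {X : Scheme.{u}} [IsIntegral X]
    (hN : ∀ U : X.affineOpens, CAlg.IsNagata Γ(X, U.1))
    (K : Type u) [Field K] (φ : X.functionField →+* K) (hφ : φ.Finite)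
    (g : Spec (CommRingCat.of K) ⟶ X)
    (hg : g = Spec.map (CommRingCat.ofHom φ) ≫ X.fromSpecStalk (genericPoint X))
    [QuasiCompact g] [QuasiSeparated g] :
    IsFinite g.fromNormalization ∧
      ∀ x' : g.normalization, IsDomain (g.normalization.presheaf.stalk x') ∧
        IsIntegrallyClosed (g.normalization.presheaf.stalk x') := by
  -- the rings of the charts
  have key : ∀ U : X.affineOpens,
      (g.normalizationDiagramMap.app (.op U.1)).hom.FiniteType ∧
      (Nonempty (PrimeSpectrum (g.normalizationDiagram.obj (.op U.1))) →
        IsDomain (g.normalizationDiagram.obj (.op U.1)) ∧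
          IsIntegrallyClosed (g.normalizationDiagram.obj (.op U.1)) ∧
          Function.Injective (g.normalizationDiagramMap.app (.op U.1)).hom ∧
          (g.normalizationDiagramMap.app (.op U.1)).hom.IsIntegral) := by
    intro U
    let M := Γ(Spec (CommRingCat.of K), g ⁻¹ᵁ U.1)
    let _ : Algebra Γ(X, U.1) M := (g.app U.1).hom.toAlgebra
    show (algebraMap Γ(X, U.1) (integralClosure Γ(X, U.1) M)).FiniteType ∧
      (Nonempty (PrimeSpectrum (integralClosure Γ(X, U.1) M)) →
        IsDomain (integralClosure Γ(X, U.1) M) ∧ IsIntegrallyClosed (integralClosure Γ(X, U.1) M) ∧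
          Function.Injective (algebraMap Γ(X, U.1) (integralClosure Γ(X, U.1) M)) ∧
          (algebraMap Γ(X, U.1) (integralClosure Γ(X, U.1) M)).IsIntegral)
    cases isEmpty_or_nonempty U.1 with
    | inl hemp =>
      have hbot : g ⁻¹ᵁ U.1 = ⊥ := eq_bot_iff.mpr fun x hx ↦ (hemp.false ⟨_, hx⟩).elim
      have : Subsingleton M := by
        show Subsingleton Γ(Spec (CommRingCat.of K), g ⁻¹ᵁ U.1)
        rw [hbot]
        infer_instance
      refine ⟨RingHom.FiniteType.of_surjective _ fun y ↦ ⟨0, Subsingleton.elim _ _⟩, ?_⟩
      rintro ⟨P⟩
      exact absurd ((Ideal.eq_top_iff_one _).mpr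
        (Subsingleton.elim (0 : integralClosure Γ(X, U.1) M) 1 ▸ P.asIdeal.zero_mem)) P.2.ne_top
    | inr hne =>
      obtain ⟨e, he⟩ := exists_chart_equiv K φ g hg U.1 U.2
      let A := Γ(X, U.1)
      have : IsDomain A := inferInstance
      let _ : Algebra A K := (φ.comp (X.germToFunctionField U.1).hom).toAlgebra
      let _ : Algebra X.functionField K := φ.toAlgebra
      have : IsScalarTower A X.functionField K := .of_algebraMap_eq fun _ ↦ rfl
      have : IsFractionRing A X.functionField := functionField_isFractionRing_of_isAffineOpen X _ U.2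
      have : FiniteDimensional X.functionField K := hφ
      let ea : M ≃ₐ[A] K := AlgEquiv.ofRingEquiv (f := e) he
      let ed : integralClosure A M ≃ₐ[A] integralClosure A K := ea.mapIntegralClosure
      let eF : FractionRing A ≃ₐ[A] X.functionField := FractionRing.algEquiv A X.functionField
      let _ : Algebra (FractionRing A) K := (φ.comp eF.toAlgHom.toRingHom).toAlgebra
      have : IsScalarTower A (FractionRing A) K := .of_algebraMap_eq fun a ↦ (congrArg φ (eF.commutes a)).symm
      have : FiniteDimensional (FractionRing A) K :=
        RingHom.Finite.comp hφ (RingHom.Finite.of_surjective _ eF.surjective)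
      have hfin : Module.Finite A (integralClosure A K) :=
        NormalLib.isN2_of_ringEquiv (RingEquiv.quotientBot A) ((hN U).2 ⊥) K inferInstance
      have : Module.Finite A (integralClosure A M) := Module.Finite.equiv ed.symm.toLinearEquiv
      have : IsIntegrallyClosed (integralClosure A M) :=
        have : IsIntegrallyClosed (integralClosure A K) :=
          integralClosure.isIntegrallyClosedOfFiniteExtension X.functionField
        IsIntegrallyClosed.of_equiv ed.symm.toRingEquiv
      have : IsDomain (integralClosure A M) := ed.toRingEquiv.toMulEquiv.isDomain _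
      have hinj : Function.Injective (algebraMap A (integralClosure A M)) := by
        intro a b hab
        have h2 : algebraMap A K a = algebraMap A K b := by
          rw [← ea.commutes a, ← ea.commutes b]
          exact congrArg (fun z : integralClosure A M ↦ ea z.1) hab
        exact (X.germToFunctionField_injective U.1) (φ.injective h2)
      exact ⟨RingHom.finiteType_algebraMap.mpr inferInstance, fun _ ↦ ⟨inferInstance, inferInstance,
        hinj, algebraMap_isIntegral_iff.mpr inferInstance⟩⟩
  refine ⟨?_, ?_⟩
  · refine (IsFinite.iff_isIntegralHom_and_locallyOfFiniteType _).mpr ⟨inferInstance, ?_⟩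
    refine IsZariskiLocalAtSource.of_openCover (P := @LocallyOfFiniteType)
      g.normalizationOpenCover fun U₀ ↦ ?_
    obtain ⟨U, rfl⟩ : ∃ V : X.affineOpens, V = U₀ := ⟨U₀, rfl⟩
    rw [g.ι_fromNormalization U]
    exact MorphismProperty.comp_mem _ _ _ (HasRingHomProperty.Spec_iff.mpr (key U).1)
      (inferInstanceAs (LocallyOfFiniteType U.2.fromSpec))
  · intro x'
    obtain ⟨U₀, P, rfl⟩ := g.normalizationOpenCover.exists_eq x'
    obtain ⟨U, rfl⟩ : ∃ V : X.affineOpens, V = U₀ := ⟨U₀, rfl⟩
    obtain ⟨hd, hn, -, -⟩ := (key U).2 ⟨P⟩
    let D := g.normalizationDiagram.obj (.op U.1)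
    let P' : PrimeSpectrum D := P
    let e := (asIso ((g.normalizationOpenCover.f U).stalkMap P)).commRingCatIsoToRingEquiv.trans
      (stalkEquivLocalization D P')
    have : IsDomain (Localization.AtPrime P'.asIdeal) :=
      IsLocalization.isDomain_of_le_nonZeroDivisors _ P'.asIdeal.primeCompl_le_nonZeroDivisors
    have : IsIntegrallyClosed (Localization.AtPrime P'.asIdeal) :=
      isIntegrallyClosed_of_isLocalization _ P'.asIdeal.primeCompl
        P'.asIdeal.primeCompl_le_nonZeroDivisors
    exact ⟨e.toMulEquiv.isDomain _, IsIntegrallyClosed.of_equiv e.symm⟩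

end RatModLib
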