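import Mathlib
import Groth.Agent.S1274
import Groth.Agent.S7338
import Groth.Agent.S9833
import Groth.Agent.S0566
import Groth.Agent.S8859
import Groth.Agent.ModifLib.Max
import Groth.Agent.RelProjLib.ProjProper
import Groth.Agent.SerreVanLib.Main
import Groth.Agent.PtBlowLib.Punct
import Groth.Agent.RpushLib.AffBaseBC
import Groth.Agent.RatModLib.Mod
import Groth.Agent.RatModLib.LocalVan
import Groth.Agent.RatModLib.VanBasic
import Groth.Agent.KFlatLib.PerfectPull

/-! Local rings of normal modifications of a rational singularity are rational. -/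

set_option autoImplicit false
set_option linter.style.haveILetI false
set_option maxHeartbeats 1000000
set_option backward.isDefEq.respectTransparency false
set_option backward.isDefEq.respectTransparency.types false
universe u

open CategoryTheory CategoryTheory.Limits AlgebraicGeometry TopologicalSpace Opposite TensorProduct

noncomputable section

namespace RatModLib

theorem rational_of_ringEquiv {A B : Type u} [CommRing A] [CommRing B] (e : A ≃+* B) (h : Curv2.IsRationalSing A) :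
    Curv2.IsRationalSing B := by
  intro X f hp hi hn hex
  obtain ⟨U, hU, hiso⟩ := hex
  let i : Spec (CommRingCat.of B) ⟶ Spec (CommRingCat.of A) := Spec.map (CommRingCat.ofHom e.toRingHom)
  haveI : IsIso i := by
    haveI : IsIso (CommRingCat.ofHom e.toRingHom) := (ConcreteCategory.isIso_iff_bijective _).2 e.bijective
    infer_instance
  haveI := hp
  haveI := hiso
  refine h X (f ≫ i) inferInstance hi hn ⟨(inv i) ⁻¹ᵁ U, ?_, ?_⟩
  · obtain ⟨z, hz⟩ := hU
    refine ⟨i z, ?_⟩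
    show (inv i) (i z) ∈ U
    rw [← Scheme.Hom.comp_apply, IsIso.hom_inv_id]
    exact hz
  · have e1 : i ⁻¹ᵁ (inv i) ⁻¹ᵁ U = U := by
      rw [← Scheme.Hom.comp_preimage, IsIso.hom_inv_id]
      rfl
    rw [morphismRestrict_comp]
    haveI : IsIso (f ∣_ (i ⁻¹ᵁ (inv i) ⁻¹ᵁ U)) := by rw [e1]; exact hiso
    infer_instance

theorem rational_stalk {A : Type u} [CommRing A] [IsDomain A] [IsLocalRing A] [IsNoetherianRing A] (hN : CAlg.IsNagata A)
    (hdim : ringKrullDim A = 2) (hA : Curv2.IsRationalSing A) {X : Scheme.{u}} [IsIntegral X]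
    (f : X ⟶ Spec (CommRingCat.of A)) (hf : Mod f) (hn : Pi1.IsNormalScheme X) (x : X)
    (hx : ringKrullDim (X.presheaf.stalk x) = 2) : Curv2.IsRationalSing (X.presheaf.stalk x) := by
  haveI := hf.proper
  haveI : IsLocallyNoetherian X := LocallyOfFiniteType.isLocallyNoetherian f
  haveI : CompactSpace X := QuasiCompact.compactSpace_of_compactSpace f
  haveI : IsNoetherian X := {}
  haveI : X.IsSeparated := ⟨by
    rw [Limits.terminal.hom_ext (Limits.terminal.from X) (f ≫ Limits.terminal.from _)]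
    infer_instance⟩
  have hdS : topologicalKrullDim (Spec (CommRingCat.of A)) ≤ 2 :=
    le_of_eq ((PrimeSpectrum.topologicalKrullDim_eq_ringKrullDim A).trans hdim)
  have hdX : topologicalKrullDim X ≤ 2 := hf.dim_le hdS
  haveI : IsDomain (X.presheaf.stalk x) := (hn x).1
  haveI : IsIntegrallyClosed (X.presheaf.stalk x) := (hn x).2
  intro Y c hp hi hnY hex
  obtain ⟨V₀, hV₀, hiso⟩ := hex
  haveI := hp
  haveI := hi
  haveI := hiso
  let O := X.presheaf.stalk x
  let g : Spec (CommRingCat.of O) ⟶ X := X.fromSpecStalk x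
  haveI hiU : IsIso (c ∣_ FEt.puncturedSpec O) := PtBlowLib.isIso_punctured hx c hV₀
  obtain ⟨J, Y'', c'', hc'', hJ, h, hh⟩ := Groth.Agent.S1274.result c (FEt.puncturedSpec O)
    (TopologicalSpace.NoetherianSpace.isCompact _)
  obtain ⟨I, hI⟩ := ModifLib.exists_extend_stalk x J
  have hIne : I ≠ ⊥ := fun h0 => by
    obtain ⟨p, hp0⟩ := PtBlowLib.punctured_nonempty (A := O) hx
    have hp1 : p ∈ ((Scheme.IdealSheafData.comap I g).support : Set (Spec (CommRingCat.of O))) := by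
      rw [Scheme.IdealSheafData.support_comap, h0, Scheme.IdealSheafData.support_bot]
      trivial
    exact Set.disjoint_left.1 hJ.2 (hI ▸ hp1) hp0
  have hN' : ∀ U : (Spec (CommRingCat.of A)).affineOpens, CAlg.IsNagata Γ(Spec (CommRingCat.of A), U.1) :=
    fun U => Groth.Agent.S9833.result (Spec (CommRingCat.of A)) (fun _ : PUnit.{u+1} => ⊤) (iSup_const) (fun _ => isAffineOpen_top _)
      (fun _ => by
        letI := ((Scheme.ΓSpecIso (CommRingCat.of A)).inv.hom).toAlgebra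
        haveI : Algebra.FiniteType A Γ(Spec (CommRingCat.of A), ⊤) :=
          RingHom.FiniteType.of_surjective _ (ConcreteCategory.bijective_of_isIso (Scheme.ΓSpecIso (CommRingCat.of A)).inv).2
        exact Groth.Agent.S0566.result A hN Γ(Spec (CommRingCat.of A), ⊤)) U.1 U.2
  obtain ⟨B', Z, b', ν', hb', hproj, hZi, hZn, U₁, hU₁, hU₁i⟩ :=
    ModifLib.exists_normalized_blowUp hn (ModifLib.isNagata_affineOpens f hN') I hIne
  haveI := hZi
  let q := ν' ≫ b'
  have hq : Mod q := ⟨RelProjLib.isProper_of_isProjective hproj, ⟨U₁, hU₁, hU₁i⟩⟩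
  haveI := hq.proper
  have hqf : Mod (q ≫ f) := hq.comp hf
  have hZ1 : H1z Z := hA Z (q ≫ f) hqf.proper hZi hZn hqf.iso
  haveI : IsLocallyNoetherian Z := LocallyOfFiniteType.isLocallyNoetherian q
  haveI : CompactSpace Z := QuasiCompact.compactSpace_of_compactSpace q
  haveI : IsNoetherian Z := {}
  haveI : HasInjectiveResolutions Z.Modules := inferInstance
  haveI : HasInjectiveResolutions X.Modules := inferInstance
  haveI := hq.isIso_unitToPush hn
  haveI : Coh.IsQCoh (Coh.structureModule X) := QCohLib.isQCoh_unit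
  have h2 : Subsingleton (Coh.HH X (Coh.structureModule X) 2) :=
    subsingleton_H2 f (fun s => by exact_mod_cast hf.fibre_le_one hdS s) _
  obtain ⟨hfin, hcl⟩ := hq.support_rpush hn hdX
  have hR : IsZero ((Coh.Rpush q 1).obj (Coh.structureModule Z)) :=
    isZero_of_finite_support _ hfin hcl ((h1z_iff_leray q h2).1 hZ1).2
  have hvan : Van q := van_of_isZero q hR
  obtain ⟨W, hxW, -⟩ := BlowUpLib.exists_affine x (W := ⊤) trivial
  haveI : IsAffine (W.1 : Scheme.{u}) := W.2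
  haveI : Nonempty W.1 := ⟨⟨x, hxW⟩⟩
  have hW1 : H1z (q ⁻¹ᵁ W.1 : Scheme.{u}) := hvan W.1 W.2
  have hWne : (W.1 : Set X).Nonempty := ⟨x, hxW⟩
  have hqW : Mod (q ∣_ W.1) := hq.restrict W.1 hWne
  haveI : Nonempty (q ⁻¹ᵁ W.1) := hq.nonempty_preimage hWne
  haveI : IsIntegral (q ⁻¹ᵁ W.1 : Scheme.{u}) := isIntegral_of_isOpenImmersion (q ⁻¹ᵁ W.1).ι
  haveI : IsIntegral (W.1 : Scheme.{u}) := isIntegral_of_isOpenImmersion W.1.ι
  haveI : Nonempty (Spec Γ(X, W.1)) := ⟨W.2.isoSpec.hom ⟨x, hxW⟩⟩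
  haveI : IsIntegral (Spec Γ(X, W.1)) := isIntegral_of_isOpenImmersion W.2.isoSpec.inv
  let fW : (q ⁻¹ᵁ W.1 : Scheme.{u}) ⟶ Spec (CommRingCat.of Γ(X, W.1)) := (q ∣_ W.1) ≫ W.2.isoSpec.hom
  have hfW : Mod fW := hqW.comp (Mod.of_isIso W.2.isoSpec.hom)
  haveI := hfW.proper
  have hnW : Pi1.IsNormalScheme (q ⁻¹ᵁ W.1 : Scheme.{u}) := fun z => by
    let e := (asIso ((q ⁻¹ᵁ W.1).ι.stalkMap z)).commRingCatIsoToRingEquiv
    obtain ⟨h1, h2⟩ := hZn ((q ⁻¹ᵁ W.1).ι z)
    haveI := h1; haveI := h2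
    exact ⟨e.symm.injective.isDomain e.symm.toRingHom, IsIntegrallyClosed.of_equiv e⟩
  let φ := X.presheaf.germ W.1 x hxW
  letI : Algebra Γ(X, W.1) O := φ.hom.toAlgebra
  haveI : IsLocalization.AtPrime O (W.2.primeIdealOf ⟨x, hxW⟩).asIdeal := W.2.isLocalization_stalk ⟨x, hxW⟩
  haveI : Module.Flat Γ(X, W.1) O := IsLocalization.flat O (W.2.primeIdealOf ⟨x, hxW⟩).asIdeal.primeCompl
  let gW : Spec (CommRingCat.of O) ⟶ Spec (CommRingCat.of Γ(X, W.1)) :=
    Spec.map (CommRingCat.ofHom (algebraMap Γ(X, W.1) O))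
  obtain ⟨hPi, hPn, hPp, UP, hUP, hUPi⟩ := exists_localization (A := Γ(X, W.1))
    (W.2.primeIdealOf ⟨x, hxW⟩).asIdeal.primeCompl
    (Ideal.primeCompl_le_nonZeroDivisors _) O fW hfW hnW
  let P := pullback fW gW
  haveI : IsIntegral P := hPi
  haveI : IsProper (pullback.snd fW gW) := hPp
  haveI : CompactSpace (q ⁻¹ᵁ W.1 : Scheme.{u}) := QuasiCompact.compactSpace_of_compactSpace fW
  haveI : QuasiSeparatedSpace (q ⁻¹ᵁ W.1 : Scheme.{u}) := quasiSeparatedSpace_of_quasiSeparated fW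
  haveI : Coh.IsQCoh (Coh.structureModule (q ⁻¹ᵁ W.1 : Scheme.{u})) := QCohLib.isQCoh_unit
  obtain ⟨eH⟩ := RpushLib.nonempty_affBase_bc (A := Γ(X, W.1)) (B := O)
    (IsPullback.of_hasPullback fW gW) (Coh.structureModule _) 1
  haveI : Subsingleton (Coh.HH (q ⁻¹ᵁ W.1 : Scheme.{u}) (Coh.structureModule _) 1) := hW1
  have hP1 : Subsingleton (Coh.HH P (Coh.structureModule P) 1) := by
    refine SerreVanLib.subsingleton_HH_of_iso (KFlatLib.pullUnitIso (pullback.fst fW gW)).symm 1 ?_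
    letI := Module.compHom (Coh.HH (q ⁻¹ᵁ W.1 : Scheme.{u}) (Coh.structureModule _) 1) (Coh.toGlobal fW)
    exact eH.symm.toEquiv.subsingleton
  have hY₁ : BlowUp.IsBlowUp (pullback.snd b' g) J := by
    haveI : Flat g := AlgSpLib.flat_fromSpecStalk x
    exact hI ▸ BlowUpLib.isBlowUp_of_isPullback (IsPullback.of_hasPullback b' g) hb'
  obtain ⟨e, he⟩ := BlowUpLib.exists_iso hc'' hY₁
  have hfs : gW ≫ W.2.fromSpec = g := IsAffineOpen.fromSpecStalk_eq_fromSpecStalk W.2 hxW
  have hcond : (pullback.fst fW gW ≫ (q ⁻¹ᵁ W.1).ι ≫ ν') ≫ b' = pullback.snd fW gW ≫ g := by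
    rw [← hfs, ← pullback.condition_assoc]
    simp only [fW, Category.assoc, IsAffineOpen.fromSpec, Iso.hom_inv_id_assoc]
    rw [morphismRestrict_ι]
  let m : P ⟶ Y := pullback.lift (pullback.fst fW gW ≫ (q ⁻¹ᵁ W.1).ι ≫ ν') (pullback.snd fW gW) hcond ≫ e.hom ≫ h
  have hm : m ≫ c = pullback.snd fW gW := by
    simp only [m, Category.assoc, hh, he, pullback.lift_snd]
  letI : P.Over (Spec (CommRingCat.of O)) := ⟨pullback.snd fW gW⟩
  letI : Y.Over (Spec (CommRingCat.of O)) := ⟨c⟩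
  haveI : IsProper (Y ↘ Spec (CommRingCat.of O)) := hp
  haveI : IsProper (P ↘ Spec (CommRingCat.of O)) := hPp
  haveI : IsLocallyNoetherian P := LocallyOfFiniteType.isLocallyNoetherian (pullback.snd fW gW)
  haveI : CompactSpace P := QuasiCompact.compactSpace_of_compactSpace (pullback.snd fW gW)
  haveI : IsNoetherian P := {}
  obtain ⟨-, -, -, hlen⟩ := Groth.Agent.S7338.result O hx Y P ⟨V₀, hV₀, hiso⟩ ⟨UP, hUP, hUPi⟩ hnY m hm
  haveI := hP1
  rw [Module.length_eq_zero, eq_comm, add_eq_zero] at hlen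
  exact Module.length_eq_zero_iff.1 hlen.1

end RatModLib

end
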