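import Mathlib
import Groth.Agent.ModifLib.Norm
import Groth.Agent.QCohLib.Push
import Groth.Agent.SerreVanLib.Main
import Groth.Agent.PtBlowLib.Punct
import Groth.Agent.RatModLib.VanBasic

/-! The trace splitting of the structure sheaf of a normal scheme in an integral cover of invertible degree. -/

set_option autoImplicit false
set_option linter.style.haveILetI false
set_option linter.unusedSectionVars false
set_option maxHeartbeats 1000000
set_option backward.isDefEq.respectTransparency false
set_option backward.isDefEq.respectTransparency.types false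
universe u

open CategoryTheory CategoryTheory.Limits AlgebraicGeometry TopologicalSpace Opposite

noncomputable section

namespace RatModLib.TraceSplit

variable {X X' : Scheme.{u}} [IsIntegral X] (π : X' ⟶ X) (L : Type u) [Field L] (φ : X.functionField →+* L)
  (t : Spec (CommRingCat.of L) ⟶ X')

/-- The map `Spec L → X` is the one attached to `φ`. -/
def Over : Prop := t ≫ π = Spec.map (CommRingCat.ofHom φ) ≫ X.fromSpecStalk (genericPoint X)

variable {π L φ t}

theorem top_le (ht : Over π L φ t) {W : X.Opens} (hW : (W : Set X).Nonempty) : ⊤ ≤ t ⁻¹ᵁ π ⁻¹ᵁ W := fun x _ => by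
  show π (t x) ∈ W
  have hη : genericPoint X ∈ W := ((genericPoint_spec X).mem_open_set_iff W.2).2 (by simpa using hW)
  have : Subsingleton (Spec X.functionField) := inferInstanceAs (Subsingleton (PrimeSpectrum X.functionField))
  rw [← Scheme.Hom.comp_apply, show t ≫ π = _ from ht, Scheme.Hom.comp_apply,
    Subsingleton.elim (Spec.map (CommRingCat.ofHom φ) x) (IsLocalRing.closedPoint X.functionField)]
  erw [Scheme.fromSpecStalk_closedPoint]
  exact hη

/-- Evaluation at the point of `Spec L`. -/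
def ev (ht : Over π L φ t) {W : X.Opens} (hW : (W : Set X).Nonempty) : Γ(X', π ⁻¹ᵁ W) →+* L :=
  (t.appLE (π ⁻¹ᵁ W) ⊤ (top_le ht hW) ≫ (Scheme.ΓSpecIso (CommRingCat.of L)).hom).hom

theorem ev_app (ht : Over π L φ t) {W : X.Opens} (hW : (W : Set X).Nonempty) [Nonempty W] (a : Γ(X, W)) :
    ev ht hW ((π.app W).hom a) = φ ((X.germToFunctionField W).hom a) := by
  have hη : genericPoint X ∈ W := ((genericPoint_spec X).mem_open_set_iff W.2).2 (by simpa using hW)
  suffices h : π.app W ≫ t.appLE (π ⁻¹ᵁ W) ⊤ (top_le ht hW) ≫ (Scheme.ΓSpecIso (CommRingCat.of L)).hom =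
      X.germToFunctionField W ≫ CommRingCat.ofHom φ from congrArg (fun f => f.hom a) h
  have key : ∀ (m : Spec (CommRingCat.of L) ⟶ X), t ≫ π = m → ∀ e : ⊤ ≤ m ⁻¹ᵁ W,
      π.app W ≫ t.appLE (π ⁻¹ᵁ W) ⊤ (top_le ht hW) = m.appLE W ⊤ e := by
    rintro _ rfl e
    rw [Scheme.Hom.comp_appLE]
  let g := X.fromSpecStalk (genericPoint X)
  let i := Spec.map (CommRingCat.ofHom φ)
  have hg : ∀ x, g x ∈ W := fun x => by
    have : Subsingleton (Spec X.functionField) := inferInstanceAs (Subsingleton (PrimeSpectrum X.functionField))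
    rw [Subsingleton.elim x (IsLocalRing.closedPoint X.functionField)]
    erw [Scheme.fromSpecStalk_closedPoint]
    exact hη
  have hg' : ⊤ ≤ g ⁻¹ᵁ W := fun x _ => hg x
  have h1 : g.appLE W ⊤ hg' = X.germToFunctionField W ≫ (Scheme.ΓSpecIso X.functionField).inv := by
    rw [Scheme.Hom.appLE, Scheme.fromSpecStalk_app hη, Category.assoc, Category.assoc, ← Functor.map_comp]
    rw [Subsingleton.elim ((homOfLE le_top).op ≫ (homOfLE hg').op) (𝟙 (op ⊤)), CategoryTheory.Functor.map_id]
    exact congrArg _ (Category.comp_id _)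
  rw [reassoc_of% (key (i ≫ g) ht (fun x _ => hg (i x))),
    ← Scheme.Hom.appLE_comp_appLE i g W ⊤ ⊤ hg' (fun _ _ => trivial), h1]
  have h2 : i.appLE ⊤ ⊤ (fun _ _ => trivial) = i.appTop := Scheme.Hom.appLE_eq_app ..
  rw [h2, Category.assoc, Category.assoc, Scheme.ΓSpecIso_naturality]
  exact congrArg _ (Iso.inv_hom_id_assoc _ _)

theorem ev_res (ht : Over π L φ t) {W U : X.Opens} (hW : (W : Set X).Nonempty) (hU : (U : Set X).Nonempty)
    (hle : U ≤ W) (z : Γ(X', π ⁻¹ᵁ W)) :
    ev ht hU ((X'.presheaf.map (homOfLE (show π ⁻¹ᵁ U ≤ π ⁻¹ᵁ W from fun _ h => hle h)).op).hom z) = ev ht hW z := by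
  exact congrArg (fun w => (Scheme.ΓSpecIso (CommRingCat.of L)).hom.hom w)
    (congrArg (fun f => f.hom z) (Scheme.Hom.map_appLE t (top_le ht hU) (homOfLE (show π ⁻¹ᵁ U ≤ π ⁻¹ᵁ W from fun _ h => hle h)).op))

theorem exists_glue_germ {W : X.Opens} (hW : (W : Set X).Nonempty) (T : X.functionField)
    (h : ∀ x ∈ W, ∃ (U : X.Opens) (_ : Nonempty U) (s : Γ(X, U)), x ∈ U ∧ U ≤ W ∧ (X.germToFunctionField U).hom s = T) :
    haveI : Nonempty W := hW.to_subtype
    ∃ s : Γ(X, W), (X.germToFunctionField W).hom s = T := by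
  haveI : Nonempty W := hW.to_subtype
  choose U hne s hxU hUW hs using fun x : W => h x.1 x.2
  have hη : ∀ x, genericPoint X ∈ U x := fun x =>
    ((genericPoint_spec X).mem_open_set_iff (U x).2).2 (by simpa using ⟨x.1, hxU x⟩)
  have hcompat : TopCat.Presheaf.IsCompatible X.sheaf.1 U s := fun x y => by
    have hxy : genericPoint X ∈ U x ⊓ U y := ⟨hη x, hη y⟩
    haveI : Nonempty (U x ⊓ U y : X.Opens) := ⟨⟨_, hxy⟩⟩
    apply X.germToFunctionField_injective (U x ⊓ U y)
    exact (X.presheaf.germ_res_apply (Opens.infLELeft _ _) _ hxy _).trans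
      ((hs x).trans ((hs y).symm.trans (X.presheaf.germ_res_apply (Opens.infLERight _ _) _ hxy _).symm))
  obtain ⟨σ, hσ, -⟩ := X.sheaf.existsUnique_gluing' U W (fun x => homOfLE (hUW x))
    (fun x hx => Opens.mem_iSup.2 ⟨⟨x, hx⟩, hxU ⟨x, hx⟩⟩) s hcompat
  obtain ⟨x₀⟩ := (inferInstance : Nonempty W)
  refine ⟨σ, ?_⟩
  rw [← hs x₀, ← hσ x₀]
  exact (X.presheaf.germ_res_apply (homOfLE (hUW x₀)) _ (hη x₀) σ).symm

variable [IsIntegralHom π]

theorem exists_trace (hn : Pi1.IsNormalScheme X) (ht : Over π L φ t) (hfd : φ.Finite) (c : Γ(X, ⊤))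
    {W : X.Opens} (hW : (W : Set X).Nonempty) (z : Γ(X', π ⁻¹ᵁ W)) :
    letI := φ.toAlgebra
    haveI : Nonempty W := hW.to_subtype
    haveI : Nonempty (⊤ : X.Opens) := ⟨⟨genericPoint X, trivial⟩⟩
    ∃ s : Γ(X, W), (X.germToFunctionField W).hom s =
      (X.germToFunctionField ⊤).hom c * Algebra.trace X.functionField L (ev ht hW z) := by
  letI := φ.toAlgebra
  haveI : Nonempty (⊤ : X.Opens) := ⟨⟨genericPoint X, trivial⟩⟩
  haveI : FiniteDimensional X.functionField L := hfd
  refine exists_glue_germ hW _ fun x hx => ?_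
  obtain ⟨U, hU, hxU, hUW⟩ := exists_isAffineOpen_mem_and_subset (x := x) (U := W) hx
  haveI : Nonempty U := ⟨⟨x, hxU⟩⟩
  have hUne : (U : Set X).Nonempty := ⟨x, hxU⟩
  haveI := functionField_isFractionRing_of_isAffineOpen X U hU
  haveI : IsIntegrallyClosed Γ(X, U) := LocFFLib.isIntegrallyClosed_sections hn U
  letI : Algebra Γ(X, U) L := (φ.comp (X.germToFunctionField U).hom).toAlgebra
  haveI : IsScalarTower Γ(X, U) X.functionField L := .of_algebraMap_eq fun _ => rfl
  let zU := (X'.presheaf.map (homOfLE (show π ⁻¹ᵁ U ≤ π ⁻¹ᵁ W from fun _ h => hUW h)).op).hom z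
  have hint : _root_.IsIntegral Γ(X, U) (ev ht hUne zU) := by
    obtain ⟨p, hp, hpz⟩ := π.isIntegral_app U hU zU
    refine ⟨p, hp, ?_⟩
    have e := congrArg (ev ht hUne) hpz
    rw [map_zero, Polynomial.hom_eval₂] at e
    have e' : (ev ht hUne).comp (π.app U).hom = algebraMap Γ(X, U) L := RingHom.ext fun a => ev_app ht hUne a
    rwa [e'] at e
  obtain ⟨a, ha⟩ := IsIntegrallyClosed.isIntegral_iff.1 (Algebra.isIntegral_trace (L := X.functionField) hint)
  refine ⟨U, inferInstance, (X.presheaf.map (homOfLE (le_top : U ≤ ⊤)).op).hom c * a, hxU, hUW, ?_⟩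
  rw [map_mul, ← ev_res ht hW hUne hUW z]
  exact congrArg₂ _ (X.presheaf.germ_res_apply _ _ _ c) ha

theorem finrank_pos (hfd : φ.Finite) : letI := φ.toAlgebra; 0 < Module.finrank X.functionField L := by
  letI := φ.toAlgebra
  haveI : FiniteDimensional X.functionField L := hfd
  exact Module.finrank_pos

theorem exists_unique_trace (hn : Pi1.IsNormalScheme X) (ht : Over π L φ t) (hfd : φ.Finite) (c : Γ(X, ⊤))
    {W : X.Opens} (z : Γ(X', π ⁻¹ᵁ W)) :
    ∃! s : Γ(X, W), ∀ hW : (W : Set X).Nonempty,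
      letI := φ.toAlgebra
      haveI : Nonempty W := hW.to_subtype
      haveI : Nonempty (⊤ : X.Opens) := ⟨⟨genericPoint X, trivial⟩⟩
      (X.germToFunctionField W).hom s =
        (X.germToFunctionField ⊤).hom c * Algebra.trace X.functionField L (ev ht hW z) := by
  rcases Set.eq_empty_or_nonempty (W : Set X) with hW | hW
  · have hb : W = ⊥ := Opens.ext hW
    subst hb
    exact ⟨0, fun h => absurd hW h.ne_empty, fun s _ => Subsingleton.elim _ _⟩
  · obtain ⟨s, hs⟩ := exists_trace hn ht hfd c hW z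
    haveI : Nonempty W := hW.to_subtype
    exact ⟨s, fun _ => hs, fun s' hs' => X.germToFunctionField_injective W ((hs' hW).trans hs.symm)⟩

/-- The trace retraction. -/
theorem exists_retraction (hn : Pi1.IsNormalScheme X) (ht : Over π L φ t) (hfd : φ.Finite)
    (hd : letI := φ.toAlgebra; IsUnit ((Module.finrank X.functionField L : ℕ) : Γ(X, ⊤))) :
    ∃ r : (Scheme.Modules.pushforward π).obj (Coh.structureModule X') ⟶ Coh.structureModule X,
      ClSub.unitToPush π ≫ r = 𝟙 _ := by
  letI := φ.toAlgebra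
  haveI : FiniteDimensional X.functionField L := hfd
  haveI : Nonempty (⊤ : X.Opens) := ⟨⟨genericPoint X, trivial⟩⟩
  obtain ⟨u, hu⟩ := hd
  let c : Γ(X, ⊤) := (u⁻¹ : (Γ(X, ⊤))ˣ)
  choose r hr huniq using fun (W : X.Opens) (z : Γ(X', π ⁻¹ᵁ W)) => exists_unique_trace hn ht hfd c z
  let rA : ∀ W : X.Opens, Γ(X', π ⁻¹ᵁ W) →+ Γ(X, W) := fun W =>
    AddMonoidHom.mk' (r W) fun a b => (huniq W _ _ fun hW => by
      haveI : Nonempty W := hW.to_subtype
      rw [map_add, hr W a hW, hr W b hW, map_add, map_add, mul_add]).symm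
  have hnat : ∀ (W U : X.Opens) (hle : U ≤ W) (z : Γ(X', π ⁻¹ᵁ W)),
      rA U ((X'.presheaf.map (homOfLE (show π ⁻¹ᵁ U ≤ π ⁻¹ᵁ W from fun _ h => hle h)).op).hom z) =
        (X.presheaf.map (homOfLE hle).op).hom (rA W z) := fun W U hle z => by
    refine (huniq U _ _ fun hU => ?_).symm
    haveI : Nonempty U := hU.to_subtype
    have hW : (W : Set X).Nonempty := hU.mono hle
    haveI : Nonempty W := hW.to_subtype
    rw [ev_res ht hW hU hle z]
    exact (X.presheaf.germ_res_apply _ _ _ _).trans (hr W z hW)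
  have hsmul : ∀ (W : X.Opens) (a : Γ(X, W)) (z : Γ(X', π ⁻¹ᵁ W)), rA W ((π.app W).hom a * z) = a * rA W z :=
    fun W a z => (huniq W _ _ fun hW => by
      haveI : Nonempty W := hW.to_subtype
      show (X.germToFunctionField W).hom (a * rA W z) = _
      rw [map_mul, show (X.germToFunctionField W).hom (rA W z) = _ from hr W z hW, map_mul, ev_app,
        show φ ((X.germToFunctionField W).hom a) * ev ht hW z = ((X.germToFunctionField W).hom a) • ev ht hW z from
          (Algebra.smul_def _ _).symm, map_smul, smul_eq_mul]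
      ring).symm
  let R : (Scheme.Modules.pushforward π).obj (Coh.structureModule X') ⟶ Coh.structureModule X :=
    ⟨PresheafOfModules.homMk
      { app := fun U => AddCommGrpCat.ofHom (rA U.unop)
        naturality := fun U V i => by
          ext z
          exact hnat U.unop V.unop i.unop.le z }
      (fun U a z => hsmul U.unop a z)⟩
  refine ⟨R, ?_⟩
  refine Scheme.Modules.hom_ext _ _ fun W => AddCommGrpCat.ext fun s => ?_
  show rA W ((π.app W).hom s) = s
  refine (huniq W _ _ fun hW => ?_).symm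
  haveI : Nonempty W := hW.to_subtype
  show (X.germToFunctionField W).hom s = _
  rw [ev_app, show φ ((X.germToFunctionField W).hom s) = algebraMap X.functionField L _ from rfl,
    Algebra.trace_algebraMap, nsmul_eq_mul, ← mul_assoc]
  have h1 : (X.germToFunctionField ⊤).hom c * (Module.finrank X.functionField L : X.functionField) = 1 := by
    rw [← map_natCast (X.germToFunctionField ⊤).hom, ← map_mul, ← hu]
    exact (congrArg _ (Units.inv_mul u)).trans (map_one _)
  rw [h1, one_mul]

/-- The trace, with the degree as the scalar. -/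
theorem exists_scaled_retraction (hn : Pi1.IsNormalScheme X) (ht : Over π L φ t) (hfd : φ.Finite) :
    letI := φ.toAlgebra
    ∃ r : (Scheme.Modules.pushforward π).obj (Coh.structureModule X') ⟶ Coh.structureModule X,
      ClSub.unitToPush π ≫ r = Module.finrank X.functionField L • 𝟙 _ := by
  letI := φ.toAlgebra
  haveI : FiniteDimensional X.functionField L := hfd
  haveI : Nonempty (⊤ : X.Opens) := ⟨⟨genericPoint X, trivial⟩⟩
  let c : Γ(X, ⊤) := 1
  choose r hr huniq using fun (W : X.Opens) (z : Γ(X', π ⁻¹ᵁ W)) => exists_unique_trace hn ht hfd c z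
  let rA : ∀ W : X.Opens, Γ(X', π ⁻¹ᵁ W) →+ Γ(X, W) := fun W =>
    AddMonoidHom.mk' (r W) fun a b => (huniq W _ _ fun hW => by
      haveI : Nonempty W := hW.to_subtype
      rw [map_add, hr W a hW, hr W b hW, map_add, map_add, mul_add]).symm
  have hnat : ∀ (W U : X.Opens) (hle : U ≤ W) (z : Γ(X', π ⁻¹ᵁ W)),
      rA U ((X'.presheaf.map (homOfLE (show π ⁻¹ᵁ U ≤ π ⁻¹ᵁ W from fun _ h => hle h)).op).hom z) =
        (X.presheaf.map (homOfLE hle).op).hom (rA W z) := fun W U hle z => by
    refine (huniq U _ _ fun hU => ?_).symm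
    haveI : Nonempty U := hU.to_subtype
    have hW : (W : Set X).Nonempty := hU.mono hle
    haveI : Nonempty W := hW.to_subtype
    rw [ev_res ht hW hU hle z]
    exact (X.presheaf.germ_res_apply _ _ _ _).trans (hr W z hW)
  have hsmul : ∀ (W : X.Opens) (a : Γ(X, W)) (z : Γ(X', π ⁻¹ᵁ W)), rA W ((π.app W).hom a * z) = a * rA W z :=
    fun W a z => (huniq W _ _ fun hW => by
      haveI : Nonempty W := hW.to_subtype
      show (X.germToFunctionField W).hom (a * rA W z) = _
      rw [map_mul, show (X.germToFunctionField W).hom (rA W z) = _ from hr W z hW, map_mul, ev_app,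
        show φ ((X.germToFunctionField W).hom a) * ev ht hW z = ((X.germToFunctionField W).hom a) • ev ht hW z from
          (Algebra.smul_def _ _).symm, map_smul, smul_eq_mul]
      ring).symm
  let R : (Scheme.Modules.pushforward π).obj (Coh.structureModule X') ⟶ Coh.structureModule X :=
    ⟨PresheafOfModules.homMk
      { app := fun U => AddCommGrpCat.ofHom (rA U.unop)
        naturality := fun U V i => by
          ext z
          exact hnat U.unop V.unop i.unop.le z }
      (fun U a z => hsmul U.unop a z)⟩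
  refine ⟨R, ?_⟩
  refine Scheme.Modules.hom_ext _ _ fun W => AddCommGrpCat.ext fun s => ?_
  have happ : ∀ (n : ℕ) (ψ : Coh.structureModule X ⟶ Coh.structureModule X) (s : Γ(Coh.structureModule X, W)),
      (n • ψ).app W s = n • ψ.app W s := fun n ψ s => by
    induction n with
    | zero => rw [zero_smul, zero_smul]; rfl
    | succ n ih => rw [succ_nsmul, succ_nsmul, ← ih]; rfl
  refine Eq.trans ?_ (happ _ _ s).symm
  show rA W ((π.app W).hom s) = Module.finrank X.functionField L • (show Γ(X, W) from s)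
  refine (huniq W _ _ fun hW => ?_).symm
  haveI : Nonempty W := hW.to_subtype
  rw [ev_app, show φ ((X.germToFunctionField W).hom s) = algebraMap X.functionField L _ from rfl,
    Algebra.trace_algebraMap, map_nsmul, show (X.germToFunctionField ⊤).hom c = 1 from map_one _, one_mul]

/-- `H¹` of a normal scheme injects in `H¹` of an integral cover of invertible degree. -/
theorem subsingleton_H1 (hn : Pi1.IsNormalScheme X) (ht : Over π L φ t) (hfd : φ.Finite)
    (hd : letI := φ.toAlgebra; IsUnit ((Module.finrank X.functionField L : ℕ) : Γ(X, ⊤))) (h : H1z X') : H1z X := by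
  obtain ⟨r, hr⟩ := exists_retraction hn ht hfd hd
  haveI : Coh.IsQCoh (Coh.structureModule X') := QCohLib.isQCoh_unit
  obtain ⟨e⟩ := QCohLib.nonempty_HH_push π (Coh.structureModule X') 1
  haveI : Subsingleton (Coh.HH X' (Coh.structureModule X') 1) := h
  haveI : Subsingleton (Coh.HH X ((Coh.push π).obj (Coh.structureModule X')) 1) := e.symm.toEquiv.subsingleton
  refine ⟨fun x y => ?_⟩
  have key : ∀ x : Coh.HH X (Coh.structureModule X) 1,
      Sheaf.H.map ((SheafOfModules.toSheaf X.ringCatSheaf).map r) 1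
        (Sheaf.H.map ((SheafOfModules.toSheaf X.ringCatSheaf).map (ClSub.unitToPush π)) 1 x) = x := fun x => by
    rw [← Sheaf.H.map_comp_apply, ← Functor.map_comp, hr, CategoryTheory.Functor.map_id, Sheaf.H.map_id_apply]
  rw [← key x, ← key y]
  exact congrArg _ (Subsingleton.elim (α := Coh.HH X ((Coh.push π).obj (Coh.structureModule X')) 1) _ _)

/-- The degree annihilates `H¹` when the cover has none. -/
theorem smul_H1_eq_zero (hn : Pi1.IsNormalScheme X) (ht : Over π L φ t) (hfd : φ.Finite) (h : H1z X')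
    (x : Coh.HH X (Coh.structureModule X) 1) : letI := φ.toAlgebra; Module.finrank X.functionField L • x = 0 := by
  letI := φ.toAlgebra
  obtain ⟨r, hr⟩ := exists_scaled_retraction hn ht hfd
  haveI : Coh.IsQCoh (Coh.structureModule X') := QCohLib.isQCoh_unit
  obtain ⟨e⟩ := QCohLib.nonempty_HH_push π (Coh.structureModule X') 1
  haveI : Subsingleton (Coh.HH X' (Coh.structureModule X') 1) := h
  haveI : Subsingleton (Coh.HH X ((Coh.push π).obj (Coh.structureModule X')) 1) := e.symm.toEquiv.subsingleton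
  have key : Sheaf.H.map ((SheafOfModules.toSheaf X.ringCatSheaf).map (ClSub.unitToPush π ≫ r)) 1 x = 0 := by
    rw [Functor.map_comp, Sheaf.H.map_comp_apply,
      Subsingleton.elim (α := Coh.HH X ((Coh.push π).obj (Coh.structureModule X')) 1)
        (Sheaf.H.map ((SheafOfModules.toSheaf X.ringCatSheaf).map (ClSub.unitToPush π)) 1 x) 0, map_zero]
  rw [hr, Functor.map_nsmul, CategoryTheory.Functor.map_id] at key
  have e : ∀ n : ℕ, Sheaf.H.map (n • 𝟙 ((SheafOfModules.toSheaf X.ringCatSheaf).obj (Coh.structureModule X))) 1 x = n • x := by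
    intro n
    induction n with
    | zero =>
      show (Abelian.Ext.comp x (Abelian.Ext.mk₀ _) (add_zero 1)) = _
      rw [zero_smul, zero_smul, Abelian.Ext.mk₀_zero, Abelian.Ext.comp_zero]
    | succ n ih =>
      show (Abelian.Ext.comp x (Abelian.Ext.mk₀ _) (add_zero 1)) = _
      rw [succ_nsmul, succ_nsmul, Abelian.Ext.mk₀_add, Abelian.Ext.comp_add, Abelian.Ext.comp_mk₀_id]
      exact congrArg (· + x) ih
  exact (e _).symm.trans key

end RatModLib.TraceSplit

end
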