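import Mathlib
import Groth.Agent.S0566
import Groth.Agent.S9833
import Groth.Agent.S11555
import Groth.Agent.ModifLib.Norm
import Groth.Agent.NormalLib.Transfer
import Groth.Agent.RatModLib.TraceSplit
import Groth.Agent.RatModLib.NormExt
import Groth.Agent.RatModLib.Gen
import Groth.Agent.RatModLib.RatStalk

/-! Rational singularities descend along finite extensions of invertible degree. -/

set_option autoImplicit false
set_option linter.style.haveILetI false
set_option maxHeartbeats 1000000
set_option backward.isDefEq.respectTransparency false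
set_option backward.isDefEq.respectTransparency.types false
universe u

open CategoryTheory CategoryTheory.Limits AlgebraicGeometry TopologicalSpace Opposite

noncomputable section

namespace RatModLib

theorem rational_descent (A B : Type u) [CommRing A] [IsDomain A] [IsLocalRing A] [IsNoetherianRing A] [IsIntegrallyClosed A]
    (hN : CAlg.IsNagata A) [CommRing B] [IsDomain B] [IsIntegrallyClosed B]
    [Algebra A B] [Module.Finite A B] (hinj : Function.Injective (algebraMap A B))
    (K L : Type u) [Field K] [Field L] [Algebra A K] [IsFractionRing A K] [Algebra B L] [IsFractionRing B L]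
    [Algebra K L] [Algebra A L] [IsScalarTower A K L] [IsScalarTower A B L]
    (hdeg : IsUnit ((Module.finrank K L : ℕ) : A))
    (hB : ∀ (n : Ideal B) [n.IsMaximal], Curv2.IsRationalSing (Localization.AtPrime n)) : Curv2.IsRationalSing A := by
  classical
  intro Y c hp hi hnY hex
  obtain ⟨V₀, hV₀, hiso⟩ := hex
  haveI := hp
  haveI := hi
  haveI := hiso
  haveI : IsLocallyNoetherian Y := LocallyOfFiniteType.isLocallyNoetherian c
  haveI : CompactSpace Y := QuasiCompact.compactSpace_of_compactSpace c
  haveI : IsNoetherian Y := {}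
  let η := genericPoint Y
  let σ : A →+* Y.functionField := phi c η
  -- the function field
  have hσ : Function.Injective σ ∧ ∀ k : Y.functionField, ∃ a b : A, σ b ≠ 0 ∧ k * σ b = σ a := by
    haveI hiS : IsIso (c.stalkMap η) := ModifLib.isIso_stalkMap_genericPoint c hV₀
    let S := Spec (CommRingCat.of A)
    have hbij : Function.Bijective (c.stalkMap η).hom := ConcreteCategory.bijective_of_isIso (c.stalkMap η)
    have hphi : ∀ a, (c.stalkMap η).hom (phi (𝟙 S) (c η) a) = σ a := fun a =>
      stalkMap_phi c (𝟙 S) c (Category.comp_id c) η a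
    have hη : c η = genericPoint S := ModifLib.map_genericPoint c hV₀
    have key : ∀ p : S, p = genericPoint S →
        Function.Injective (phi (𝟙 S) p) ∧
          ∀ k : S.presheaf.stalk p, ∃ a b : A, phi (𝟙 S) p b ≠ 0 ∧ k * phi (𝟙 S) p b = phi (𝟙 S) p a := by
      rintro _ rfl
      letI : Algebra Γ(S, ⊤) (S.presheaf.stalk (genericPoint S)) :=
        ((S.presheaf.germ ⊤ (genericPoint S) trivial).hom).toAlgebra
      haveI : Nonempty (⊤ : S.Opens) := ⟨⟨genericPoint S, trivial⟩⟩
      haveI : IsFractionRing Γ(S, ⊤) S.functionField :=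
        functionField_isFractionRing_of_isAffineOpen S ⊤ (isAffineOpen_top S)
      have hb : Function.Bijective (Coh.toGlobal (𝟙 S)) := by
        show Function.Bijective ((Scheme.ΓSpecIso (CommRingCat.of A)).inv ≫ (𝟙 S : S ⟶ S).appTop).hom
        rw [Scheme.Hom.id_appTop, Category.comp_id]
        exact ConcreteCategory.bijective_of_isIso _
      refine ⟨(S.germToFunctionField_injective ⊤).comp hb.1, fun k => ?_⟩
      obtain ⟨⟨a, b⟩, hab⟩ := IsLocalization.surj (nonZeroDivisors Γ(S, ⊤)) (S := S.functionField) k
      obtain ⟨a', rfl⟩ := hb.2 a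
      obtain ⟨b', hb'⟩ := hb.2 b.1
      refine ⟨a', b', fun h0 => ?_, ?_⟩
      · refine nonZeroDivisors.ne_zero b.2 (hb' ▸ S.germToFunctionField_injective ⊤ (h0.trans (map_zero _).symm))
      · rw [← hb'] at hab
        exact hab
    obtain ⟨k1, k2⟩ := key _ hη
    refine ⟨fun a b h => k1 (hbij.1 (by rw [hphi, hphi]; exact h)), fun k => ?_⟩
    obtain ⟨k', rfl⟩ := hbij.2 k
    obtain ⟨a, b, hb, hab⟩ := k2 k'
    refine ⟨a, b, ?_, ?_⟩
    · rw [← hphi]; exact fun h => hb (hbij.1 (h.trans (map_zero _).symm))
    · rw [← hphi, ← hphi, ← map_mul, hab]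
  letI : Algebra A Y.functionField := σ.toAlgebra
  haveI : IsFractionRing A Y.functionField := by
    refine ⟨⟨fun s => ?_, fun k => ?_, fun {x y} h => ⟨1, by rw [hσ.1 h]⟩⟩⟩
    · exact isUnit_iff_ne_zero.2 ((map_ne_zero_iff _ hσ.1).2 (nonZeroDivisors.ne_zero s.2))
    · obtain ⟨a, b, hb, hab⟩ := hσ.2 k
      exact ⟨⟨a, ⟨b, mem_nonZeroDivisors_of_ne_zero fun h => hb (by rw [h, map_zero])⟩⟩, hab⟩
  let eK : Y.functionField ≃ₐ[A] K := IsLocalization.algEquiv (nonZeroDivisors A) Y.functionField K
  let φ : Y.functionField →+* L := (algebraMap K L).comp eK.toAlgHom.toRingHom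
  have hφA : ∀ a, φ (σ a) = algebraMap A L a := fun a =>
    (congrArg (algebraMap K L) (eK.commutes a)).trans (IsScalarTower.algebraMap_apply A K L a).symm
  haveI : FiniteDimensional K L := NormalLib.finiteDimensional_fractionRing (R := A) (S := B) K L hinj
  have hφ : φ.Finite := RingHom.Finite.comp (RingHom.finite_algebraMap.2 ‹_›) (RingHom.Finite.of_surjective _ eK.surjective)
  have hd : letI := φ.toAlgebra; IsUnit ((Module.finrank Y.functionField L : ℕ) : Γ(Y, ⊤)) := by
    letI := φ.toAlgebra
    have e : Module.finrank Y.functionField L = Module.finrank K L :=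
      Algebra.finrank_eq_of_equiv_equiv eK.toRingEquiv (RingEquiv.refl L) (RingHom.ext fun _ => rfl)
    rw [e, ← map_natCast (Coh.toGlobal c)]
    exact hdeg.map _
  let g : Spec (CommRingCat.of L) ⟶ Y := Spec.map (CommRingCat.ofHom φ) ≫ Y.fromSpecStalk η
  haveI : QuasiSeparatedSpace Y := quasiSeparatedSpace_of_quasiSeparated c
  haveI : QuasiCompact g := inferInstance
  haveI : QuasiSeparated g := inferInstance
  have hNA : ∀ U : (Spec (CommRingCat.of A)).affineOpens, CAlg.IsNagata Γ(Spec (CommRingCat.of A), U.1) :=
    fun U => Groth.Agent.S9833.result (Spec (CommRingCat.of A)) (fun _ : PUnit.{u+1} => ⊤) (iSup_const) (fun _ => isAffineOpen_top _)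
      (fun _ => by
        letI := ((Scheme.ΓSpecIso (CommRingCat.of A)).inv.hom).toAlgebra
        haveI : Algebra.FiniteType A Γ(Spec (CommRingCat.of A), ⊤) :=
          RingHom.FiniteType.of_surjective _ (ConcreteCategory.bijective_of_isIso (Scheme.ΓSpecIso (CommRingCat.of A)).inv).2
        exact Groth.Agent.S0566.result A hN Γ(Spec (CommRingCat.of A), ⊤)) U.1 U.2
  obtain ⟨hfin, hnY'⟩ := normalization_finite_normal (ModifLib.isNagata_affineOpens c hNA) L φ hφ g rfl
  let π := g.fromNormalization
  let t := g.toNormalization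
  have ht : TraceSplit.Over π L φ t := g.toNormalization_fromNormalization
  refine TraceSplit.subsingleton_H1 hnY ht hφ hd ?_
  -- the normalization lies over the spectrum of `B`
  let sB : Spec (CommRingCat.of B) ⟶ Spec (CommRingCat.of A) := Spec.map (CommRingCat.ofHom (algebraMap A B))
  haveI : IsFinite sB := (IsFinite.SpecMap_iff _).2 (RingHom.finite_algebraMap.2 ‹_›)
  have hgc : g ≫ c = Spec.map (CommRingCat.ofHom (algebraMap B L)) ≫ sB := by
    show (_ ≫ _) ≫ c = _
    rw [Category.assoc, fromSpecStalk_comp, ← Spec.map_comp, ← Spec.map_comp]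
    refine congrArg Spec.map (CommRingCat.hom_ext (RingHom.ext fun a => ?_))
    exact (hφA a).trans (IsScalarTower.algebraMap_apply A B L a)
  let f₁ : Spec (CommRingCat.of L) ⟶ pullback c sB := pullback.lift g (Spec.map (CommRingCat.ofHom (algebraMap B L))) hgc
  haveI : IsIntegralHom (pullback.fst c sB) := inferInstance
  have H : g = f₁ ≫ pullback.fst c sB := (pullback.lift_fst _ _ _).symm
  let q := g.normalizationDesc f₁ (pullback.fst c sB) H
  let p : g.normalization ⟶ Spec (CommRingCat.of B) := q ≫ pullback.snd c sB
  have hq : q ≫ pullback.fst c sB = π := g.normalizationDesc_comp f₁ _ H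
  have hp' : p ≫ sB = π ≫ c := by
    rw [Category.assoc, ← pullback.condition, reassoc_of% hq]
  have htp : t ≫ p = Spec.map (CommRingCat.ofHom (algebraMap B L)) := by
    rw [← Category.assoc, g.toNormalization_normalizationDesc]
    exact pullback.lift_snd _ _ _
  haveI : IsFinite π := hfin
  haveI : IsProper (p ≫ sB) := hp' ▸ inferInstance
  haveI : IsProper p := IsProper.of_comp p sB
  haveI : IsNoetherianRing B := IsNoetherianRing.of_finite A B
  haveI : IsLocallyNoetherian g.normalization := LocallyOfFiniteType.isLocallyNoetherian p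
  haveI : Subsingleton (Spec (CommRingCat.of L)) := inferInstanceAs (Subsingleton (PrimeSpectrum L))
  let z : Spec (CommRingCat.of L) := IsLocalRing.closedPoint L
  have htz : t z = genericPoint g.normalization := by
    refine IsGenericPoint.eq ?_ (genericPoint_spec _)
    show closure {t z} = _
    have : Set.range t = {t z} :=
      Set.eq_singleton_iff_unique_mem.2 ⟨⟨z, rfl⟩, fun _ ⟨w, hw⟩ => hw ▸ congrArg _ (Subsingleton.elim w z)⟩
    haveI hdom : IsDominant t := inferInstanceAs (IsDominant g.toNormalization)
    rw [← ‹Set.range t = {t z}›, t.denseRange.closure_range]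
  have hpη : p (genericPoint g.normalization) = genericPoint (Spec (CommRingCat.of B)) := by
    rw [← htz, ← Scheme.Hom.comp_apply, htp, genericPoint_eq_bot_of_affine]
    refine PrimeSpectrum.ext ?_
    show Ideal.comap (algebraMap B L) z.asIdeal = ⊥
    have hz0 : z.asIdeal = ⊥ := (Ideal.eq_bot_or_top _).resolve_right z.2.ne_top
    rw [hz0, ← RingHom.ker_eq_comap_bot, ← RingHom.injective_iff_ker_eq_bot]
    exact IsFractionRing.injective B L
  have hbij : Function.Bijective (p.stalkMap (genericPoint g.normalization)).hom := by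
    rw [← htz]
    have hcomp : Function.Bijective ((t ≫ p).stalkMap z).hom := by
      have : ∀ m : Spec (CommRingCat.of L) ⟶ Spec (CommRingCat.of B),
          m = Spec.map (CommRingCat.ofHom (algebraMap B L)) → Function.Bijective (m.stalkMap z).hom := by
        rintro _ rfl
        haveI : IsPreimmersion (Spec.map (CommRingCat.ofHom (algebraMap B L))) :=
          IsPreimmersion.of_isLocalization (nonZeroDivisors B)
        haveI : Flat (Spec.map (CommRingCat.ofHom (algebraMap B L))) := by
          rw [HasRingHomProperty.Spec_iff (P := @Flat)]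
          exact RingHom.flat_algebraMap_iff.2 (IsLocalization.flat L (nonZeroDivisors B))
        exact PtBlowLib.bijective_stalkMap_of_flat_preimmersion _ z
      exact this _ htp
    have hF : IsField (g.normalization.presheaf.stalk (t z)) := by
      rw [htz]; exact Field.toIsField g.normalization.functionField
    letI := hF.toField
    rw [Scheme.Hom.stalkMap_comp, CommRingCat.hom_comp, RingHom.coe_comp] at hcomp
    have h2 : Function.Injective (t.stalkMap z).hom := RingHom.injective _
    exact ⟨hcomp.1.of_comp, fun w => (hcomp.2 ((t.stalkMap z).hom w)).imp fun b hb => h2 hb⟩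
  have hnB : Pi1.IsNormalScheme (Spec (CommRingCat.of B)) := ParaFLib.isNormal_spec B
  obtain ⟨V, hV, -, h2⟩ := Groth.Agent.S11555.result p hnB hpη hbij
  have hMod : Mod p := ⟨inferInstance, V, ⟨genericPoint _, by
    by_contra hη
    have h := h2 _ hη
    have h0 : ringKrullDim (Spec (CommRingCat.of B)).functionField = 0 :=
      ringKrullDim_eq_zero_of_isField (Field.toIsField (Spec (CommRingCat.of B)).functionField)
    exact absurd (h.trans h0.le) (by norm_num)⟩, hV⟩
  haveI : IsNoetherian (Spec (CommRingCat.of B)) := inferInstance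
  have hvan := van_of_rational hMod hnY' (fun x hx => by
    haveI : x.asIdeal.IsMaximal := (PrimeSpectrum.isClosed_singleton_iff_isMaximal x).1 hx
    exact rational_of_ringEquiv (StructureSheaf.stalkIso B x).toRingEquiv (hB x.asIdeal))
  exact h1z_iso g.normalization.topIso.symm (hvan ⊤ (isAffineOpen_top _))

end RatModLib

end
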