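import Mathlib
import Groth.Agent.RatModLib.RatDescent
import Groth.Agent.S2654
import Groth.Agent.NagataFG.Main

/-! The global form of the descent. -/

set_option autoImplicit false
set_option linter.style.haveILetI false
set_option maxHeartbeats 1000000
universe u

noncomputable section

namespace RatModLib

theorem rational_descent_global (A B : Type u) [CommRing A] [CommRing B]
    [IsDomain A] [IsDomain B] [IsNoetherianRing A] [IsNoetherianRing B] [IsIntegrallyClosed A] [IsIntegrallyClosed B]
    (hAe : EGA4.IsExcellent A) (hB2 : ringKrullDim B = 2)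
    [Algebra A B] [Module.Finite A B] (hinj : Function.Injective (algebraMap A B))
    (K L : Type u) [Field K] [Field L] [Algebra A K] [IsFractionRing A K] [Algebra B L] [IsFractionRing B L]
    [Algebra K L] [Algebra A L] [IsScalarTower A K L] [IsScalarTower A B L]
    (hdeg : IsUnit ((Module.finrank K L : ℕ) : A))
    (hB : ∀ (n : Ideal B) [n.IsMaximal], ringKrullDim (Localization.AtPrime n) = 2 →
      Curv2.IsRationalSing (Localization.AtPrime n))
    (m : Ideal A) [m.IsMaximal] (hm : ringKrullDim (Localization.AtPrime m) = 2) :
    Curv2.IsRationalSing (Localization.AtPrime m) := by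
  classical
  let A' := Localization.AtPrime m
  let M := Algebra.algebraMapSubmonoid B m.primeCompl
  let B' := Localization M
  have hM : M ≤ nonZeroDivisors B := by
    rintro _ ⟨a, ha, rfl⟩
    exact mem_nonZeroDivisors_of_ne_zero ((map_ne_zero_iff _ hinj).2 fun h => ha (h ▸ m.zero_mem))
  have hmle : m.primeCompl ≤ nonZeroDivisors A := m.primeCompl_le_nonZeroDivisors
  haveI : IsDomain B' := IsLocalization.isDomain_localization hM
  haveI : IsDomain A' := IsLocalization.isDomain_localization hmle
  haveI : IsIntegrallyClosed B' := isIntegrallyClosed_of_isLocalization _ M hM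
  haveI : IsIntegrallyClosed A' := isIntegrallyClosed_of_isLocalization _ m.primeCompl hmle
  haveI : Module.Finite A' B' := Module.Finite.of_isLocalization A B m.primeCompl
  have hinj' : Function.Injective (algebraMap A' B') := (injective_iff_map_eq_zero _).2 fun x hx => by
    obtain ⟨⟨a, s⟩, ha⟩ := IsLocalization.surj m.primeCompl x
    have h := congrArg (algebraMap A' B') ha
    rw [map_mul, hx, zero_mul, ← IsScalarTower.algebraMap_apply, IsScalarTower.algebraMap_apply A B B'] at h
    have : a = 0 := hinj ((IsLocalization.injective B' hM (h.symm.trans (map_zero _).symm)).trans (map_zero _).symm)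
    rw [this, map_zero] at ha
    exact (IsLocalization.map_units A' s).mul_left_eq_zero.1 ha
  have huK : ∀ y : m.primeCompl, IsUnit (algebraMap A K y) := fun y =>
    isUnit_iff_ne_zero.2 ((map_ne_zero_iff _ (IsFractionRing.injective A K)).2 fun h => y.2 (h ▸ m.zero_mem))
  have huL : ∀ y : M, IsUnit (algebraMap B L y) := fun y =>
    isUnit_iff_ne_zero.2 ((map_ne_zero_iff _ (IsFractionRing.injective B L)).2 (nonZeroDivisors.ne_zero (hM y.2)))
  letI : Algebra A' K := (IsLocalization.lift (M := m.primeCompl) huK).toAlgebra
  haveI : IsScalarTower A A' K := .of_algebraMap_eq fun a => (IsLocalization.lift_eq huK a).symm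
  haveI : IsFractionRing A' K := IsFractionRing.isFractionRing_of_isDomain_of_isLocalization m.primeCompl A' K
  letI : Algebra B' L := (IsLocalization.lift (M := M) huL).toAlgebra
  haveI : IsScalarTower B B' L := .of_algebraMap_eq fun a => (IsLocalization.lift_eq huL a).symm
  haveI : IsFractionRing B' L := IsFractionRing.isFractionRing_of_isDomain_of_isLocalization M B' L
  letI : Algebra A' L := ((algebraMap K L).comp (algebraMap A' K)).toAlgebra
  haveI : IsScalarTower A' K L := .of_algebraMap_eq fun _ => rfl
  haveI : IsScalarTower A' B' L := .of_algebraMap_eq' <| IsLocalization.ringHom_ext m.primeCompl <| RingHom.ext fun a => by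
    simp only [RingHom.comp_apply]
    rw [← IsScalarTower.algebraMap_apply A A' B', IsScalarTower.algebraMap_apply A B B',
      ← IsScalarTower.algebraMap_apply B B' L, ← IsScalarTower.algebraMap_apply A B L]
    show algebraMap K L (algebraMap A' K (algebraMap A A' a)) = _
    rw [← IsScalarTower.algebraMap_apply A A' K, ← IsScalarTower.algebraMap_apply A K L]
  have hNA : CAlg.IsNagata A' := NagataFG.isNagata_of_isLocalization m.primeCompl A'
    (Groth.Agent.S2654.result A ⟨hAe.1, hAe.2.2⟩)
  refine rational_descent A' B' hNA hinj' K L ?_ fun n' _ => ?_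
  · rw [← map_natCast (algebraMap A A')]
    exact hdeg.map _
  let n : Ideal B := n'.comap (algebraMap B B')
  haveI : (n'.comap (algebraMap A' B')).IsMaximal := Ideal.isMaximal_comap_of_isIntegral_of_isMaximal n'
  have hnm : n.comap (algebraMap A B) = m := by
    rw [Ideal.comap_comap, ← IsScalarTower.algebraMap_eq, IsScalarTower.algebraMap_eq A A' B', ← Ideal.comap_comap,
      IsLocalRing.eq_maximalIdeal ‹(n'.comap (algebraMap A' B')).IsMaximal›]
    exact IsLocalization.AtPrime.comap_maximalIdeal A' m
  haveI : n.IsMaximal := Ideal.isMaximal_of_isIntegral_of_isMaximal_comap n (hnm ▸ ‹m.IsMaximal›)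
  haveI : n.LiesOver m := ⟨hnm.symm⟩
  haveI : FaithfulSMul A B := (faithfulSMul_iff_algebraMap_injective A B).2 hinj
  have hn2 : ringKrullDim (Localization.AtPrime n) = 2 := by
    rw [IsLocalization.AtPrime.ringKrullDim_eq_height n]
    rw [IsLocalization.AtPrime.ringKrullDim_eq_height m] at hm
    refine le_antisymm ?_ (hm ▸ ?_)
    · exact hB2 ▸ Ideal.height_le_ringKrullDim_of_ne_top (‹n.IsMaximal›.ne_top)
    · rw [Ideal.height_eq_height_add_of_liesOver_of_hasGoingDown m n]
      exact_mod_cast le_self_add
  exact rational_of_ringEquiv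
    (IsLocalization.localizationLocalizationAtPrimeIsoLocalization M n').toRingEquiv (hB n hn2)

end RatModLib

end
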