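import Mathlib
import Groth.Agent.RatModLib.Normal
import Groth.Agent.BlowUpLib.Chart
import Groth.Agent.NormalLib.Transfer
import Groth.Agent.S0566

/-! A birational local algebra essentially of finite type as a local ring of an affine blow-up chart. -/

set_option autoImplicit false
set_option linter.style.haveILetI false
set_option maxHeartbeats 1000000
universe u

noncomputable section

namespace RatModLib

theorem exists_model (A B : Type u) [CommRing A] [CommRing B] [IsDomain A] [IsDomain B] [IsLocalRing B]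
    (hN : CAlg.IsNagata A) [Algebra A B] (hinj : Function.Injective (algebraMap A B)) [Algebra.EssFiniteType A B]
    [IsIntegrallyClosed B] (hfrac : ∀ b : B, ∃ a a' : A, a' ≠ 0 ∧ algebraMap A B a' * b = algebraMap A B a) :
    ∃ (I : Ideal A) (d : A) (_ : d ∈ I) (_ : d ≠ 0), IsIntegrallyClosed (BlowUp.affineAlgebra A I d) ∧
      ∃ (p : PrimeSpectrum (BlowUp.affineAlgebra A I d)), Nonempty (Localization.AtPrime p.asIdeal ≃+* B) := by
  classical
  haveI : IsNoetherianRing A := hN.1
  let S := Algebra.EssFiniteType.subalgebra A B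
  haveI hloc : IsLocalization (Algebra.EssFiniteType.submonoid A B) B := inferInstance
  haveI : IsNoetherianRing S := Algebra.FiniteType.isNoetherianRing A S
  have hSN : CAlg.IsNagata S := Groth.Agent.S0566.result A hN S
  have hS2 : CAlg.IsN2 S := NormalLib.isN2_of_ringEquiv (RingEquiv.quotientBot S) (hSN.2 ⊥)
  let L := FractionRing S
  have hsL : ∀ y : Algebra.EssFiniteType.submonoid A B, IsUnit (algebraMap S L y) := fun y =>
    isUnit_iff_ne_zero.2 fun h => by
      have hy : IsUnit ((algebraMap S B) y) := y.2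
      exact hy.ne_zero (by rw [(map_eq_zero_iff _ (IsFractionRing.injective S L)).1 h, map_zero])
  let j : B →ₐ[S] L :=
    { IsLocalization.lift (M := Algebra.EssFiniteType.submonoid A B) hsL with
      commutes' := fun s => IsLocalization.lift_eq _ s }
  have hj : Function.Injective j := fun x y hxy => by
    obtain ⟨⟨a, s⟩, ha⟩ := IsLocalization.surj (Algebra.EssFiniteType.submonoid A B) x
    obtain ⟨⟨b, t⟩, hb⟩ := IsLocalization.surj (Algebra.EssFiniteType.submonoid A B) y
    have e1 : algebraMap S L (a * t.1) = algebraMap S L (b * s.1) := by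
      rw [map_mul, map_mul, ← j.commutes a, ← ha, ← j.commutes b, ← hb, map_mul, map_mul, j.commutes, j.commutes, hxy]
      ring
    have e2 := congrArg (algebraMap S B) (IsFractionRing.injective S L e1)
    rw [map_mul, map_mul, ← ha, ← hb] at e2
    have hu : IsUnit (algebraMap S B s.1 * algebraMap S B t.1) := IsUnit.mul s.2 t.2
    refine hu.mul_right_cancel ?_
    linear_combination e2
  haveI : Module.Finite S (integralClosure S L) := @hS2 L _ _ _ _ inferInstance
  let C₀ := integralClosure S B
  haveI : Module.Finite S C₀ := by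
    let ι : C₀ →ₗ[S] integralClosure S L :=
      (j.toLinearMap.comp C₀.val.toLinearMap).codRestrict (integralClosure S L).toSubmodule fun c => c.2.map j
    exact Module.Finite.of_injective ι fun a b h => Subtype.ext (hj (congrArg Subtype.val h))
  haveI : Algebra.FiniteType A C₀ := Algebra.FiniteType.trans (inferInstance : Algebra.FiniteType A S) (Module.Finite.finiteType C₀)
  obtain ⟨σ, hσ⟩ := ‹Algebra.FiniteType A C₀›
  choose γ δ hδ hγ using fun c : C₀ => hfrac (c : B)
  let d : A := ∏ c ∈ σ, δ c
  have hd0 : d ≠ 0 := Finset.prod_ne_zero_iff.2 fun c _ => hδ c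
  have hdiv : ∀ c ∈ σ, ∃ g : A, algebraMap A B d * (c : B) = algebraMap A B g := fun c hc =>
    ⟨(∏ c' ∈ σ.erase c, δ c') * γ c, by
      rw [show d = δ c * ∏ c' ∈ σ.erase c, δ c' from (Finset.mul_prod_erase σ δ hc).symm, map_mul, map_mul, ← hγ c]
      ring⟩
  choose g hg using hdiv
  let I : Ideal A := Ideal.span (insert d (Set.range fun c : σ => g c.1 c.2))
  have hdI : d ∈ I := Ideal.subset_span (Set.mem_insert _ _)
  let φ := algebraMap A B
  have hφd : φ d ∈ nonZeroDivisors B := mem_nonZeroDivisors_of_ne_zero ((map_ne_zero_iff φ hinj).2 hd0)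
  have hspan : I.map φ = Ideal.span {φ d} := by
    refine le_antisymm ?_ ((Ideal.span_singleton_le_iff_mem _).2 (Ideal.mem_map_of_mem φ hdI))
    rw [Ideal.map_span, Ideal.span_le]
    rintro _ ⟨x, rfl | ⟨c, rfl⟩, rfl⟩
    · exact Ideal.mem_span_singleton_self _
    · exact Ideal.mem_span_singleton'.2 ⟨(c.1 : B), by rw [mul_comm]; exact hg c.1 c.2⟩
  obtain ⟨ψ, hψ, -⟩ := (BlowUpLib.isChart_affineAlgebra hdI).lift B φ hφd hspan
  have hψA : ∀ a, ψ (algebraMap A _ a) = φ a := fun a => RingHom.congr_fun hψ a
  have hψinj : Function.Injective ψ := (injective_iff_map_eq_zero ψ).2 fun q hq => by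
    obtain ⟨N, hN'⟩ := exists_frac I hdI q.2
    obtain ⟨a, -, ha⟩ := hN' N le_rfl
    have e : q * algebraMap A (BlowUp.affineAlgebra A I d) d ^ N = algebraMap A _ a := Subtype.ext ha
    have e' := congrArg ψ e
    rw [map_mul, hq, zero_mul, hψA] at e'
    have ha0 : a = 0 := hinj (e'.symm.trans (map_zero φ).symm)
    rw [ha0, map_zero] at e
    have : IsDomain (Localization.Away d) :=
      IsLocalization.isDomain_localization (powers_le_nonZeroDivisors_of_noZeroDivisors hd0)
    rcases mul_eq_zero.1 (congrArg Subtype.val e) with h | h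
    · exact Subtype.ext h
    · exact absurd h ((IsLocalization.Away.algebraMap_isUnit (S := Localization.Away d) d).pow N).ne_zero
  have hrange : ψ.range = C₀.toSubring := by
    refine le_antisymm ?_ ?_
    · rintro _ ⟨⟨q, hq⟩, rfl⟩
      induction hq using Algebra.adjoin_induction with
      | mem x hx =>
        obtain ⟨y, hy, rfl⟩ := hx
        let e : BlowUp.affineAlgebra A I d := ⟨_, Algebra.subset_adjoin ⟨y, hy, rfl⟩⟩
        show ψ e ∈ C₀
        have he : algebraMap A _ d * e = algebraMap A (BlowUp.affineAlgebra A I d) y :=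
          Subtype.ext (IsLocalization.mk'_spec' (Localization.Away d) y (⟨d, Submonoid.mem_powers d⟩ : Submonoid.powers d))
        have he' := congrArg ψ he
        rw [map_mul, hψA, hψA] at he'
        suffices h : ∀ z ∈ I, ∃ w ∈ C₀, φ d * w = φ z by
          obtain ⟨w, hw, hwz⟩ := h y hy
          rwa [mul_left_cancel₀ (nonZeroDivisors.ne_zero hφd) (he'.trans hwz.symm)]
        intro z hz
        induction hz using Submodule.span_induction with
        | mem z hz =>
          rcases hz with rfl | ⟨c, rfl⟩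
          · exact ⟨1, one_mem _, mul_one _⟩
          · exact ⟨c.1, c.1.2, hg c.1 c.2⟩
        | zero => exact ⟨0, zero_mem _, by rw [mul_zero, map_zero]⟩
        | add a b _ _ ha hb =>
          obtain ⟨w, hw, e1⟩ := ha
          obtain ⟨w', hw', e2⟩ := hb
          exact ⟨w + w', add_mem hw hw', by rw [mul_add, e1, e2, map_add]⟩
        | smul r a _ ha =>
          obtain ⟨w, hw, e1⟩ := ha
          refine ⟨φ r * w, mul_mem ?_ hw, by rw [smul_eq_mul, map_mul, ← e1]; ring⟩
          exact C₀.algebraMap_mem (algebraMap A S r)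
      | algebraMap r =>
        rw [show (⟨algebraMap A (Localization.Away d) r, _⟩ : BlowUp.affineAlgebra A I d) =
          algebraMap A (BlowUp.affineAlgebra A I d) r from rfl, hψA]
        exact C₀.algebraMap_mem (algebraMap A S r)
      | add x y hx hy ihx ihy =>
        show ψ (⟨x, hx⟩ + ⟨y, hy⟩) ∈ C₀
        rw [map_add]; exact add_mem ihx ihy
      | mul x y hx hy ihx ihy =>
        show ψ (⟨x, hx⟩ * ⟨y, hy⟩) ∈ C₀
        rw [map_mul]; exact mul_mem ihx ihy
    · intro c hc
      have hmem : (⟨c, hc⟩ : C₀) ∈ Algebra.adjoin A (σ : Set C₀) := hσ ▸ Algebra.mem_top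
      suffices h : ∀ z : C₀, z ∈ Algebra.adjoin A (σ : Set C₀) → (z : B) ∈ ψ.range from h _ hmem
      intro z hz
      induction hz using Algebra.adjoin_induction with
      | mem z hz =>
        refine ⟨⟨_, Algebra.subset_adjoin ⟨g z hz, Ideal.subset_span (Set.mem_insert_of_mem _ ⟨⟨z, hz⟩, rfl⟩), rfl⟩⟩, ?_⟩
        let e : BlowUp.affineAlgebra A I d := ⟨_, Algebra.subset_adjoin ⟨g z hz,
          Ideal.subset_span (Set.mem_insert_of_mem _ ⟨⟨z, hz⟩, rfl⟩), rfl⟩⟩
        have he : algebraMap A _ d * e = algebraMap A (BlowUp.affineAlgebra A I d) (g z hz) :=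
          Subtype.ext (IsLocalization.mk'_spec' (Localization.Away d) (g z hz)
            (⟨d, Submonoid.mem_powers d⟩ : Submonoid.powers d))
        have he' := congrArg ψ he
        rw [map_mul, hψA, hψA] at he'
        exact mul_left_cancel₀ (nonZeroDivisors.ne_zero hφd) (he'.trans (hg z hz).symm)
      | algebraMap r => exact ⟨algebraMap A _ r, hψA r⟩
      | add x y _ _ ihx ihy => exact add_mem ihx ihy
      | mul x y _ _ ihx ihy => exact mul_mem ihx ihy
  let e : BlowUp.affineAlgebra A I d ≃+* C₀ :=
    (RingEquiv.ofBijective ψ.rangeRestrict ⟨fun a b h => hψinj (congrArg Subtype.val h), RingHom.rangeRestrict_surjective _⟩).trans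
      (RingEquiv.subringCongr hrange)
  haveI : IsIntegrallyClosed C₀ := IsIntegrallyClosed.of_isIntegrallyClosed_of_isIntegrallyClosedIn C₀ B
  let P : Ideal C₀ := (IsLocalRing.maximalIdeal B).comap C₀.val.toRingHom
  let p : PrimeSpectrum (BlowUp.affineAlgebra A I d) := ⟨P.comap e.toRingHom, inferInstance⟩
  letI : Algebra (BlowUp.affineAlgebra A I d) B := ψ.toAlgebra
  haveI : IsLocalization.AtPrime B p.asIdeal := by
    refine ⟨⟨?_, ?_, ?_⟩⟩
    · rintro ⟨q, hq⟩
      exact IsLocalRing.notMem_maximalIdeal.1 fun h => hq h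
    · intro b
      obtain ⟨⟨a, s⟩, ha⟩ := IsLocalization.surj (Algebra.EssFiniteType.submonoid A B) b
      obtain ⟨qa, hqa⟩ : (algebraMap S B a) ∈ ψ.range := by rw [hrange]; exact C₀.algebraMap_mem a
      obtain ⟨qs, hqs⟩ : (algebraMap S B s.1) ∈ ψ.range := by rw [hrange]; exact C₀.algebraMap_mem s.1
      refine ⟨⟨qa, ⟨qs, fun h => ?_⟩⟩, ?_⟩
      · have hu : IsUnit (algebraMap S B s.1) := s.2
        exact (show ψ qs ∈ IsLocalRing.maximalIdeal B from h) (hqs ▸ hu)
      · show b * ψ qs = ψ qa
        rw [hqa, hqs]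
        exact ha
    · intro x y h
      exact ⟨1, by rw [hψinj (show ψ x = ψ y from h)]⟩
  refine ⟨I, d, hdI, hd0, IsIntegrallyClosed.of_equiv e.symm, p, ⟨?_⟩⟩
  exact (IsLocalization.algEquiv p.asIdeal.primeCompl (Localization.AtPrime p.asIdeal) B).toRingEquiv

end RatModLib

end
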