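import Mathlib

/-! The maximal ideal of a regular surface point becomes principal on a factorial modification. -/

set_option autoImplicit false
set_option linter.style.haveILetI false
set_option maxHeartbeats 1000000
universe u

open IsLocalRing Polynomial

namespace RatModLib

theorem coeff_mem_of_aeval_eq_zero {R : Type u} [CommRing R] [IsDomain R] [DecompositionMonoid R] {K : Type u} [Field K] (ι : R →+* K)
    (hι : Function.Injective ι) {p q : R} (hpq : IsRelPrime q p) (P : Ideal R) (hp : p ∈ P) (hq : q ∈ P)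
    (u : K) (hu : ι q * u = ι p) : ∀ (n : ℕ) (c : ℕ → R),
      (∑ k ∈ Finset.range (n + 1), ι (c k) * u ^ k) = 0 → ∀ k ≤ n, c k ∈ P := by
  intro n
  induction n with
  | zero =>
    intro c hc k hk
    obtain rfl : k = 0 := Nat.le_zero.1 hk
    have : c 0 = 0 := hι (by simpa using hc)
    rw [this]; exact P.zero_mem
  | succ n ih =>
    intro c hc
    have h1 : q ∣ c (n + 1) * p ^ (n + 1) := by
      refine ⟨-∑ k ∈ Finset.range (n + 1), c k * p ^ k * q ^ (n - k), hι ?_⟩
      have h := congrArg (fun z => ι q ^ (n + 1) * z) hc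
      simp only [mul_zero, Finset.sum_range_succ _ (n + 1), mul_add, Finset.mul_sum] at h
      rw [map_mul, map_mul, map_pow, map_neg, map_sum, mul_neg, eq_neg_iff_add_eq_zero, Finset.mul_sum, ← h, add_comm]
      refine congrArg₂ (· + ·) (Finset.sum_congr rfl fun k hk => ?_) ?_
      · have hk' : k ≤ n := Nat.le_of_lt_succ (Finset.mem_range.1 hk)
        rw [map_mul, map_mul, map_pow, map_pow, ← hu, mul_pow]
        obtain ⟨j, hj⟩ := Nat.exists_eq_add_of_le hk'
        rw [hj, Nat.add_sub_cancel_left]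
        ring
      · rw [← hu, mul_pow]
        ring
    obtain ⟨e, he⟩ := (hpq.pow_right (n := n + 1)).dvd_of_dvd_mul_right h1
    let c' : ℕ → R := fun k => if k = n then c n + e * p else c k
    have hc' : (∑ k ∈ Finset.range (n + 1), ι (c' k) * u ^ k) = 0 := by
      rw [Finset.sum_range_succ]
      rw [Finset.sum_range_succ, Finset.sum_range_succ] at hc
      have hrest : ∑ k ∈ Finset.range n, ι (c' k) * u ^ k = ∑ k ∈ Finset.range n, ι (c k) * u ^ k :=
        Finset.sum_congr rfl fun k hk => by simp only [c', if_neg (Finset.mem_range.1 hk).ne]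
      rw [hrest]
      refine Eq.trans ?_ hc
      simp only [c', if_pos, he, map_add, map_mul, ← hu]
      ring
    intro k hk
    rcases Nat.lt_or_ge k (n + 1) with h | h
    · have := ih c' hc' k (Nat.le_of_lt_succ h)
      simp only [c'] at this
      split at this
      · subst ‹k = n›
        have h2 := sub_mem this (P.mul_mem_left e hp)
        simpa using h2
      · exact this
    · obtain rfl : k = n + 1 := le_antisymm hk h
      rw [he]
      exact P.mul_mem_right _ hq

theorem exists_principal_map {A R : Type u} [CommRing A] [IsDomain A] [IsLocalRing A] [IsNoetherianRing A]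
    [CommRing R] [IsDomain R] [IsLocalRing R] [UniqueFactorizationMonoid R] (φ : A →+* R)
    (hφ : Function.Injective φ) (hloc : ∀ x ∈ maximalIdeal A, φ x ∈ maximalIdeal R)
    (hfrac : ∀ r : R, ∃ c d : A, d ≠ 0 ∧ r * φ d = φ c)
    (a b : A) (hab : maximalIdeal A = Ideal.span {a, b}) (hb0 : b ≠ 0) (hdim : ringKrullDim R ≤ 2)
    (P₀ : Ideal R) [P₀.IsPrime] (hP₀ : P₀ ≠ maximalIdeal R) (hP₀b : φ b ∈ P₀) (hP₀a : φ a ∈ P₀) :
    ∃ g : R, g ≠ 0 ∧ (maximalIdeal A).map φ = Ideal.span {g} := by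
  classical
  have hφb : φ b ≠ 0 := (map_ne_zero_iff φ hφ).2 hb0
  obtain ⟨b', a', g, hrel, hb', ha'⟩ := UniqueFactorizationMonoid.exists_reduced_factors (φ b) hφb (φ a)
  have hg0 : g ≠ 0 := fun h => hφb (by rw [← hb', h, zero_mul])
  have hbne : b' ≠ 0 := fun h => hφb (by rw [← hb', h, mul_zero])
  have hgP : g ∈ P₀ := by
    by_contra hg
    have h1 : b' ∈ P₀ := (Ideal.IsPrime.mem_or_mem inferInstance (hb' ▸ hP₀b)).resolve_left hg
    have h2 : a' ∈ P₀ := (Ideal.IsPrime.mem_or_mem inferInstance (ha' ▸ hP₀a)).resolve_left hg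
    obtain ⟨p, hpP, hp⟩ := Ideal.IsPrime.exists_mem_prime_of_ne_bot (‹P₀.IsPrime›)
      (fun h => hbne (Ideal.mem_bot.1 (h ▸ h1)))
    haveI : (Ideal.span {p}).IsPrime := (Ideal.span_singleton_prime hp.ne_zero).2 hp
    have hle : Ideal.span {p} ≤ P₀ := (Ideal.span_singleton_le_iff_mem _).2 hpP
    rcases hle.eq_or_lt with he | hlt
    · rw [← he, Ideal.mem_span_singleton] at h1 h2
      exact hp.not_unit (hrel h1 h2)
    · let x0 : PrimeSpectrum R := ⟨⊥, Ideal.isPrime_bot⟩
      let x1 : PrimeSpectrum R := ⟨Ideal.span {p}, inferInstance⟩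
      let x2 : PrimeSpectrum R := ⟨P₀, inferInstance⟩
      let x3 : PrimeSpectrum R := closedPoint R
      have l01 : x0 < x1 := lt_of_le_of_ne (show (⊥ : Ideal R) ≤ Ideal.span {p} from bot_le) (fun h => hp.ne_zero (Ideal.span_singleton_eq_bot.1 (congrArg PrimeSpectrum.asIdeal h).symm))
      have l12 : x1 < x2 := hlt
      have l23 : x2 < x3 := lt_of_le_of_ne (le_maximalIdeal (Ideal.IsPrime.ne_top ‹_›))
        fun h => hP₀ (congrArg PrimeSpectrum.asIdeal h)
      let l : LTSeries (PrimeSpectrum R) :=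
        (((RelSeries.singleton _ x0).snoc x1 l01).snoc x2 (by rw [RelSeries.last_snoc]; exact l12)).snoc x3
          (by rw [RelSeries.last_snoc]; exact l23)
      have h3 : ((3 : ℕ) : WithBot ℕ∞) ≤ ringKrullDim R := Order.LTSeries.length_le_krullDim l
      exact absurd (h3.trans hdim) (by decide)
  have hgm : g ∈ maximalIdeal R := le_maximalIdeal (Ideal.IsPrime.ne_top ‹_›) hgP
  have hmap : (maximalIdeal A).map φ = Ideal.span {g * a', g * b'} := by
    rw [hab, Ideal.map_span, Set.image_pair, ha', hb']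
  refine ⟨g, hg0, ?_⟩
  rw [hmap]
  refine le_antisymm (Ideal.span_le.2 ?_) ((Ideal.span_singleton_le_iff_mem _).2 ?_)
  · rintro z (rfl | rfl)
    · exact Ideal.mem_span_singleton.2 (dvd_mul_right _ _)
    · exact Ideal.mem_span_singleton.2 (dvd_mul_right _ _)
  by_cases hau : IsUnit a'
  · have : g * a' ∈ Ideal.span {g * a', g * b'} := Ideal.subset_span (Set.mem_insert _ _)
    exact (Ideal.mul_unit_mem_iff_mem _ hau).1 this
  by_cases hbu : IsUnit b'
  · have : g * b' ∈ Ideal.span {g * a', g * b'} := Ideal.subset_span (Set.mem_insert_of_mem _ rfl)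
    exact (Ideal.mul_unit_mem_iff_mem _ hbu).1 this
  exfalso
  let K := FractionRing R
  let ι := algebraMap R K
  have hι : Function.Injective ι := IsFractionRing.injective R K
  have hιb : ι b' ≠ 0 := (map_ne_zero_iff ι hι).2 hbne
  let u : K := ι a' / ι b'
  have hu : ι b' * u = ι a' := mul_div_cancel₀ _ hιb
  have hau' : ι (φ a) = ι (φ b) * u := by rw [← ha', ← hb', map_mul, map_mul, mul_assoc, hu]
  -- values of polynomials with coefficients in the maximal ideal
  let S : Subring K := Subring.closure (Set.range ι ∪ {u})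
  let Q : Set K := {z | ∃ (n : ℕ) (c : ℕ → R), (∀ k, c k ∈ maximalIdeal R) ∧ z = ∑ k ∈ Finset.range (n + 1), ι (c k) * u ^ k}
  have hkey : ∀ (n : ℕ) (c : ℕ → R), (∑ k ∈ Finset.range (n + 1), ι (c k) * u ^ k) ∈ Q →
      ∀ k ≤ n, c k ∈ maximalIdeal R := by
    rintro n c ⟨m, d, hd, he⟩ k hk
    let C : ℕ → R := fun k => (if k ≤ n then c k else 0) - (if k ≤ m then d k else 0)
    have hsum : ∀ (N n : ℕ) (c : ℕ → R), n ≤ N →
        ∑ k ∈ Finset.range (N + 1), ι (if k ≤ n then c k else 0) * u ^ k = ∑ k ∈ Finset.range (n + 1), ι (c k) * u ^ k := by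
      intro N n c hN
      rw [← Finset.sum_subset (Finset.range_subset_range.2 (Nat.succ_le_succ hN)) fun x _ hx => by
        rw [if_neg (fun h => hx (Finset.mem_range.2 (Nat.lt_succ_of_le h))), map_zero, zero_mul]]
      exact Finset.sum_congr rfl fun x hx => by rw [if_pos (Nat.le_of_lt_succ (Finset.mem_range.1 hx))]
    have h0 : ∑ k ∈ Finset.range (max n m + 1), ι (C k) * u ^ k = 0 := by
      simp only [C, map_sub, sub_mul, Finset.sum_sub_distrib]
      rw [hsum _ n c (le_max_left _ _), hsum _ m d (le_max_right _ _), he, sub_self]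
    have := coeff_mem_of_aeval_eq_zero ι hι hrel (maximalIdeal R) hau hbu u hu _ C h0 k (hk.trans (le_max_left _ _))
    simp only [C, if_pos hk] at this
    have hd' : (if k ≤ m then d k else 0) ∈ maximalIdeal R := by split <;> simp [hd]
    simpa using add_mem this hd'
  -- the order decomposition of an element of the base
  have hpow : ∀ i, maximalIdeal A ^ i ≤ Ideal.span (Set.range fun k : Fin (i + 1) => a ^ (k : ℕ) * b ^ (i - (k : ℕ))) := by
    intro i
    induction i with
    | zero => rw [pow_zero, Ideal.one_eq_top]; refine top_le_iff.2 ((Ideal.eq_top_iff_one _).2 ?_); exact Ideal.subset_span ⟨0, by simp⟩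
    | succ i ih =>
      rw [pow_succ]
      refine (Ideal.mul_mono ih le_rfl).trans ?_
      rw [hab, Ideal.span_mul_span', Ideal.span_le]
      rintro _ ⟨_, ⟨k, rfl⟩, z, hz, rfl⟩
      rcases hz with rfl | rfl
      · refine Ideal.subset_span ⟨k.succ, ?_⟩
        simp only [Fin.val_succ, Nat.add_sub_add_right]
        ring
      · refine Ideal.subset_span ⟨k.castSucc, ?_⟩
        simp only [Fin.val_castSucc]
        rw [Nat.succ_sub (Nat.le_of_lt_succ k.2)]
        simp only [Nat.succ_eq_add_one]; ring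
  have hdec : ∀ c : A, c ≠ 0 → ∃ (i : ℕ) (n : ℕ) (r : ℕ → R), ι (φ c) = ι (φ b) ^ i * ∑ k ∈ Finset.range (n + 1), ι (r k) * u ^ k ∧
      ∃ k ≤ n, r k ∉ maximalIdeal R := by
    intro c hc
    have hne : ∃ j, c ∉ maximalIdeal A ^ j := by
      by_contra h
      push Not at h
      have h1 : c ∈ ⨅ j, maximalIdeal A ^ j := Ideal.mem_iInf.2 h
      rw [Ideal.iInf_pow_eq_bot_of_isLocalRing _ (maximalIdeal.isMaximal A).ne_top] at h1
      exact hc h1
    obtain ⟨i, hi⟩ : ∃ i, Nat.find hne = i + 1 := ⟨Nat.find hne - 1, by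
      have : Nat.find hne ≠ 0 := fun h => (Nat.find_spec hne) (by rw [h, pow_zero, Ideal.one_eq_top]; trivial)
      omega⟩
    have hci : c ∈ maximalIdeal A ^ i := not_not.1 (Nat.find_min hne (by omega))
    obtain ⟨r, hr⟩ := (Ideal.mem_span_range_iff_exists_fun (R := A)).1 (hpow i hci)
    refine ⟨i, i, fun k => if h : k < i + 1 then φ (r ⟨k, h⟩) else 0, ?_, ?_⟩
    · rw [← hr, map_sum, map_sum, Finset.mul_sum, Finset.sum_range]
      refine Finset.sum_congr rfl fun k _ => ?_
      simp only [dif_pos k.2, map_mul, map_pow, hau']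
      obtain ⟨j, hj⟩ := Nat.exists_eq_add_of_le (Nat.le_of_lt_succ k.2)
      rw [show i - (k : ℕ) = j from by omega, show ι (φ b) ^ i = ι (φ b) ^ (k : ℕ) * ι (φ b) ^ j from by rw [← pow_add, ← hj]]
      ring
    · by_contra hall
      push Not at hall
      refine (hi ▸ Nat.find_spec hne) ?_
      rw [← hr]
      refine Submodule.sum_mem _ fun k _ => ?_
      have hk := hall k.1 (Nat.le_of_lt_succ k.2)
      rw [dif_pos k.2] at hk
      have hrk : r k ∈ maximalIdeal A := by
        by_contra hu'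
        exact hk ((not_not.1 hu' : IsUnit (r k)).map φ)
      rw [pow_succ']
      refine Ideal.mul_mem_mul hrk ?_
      have ha : a ∈ maximalIdeal A := hab ▸ Ideal.subset_span (Set.mem_insert _ _)
      have hbm : b ∈ maximalIdeal A := hab ▸ Ideal.subset_span (Set.mem_insert_of_mem _ rfl)
      have := Ideal.mul_mem_mul (Ideal.pow_mem_pow ha (k : ℕ)) (Ideal.pow_mem_pow hbm (i - (k : ℕ)))
      rwa [← pow_add, Nat.add_sub_cancel' (Nat.le_of_lt_succ k.2)] at this
  have hQmul : ∀ x ∈ maximalIdeal R, ∀ (n : ℕ) (c : ℕ → R) (j : ℕ),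
      ι x * ι (φ b) ^ j * ∑ k ∈ Finset.range (n + 1), ι (c k) * u ^ k ∈ Q := fun x hx n c j =>
    ⟨n, fun k => x * φ b ^ j * c k, fun k => Ideal.mul_mem_right _ _ (Ideal.mul_mem_right _ _ hx), by
      rw [Finset.mul_sum]
      exact Finset.sum_congr rfl fun k _ => by rw [map_mul, map_mul, map_pow]; ring⟩
  obtain ⟨c, d, hd, hcd⟩ := hfrac g
  have hc : c ≠ 0 := fun h => by
    rw [h, map_zero] at hcd
    exact hg0 ((mul_eq_zero.1 hcd).resolve_right ((map_ne_zero_iff φ hφ).2 hd))
  obtain ⟨i, n, r, hr, k, hk, hrk⟩ := hdec c hc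
  obtain ⟨j, m, s, hs, l, hl, hsl⟩ := hdec d hd
  have hιφb : ι (φ b) ≠ 0 := (map_ne_zero_iff ι hι).2 hφb
  have hmain : ι g * (ι (φ b) ^ j * ∑ k ∈ Finset.range (m + 1), ι (s k) * u ^ k) =
      ι (φ b) ^ i * ∑ k ∈ Finset.range (n + 1), ι (r k) * u ^ k := by
    rw [← hs, ← hr, ← map_mul, hcd]
  rcases le_or_gt i j with hij | hij
  · obtain ⟨e, rfl⟩ := Nat.exists_eq_add_of_le hij
    refine hrk (hkey n r ?_ k hk)
    have : ∑ k ∈ Finset.range (n + 1), ι (r k) * u ^ k = ι g * ι (φ b) ^ e * ∑ k ∈ Finset.range (m + 1), ι (s k) * u ^ k := by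
      refine mul_left_cancel₀ (pow_ne_zero i hιφb) ?_
      rw [← hmain, pow_add]; ring
    rw [this]
    exact hQmul g hgm m s e
  · obtain ⟨e, rfl⟩ := Nat.exists_eq_add_of_lt hij
    refine hsl (hkey m s ?_ l hl)
    have : ∑ k ∈ Finset.range (m + 1), ι (s k) * u ^ k = ι b' * ι (φ b) ^ e * ∑ k ∈ Finset.range (n + 1), ι (r k) * u ^ k := by
      refine mul_left_cancel₀ (mul_ne_zero (pow_ne_zero j hιφb) hιφb) ?_
      calc ι (φ b) ^ j * ι (φ b) * ∑ k ∈ Finset.range (m + 1), ι (s k) * u ^ k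
          = ι b' * (ι g * (ι (φ b) ^ j * ∑ k ∈ Finset.range (m + 1), ι (s k) * u ^ k)) := by
            have e1 : ι (φ b) = ι g * ι b' := by rw [← map_mul, hb']
            rw [e1]; ring
        _ = _ := by rw [hmain]; ring
    rw [this]
    exact hQmul b' hbu n r e

end RatModLib
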