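import Mathlib
import Groth.Agent.RatModLib.PointPrincipal
import Groth.Agent.RatModLib.Regularize
import Groth.Agent.RatModLib.ConormalFibre
import Groth.Agent.RegUFDLib.Basic
import Groth.Agent.EffCartLib.Basic

/-! Proper birational morphisms of regular surfaces factor through point blow-ups. -/

set_option autoImplicit false
set_option linter.style.haveILetI false
set_option maxHeartbeats 2000000
set_option backward.isDefEq.respectTransparency false
set_option backward.isDefEq.respectTransparency.types false
universe u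

open CategoryTheory CategoryTheory.Limits AlgebraicGeometry TopologicalSpace IsLocalRing

noncomputable section

namespace RatModLib

variable {X Y : Scheme.{u}} [IsIntegral X] [IsIntegral Y] {f : X ⟶ Y}

/-- A closed point in a fibre without isolated points is a proper specialization inside the fibre. -/
theorem exists_specializes_fibre [IsProper f] [IsNoetherian Y] (y : Y) (x : X) (hx : IsClosed ({x} : Set X)) (hfx : f x = y)
    (hno : ∀ a : ↥(f.fiber y), ¬ IsOpen ({a} : Set ↥(f.fiber y))) : ∃ w : X, w ⤳ x ∧ w ≠ x ∧ f w = y := by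
  obtain ⟨z, hz⟩ : x ∈ Set.range (f.fiberι y) := by rw [Scheme.Hom.range_fiberι]; exact hfx
  obtain ⟨w, hwz, hne⟩ : ∃ w, w ⤳ z ∧ w ≠ z := by
    by_contra h
    push Not at h
    haveI : NoetherianSpace ↥(f.fiber y) := by
      haveI : IsLocallyNoetherian X := LocallyOfFiniteType.isLocallyNoetherian f
      haveI : CompactSpace X := QuasiCompact.compactSpace_of_compactSpace f
      haveI : IsNoetherian X := {}
      exact (f.fiberι y).isEmbedding.isInducing.noetherianSpace
    apply hno z
    have hzc : IsClosed ({z} : Set ↥(f.fiber y)) := by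
      have := hx.preimage (f.fiberι y).continuous
      rwa [show (f.fiberι y) ⁻¹' {x} = {z} from Set.ext fun w => by
        rw [Set.mem_preimage, Set.mem_singleton_iff, Set.mem_singleton_iff, ← hz]
        exact (f.fiberι y).isEmbedding.injective.eq_iff] at this
    have hC := irreducibleComponent_mem_irreducibleComponents z
    obtain ⟨η, hη⟩ := QuasiSober.sober hC.1 isClosed_irreducibleComponent
    have hηeq : η = z := h η (hη.specializes mem_irreducibleComponent)
    subst hηeq
    have hCz : irreducibleComponent η = {η} := hη.symm.trans hzc.closure_eq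
    obtain ⟨O, hO, hOne, hOC⟩ := NoetherianSpace.exists_isOpen_nonempty_subset_irreducibleComponent _ hC
    have : O = {η} := (Set.subset_singleton_iff_eq.1 (hOC.trans hCz.le)).resolve_left hOne.ne_empty
    exact this ▸ hO
  refine ⟨f.fiberι y w, hz ▸ hwz.map (f.fiberι y).continuous,
    fun h => hne ((f.fiberι y).isEmbedding.injective (h.trans hz.symm)), ?_⟩
  have : f.fiberι y w ∈ Set.range (f.fiberι y) := ⟨w, rfl⟩
  rwa [Scheme.Hom.range_fiberι] at this

/-- **The inverse image of a fundamental point is invertible.** -/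
theorem isEffCartier_comap_regular (hp : Mod f) [IsNoetherian Y] (hY : ∀ y : Y, IsRegularLocalRing (Y.presheaf.stalk y))
    (hX : ∀ x : X, IsRegularLocalRing (X.presheaf.stalk x)) (hdY : topologicalKrullDim Y ≤ 2)
    (y : Y) (hy : IsClosed ({y} : Set Y)) (hd : ringKrullDim (Y.presheaf.stalk y) = 2)
    (hno : ∀ a : ↥(f.fiber y), ¬ IsOpen ({a} : Set ↥(f.fiber y))) :
    BlowUp.IsEffCartierIdeal ((Scheme.IdealSheafData.vanishingIdeal (⟨{y}, hy⟩ : Closeds Y)).comap f) := by
  classical
  haveI := hp.proper
  haveI : IsLocallyNoetherian X := LocallyOfFiniteType.isLocallyNoetherian f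
  haveI : CompactSpace X := QuasiCompact.compactSpace_of_compactSpace f
  haveI : IsNoetherian X := {}
  let 𝓙 := Scheme.IdealSheafData.vanishingIdeal (⟨{y}, hy⟩ : Closeds Y)
  haveI hXd : ∀ x : X, IsDomain (X.presheaf.stalk x) := fun x => by
    haveI := hX x; exact CommAlgDim.isDomain_of_isRegularLocalRing _
  have hcl : ∀ x : X, IsClosed ({x} : Set X) → f x = y →
      ∃ g, g ≠ 0 ∧ IntMult.stalkIdeal (𝓙.comap f) x = Ideal.span {g} := by
    intro x hx hfx
    subst hfx
    haveI := hX x
    haveI := hY (f x)
    haveI := RegUFDLib.uniqueFactorizationMonoid (X.presheaf.stalk x)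
    haveI : IsDomain (Y.presheaf.stalk (f x)) := CommAlgDim.isDomain_of_isRegularLocalRing _
    obtain ⟨a, b, hab, hb0⟩ : ∃ a b : Y.presheaf.stalk (f x),
        maximalIdeal (Y.presheaf.stalk (f x)) = Ideal.span {a, b} ∧ b ≠ 0 := by
      have hs : (maximalIdeal (Y.presheaf.stalk (f x))).spanFinrank = 2 := by
        have h := IsRegularLocalRing.spanFinrank_maximalIdeal (R := Y.presheaf.stalk (f x))
        rw [hd] at h
        exact_mod_cast h
      have hfg : (maximalIdeal (Y.presheaf.stalk (f x))).FG := IsNoetherian.noetherian _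
      have hgen : Ideal.span (Submodule.generators (maximalIdeal (Y.presheaf.stalk (f x)))) = maximalIdeal _ :=
        Submodule.span_generators _
      obtain ⟨a, b, hne, he⟩ := Set.ncard_eq_two.1 ((Submodule.FG.generators_ncard hfg).trans hs)
      rw [he] at hgen
      rcases ne_or_eq b 0 with h | h
      · exact ⟨a, b, hgen.symm, h⟩
      · exact ⟨b, a, by rw [Set.pair_comm]; exact hgen.symm, fun ha => hne (ha.trans h.symm)⟩
    let φ := (f.stalkMap x).hom
    have hgen' : genericPoint X ⤳ x := genericPoint_specializes x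
    have hgenY : f (genericPoint X) ⤳ f x := hgen'.map f.continuous
    obtain ⟨U, hU, hiU⟩ := hp.iso
    haveI := hiU
    haveI : IsIso (f.stalkMap (genericPoint X)) := ModifLib.isIso_stalkMap_genericPoint f hU
    have hiso : Function.Bijective (f.stalkMap (genericPoint X)).hom := ConcreteCategory.bijective_of_isIso _
    have hsq : ∀ r, (X.presheaf.stalkSpecializes hgen').hom (φ r) =
        (f.stalkMap (genericPoint X)).hom ((Y.presheaf.stalkSpecializes hgenY).hom r) := fun r =>
      (Scheme.Hom.stalkSpecializes_stalkMap_apply f _ _ hgen' r).symm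
    have hιX : Function.Injective (X.presheaf.stalkSpecializes hgen').hom :=
      FaithfulSMul.algebraMap_injective (X.presheaf.stalk x) X.functionField
    have key : ∀ q, q = genericPoint Y → ∀ h : q ⤳ f x, Function.Injective (Y.presheaf.stalkSpecializes h).hom ∧
        ∀ k, ∃ c d, d ≠ 0 ∧ k * (Y.presheaf.stalkSpecializes h).hom d = (Y.presheaf.stalkSpecializes h).hom c := by
      rintro _ rfl h
      refine ⟨FaithfulSMul.algebraMap_injective (Y.presheaf.stalk (f x)) Y.functionField, fun k => ?_⟩
      obtain ⟨c, d, hd, rfl⟩ := IsFractionRing.div_surjective (A := Y.presheaf.stalk (f x)) (K := Y.functionField) k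
      exact ⟨c, d, nonZeroDivisors.ne_zero hd, div_mul_cancel₀ _ (IsFractionRing.to_map_ne_zero_of_mem_nonZeroDivisors hd)⟩
    obtain ⟨hιY, hfr⟩ := key _ hp.map_generic hgenY
    have hφinj : Function.Injective φ := fun r s h => hιY (hiso.1 (by rw [← hsq, ← hsq, h]))
    obtain ⟨w, hwx, hne, hfw⟩ := exists_specializes_fibre (f x) x hx rfl hno
    obtain ⟨P, hP⟩ : w ∈ Set.range (X.fromSpecStalk x) := by rw [Scheme.range_fromSpecStalk]; exact hwx
    have hPm : P.asIdeal ≠ maximalIdeal (X.presheaf.stalk x) := fun h => hne (by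
      rw [← hP, show P = closedPoint _ from PrimeSpectrum.ext h]
      exact Scheme.fromSpecStalk_closedPoint)
    have hmem : ∀ z ∈ maximalIdeal (Y.presheaf.stalk (f x)), φ z ∈ P.asIdeal := fun z hz => by
      have h1 : P ∈ (((𝓙.comap f).comap (X.fromSpecStalk x)).support : Set _) := by
        rw [Scheme.IdealSheafData.support_comap, Scheme.IdealSheafData.support_comap]
        show f (X.fromSpecStalk x P) ∈ (𝓙.support : Set Y)
        rw [hP, hfw, Scheme.IdealSheafData.coe_support_vanishingIdeal]
        rfl
      rw [PtBlowLib.comap_fromSpecStalk, PtBlowLib.coe_support_idealSheaf, DivDescLib.stalkIdeal_comap,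
        PtBlowLib.stalkIdeal_vanishing_point] at h1
      exact h1 (Ideal.mem_map_of_mem φ hz)
    obtain ⟨g, hg0, hg⟩ := exists_principal_map φ hφinj (fun z hz => fun hu => hz (isUnit_of_map_unit φ z hu))
      (fun r => by
        obtain ⟨k, hk⟩ := hiso.2 ((X.presheaf.stalkSpecializes hgen').hom r)
        obtain ⟨c, d, hd0, hcd⟩ := hfr k
        refine ⟨c, d, hd0, hιX ?_⟩
        rw [map_mul, hsq, hsq, ← hk, ← map_mul, hcd])
      a b hab hb0 ((DimIneqLib.stalk_dim_le_dim x).trans (hp.dim_le hdY)) P.asIdeal hPm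
      (hmem b (hab ▸ Ideal.subset_span (Set.mem_insert_of_mem _ rfl))) (hmem a (hab ▸ Ideal.subset_span (Set.mem_insert _ _)))
    refine ⟨g, hg0, ?_⟩
    rw [DivDescLib.stalkIdeal_comap, PtBlowLib.stalkIdeal_vanishing_point]
    exact hg
  refine EffCartLib.isEffCartier_of_stalk _ fun x hx W hxW => ?_
  have hfx : f x = y := by
    rw [Scheme.IdealSheafData.support_comap] at hx
    have h' : f x ∈ (𝓙.support : Set Y) := hx
    rw [Scheme.IdealSheafData.coe_support_vanishingIdeal] at h'
    exact h'
  obtain ⟨x0, hx0, hx0c⟩ := (isClosed_closure (s := ({x} : Set X))).exists_closed_singleton ⟨x, subset_closure rfl⟩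
  have hs : x ⤳ x0 := specializes_iff_mem_closure.2 hx0
  have hfx0 : f x0 = y := Set.mem_singleton_iff.1 ((hs.map f.continuous).mem_closed hy hfx)
  obtain ⟨g, hg0, hg⟩ := hcl x0 hx0c hfx0
  obtain ⟨W0, hW0, hxW0, -⟩ := exists_isAffineOpen_mem_and_subset (x := x0) (U := (⊤ : X.Opens)) trivial
  have hxW0' : x ∈ W0 := hs.mem_open W0.2 hxW0
  refine ⟨(X.presheaf.stalkSpecializes hs).hom g, mem_nonZeroDivisors_iff_ne_zero.2 fun h => hg0 ?_, ?_⟩
  · have hgen' : genericPoint X ⤳ x := genericPoint_specializes x
    have h' := congrArg (X.presheaf.stalkSpecializes hgen').hom h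
    rw [map_zero, ← CommRingCat.comp_apply, TopCat.Presheaf.stalkSpecializes_comp] at h'
    exact FaithfulSMul.algebraMap_injective (X.presheaf.stalk x0) X.functionField (h'.trans (map_zero _).symm)
  · rw [← SDivLib.stalkIdeal_eq _ W hxW, SDivLib.stalkIdeal_eq _ ⟨W0, hW0⟩ hxW0']
    rw [SDivLib.stalkIdeal_eq _ ⟨W0, hW0⟩ hxW0] at hg
    rw [← Set.image_singleton (f := (X.presheaf.stalkSpecializes hs).hom), ← Ideal.map_span, ← hg, Ideal.map_map]
    refine congrArg (fun ψ => Ideal.map ψ _) (RingHom.ext fun z => ?_)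
    exact (TopCat.Presheaf.germ_stalkSpecializes_apply X.presheaf hxW0 hs z).symm

end RatModLib

end
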