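import Mathlib
import Groth.Agent.RatModLib.FactorPoint
import Groth.Agent.PtBlowLib.Step
import Groth.Agent.S8859

/-! Proper birational morphisms of regular surfaces are composites of point blow-ups. -/

set_option autoImplicit false
set_option linter.style.haveILetI false
set_option maxHeartbeats 2000000
set_option backward.isDefEq.respectTransparency false
set_option backward.isDefEq.respectTransparency.types false
universe u

open CategoryTheory CategoryTheory.Limits AlgebraicGeometry TopologicalSpace IsLocalRing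

noncomputable section

namespace RatModLib

theorem isIso_or_exists_point {X Y : Scheme.{u}} [IsIntegral X] [IsIntegral Y] [IsNoetherian Y] (f : X ⟶ Y) (hp : Mod f)
    (hY : ∀ y : Y, IsRegularLocalRing (Y.presheaf.stalk y)) (hdY : topologicalKrullDim Y ≤ 2) :
    ∃ V : Y.Opens, IsIso (f ∣_ V) ∧ ∀ y ∉ V, IsClosed ({y} : Set Y) ∧ ringKrullDim (Y.presheaf.stalk y) = 2 ∧
      ∀ a : ↥(f.fiber y), ¬ IsOpen ({a} : Set ↥(f.fiber y)) := by
  haveI := hp.proper
  obtain ⟨U, hU, hi⟩ := hp.iso
  haveI := hi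
  haveI : IsIso (f.stalkMap (genericPoint X)) := ModifLib.isIso_stalkMap_genericPoint f hU
  obtain ⟨V, hV, hno, h2⟩ := Groth.Agent.S11555.result f (isNormal_of_regular hY) hp.map_generic
    (ConcreteCategory.bijective_of_isIso (f.stalkMap (genericPoint X)))
  exact ⟨V, hV, fun y hy => ⟨PtBlowLib.isClosed_of_two_le hdY y (h2 y hy),
    le_antisymm ((DimIneqLib.stalk_dim_le_dim y).trans hdY) (h2 y hy), hno y hy⟩⟩

theorem factorize : ∀ (n : ℕ) (X Y : Scheme.{u}) [IsIntegral X] [IsIntegral Y] [IsNoetherian Y] (f : X ⟶ Y),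
    Mod f → (∀ x : X, IsRegularLocalRing (X.presheaf.stalk x)) → (∀ y : Y, IsRegularLocalRing (Y.presheaf.stalk y)) →
    topologicalKrullDim Y ≤ 2 → (bad f).Finite → (bad f).ncard ≤ n → ¬ IsIso f →
      ∀ {W : Scheme.{u}} (r : Y ⟶ W), Models.IsContractionSeq r → Models.IsContractionSeq (f ≫ r) := by
  intro n
  induction n using Nat.strong_induction_on with
  | _ n ih =>
  intro X Y _ _ _ f hp hX hY hdY hfin hcard hniso W r hr
  classical
  haveI := hp.proper
  obtain ⟨V, hV, hout⟩ := isIso_or_exists_point f hp hY hdY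
  by_cases htop : V = ⊤
  · subst htop
    haveI : IsIso f := IsZariskiLocalAtTarget.of_iSup_eq_top (P := MorphismProperty.isomorphisms Scheme.{u})
      (fun _ : Unit => (⊤ : Y.Opens)) (by simp) fun _ => hV
    exact absurd (inferInstance : IsIso f) hniso
  obtain ⟨y, hy⟩ : ∃ y, y ∉ V := by
    by_contra h
    push Not at h
    exact htop (top_le_iff.1 fun y _ => h y)
  obtain ⟨hyc, hyd, hno⟩ := hout y hy
  haveI := hY y
  have hcart := isEffCartier_comap_regular hp hY hX hdY y hyc hyd hno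
  obtain ⟨Y', b, hb⟩ := Groth.Agent.S8859.result Y (Scheme.IdealSheafData.vanishingIdeal (⟨{y}, hyc⟩ : Closeds Y))
  obtain ⟨g, hg, -⟩ := hb.2 X f hcart
  haveI := PtBlowLib.isProper_b hyc b hb
  haveI := PtBlowLib.isNoetherian_b hyc b hb
  haveI hbO := PtBlowLib.isIso_punct hyc b hb
  have hgen : genericPoint Y ∈ PtBlowLib.punct hyc := fun h => by
    have e : genericPoint Y = y := h
    have h0 : ringKrullDim Y.functionField = 0 := ringKrullDim_eq_zero_of_isField (Field.toIsField _)
    rw [← e] at hyd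
    rw [show Y.presheaf.stalk (genericPoint Y) = Y.functionField from rfl, h0] at hyd
    exact absurd hyd (by decide)
  have hne : Scheme.IdealSheafData.vanishingIdeal (⟨{y}, hyc⟩ : Closeds Y) ≠ ⊥ := fun h => by
    have h1 : genericPoint Y ∈ ((Scheme.IdealSheafData.vanishingIdeal (⟨{y}, hyc⟩ : Closeds Y)).support : Set Y) := by
      rw [h, Scheme.IdealSheafData.support_bot]; trivial
    rw [Scheme.IdealSheafData.coe_support_vanishingIdeal] at h1
    exact hgen h1
  obtain ⟨hint, -, -⟩ := BlowUpLib.isIntegral_of_isBlowUp hb hne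
  have hbMod : Mod b := ⟨inferInstance, PtBlowLib.punct hyc, ⟨_, hgen⟩, hbO⟩
  haveI : IsProper (g ≫ b) := hg ▸ hp.proper
  haveI : IsProper g := IsProper.of_comp g b
  have hgMod : Mod g := by
    obtain ⟨U, hU, hiU⟩ := hp.iso
    haveI := hiU
    have hgU : genericPoint Y ∈ U := ((genericPoint_spec Y).mem_open_set_iff U.2).2 (by simpa using hU)
    haveI hbD : IsIso (b ∣_ (U ⊓ PtBlowLib.punct hyc)) := ModifLib.isIso_restrict_of_le b inf_le_right
    haveI : IsIso (f ∣_ (U ⊓ PtBlowLib.punct hyc)) := ModifLib.isIso_restrict_of_le f inf_le_left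
    refine ⟨inferInstance, b ⁻¹ᵁ (U ⊓ PtBlowLib.punct hyc), ⟨genericPoint Y', ?_⟩, ?_⟩
    · show b (genericPoint Y') ∈ U ⊓ PtBlowLib.punct hyc
      rw [hbMod.map_generic]
      exact ⟨hgU, hgen⟩
    · have h : IsIso ((g ≫ b) ∣_ (U ⊓ PtBlowLib.punct hyc)) := hg ▸ ‹IsIso (f ∣_ (U ⊓ PtBlowLib.punct hyc))›
      rw [morphismRestrict_comp] at h
      exact IsIso.of_isIso_comp_right _ (b ∣_ (U ⊓ PtBlowLib.punct hyc))
  have hY' : ∀ z : Y', IsRegularLocalRing (Y'.presheaf.stalk z) := fun z => by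
    by_cases hz : b z = y
    · let q := pullback.fst b (Y.fromSpecStalk y)
      haveI := AlgSpLib.flat_fromSpecStalk y
      obtain ⟨p, hp', -⟩ := Scheme.Pullback.exists_preimage_pullback (f := b) (g := Y.fromSpecStalk y) z
        (IsLocalRing.closedPoint _) (hz.trans Scheme.fromSpecStalk_closedPoint.symm)
      subst hp'
      haveI : Flat q := inferInstance
      haveI : IsPreimmersion q := inferInstance
      let eq := RingEquiv.ofBijective _ (PtBlowLib.bijective_stalkMap_of_flat_preimmersion q p)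
      obtain ⟨-, hreg⟩ := Groth.Agent.S1622.result _ hyd _ _ (PtBlowLib.isBlowUp_spec hyc b hb)
      haveI := hreg p
      exact IsRegularLocalRing.of_ringEquiv eq.symm
    · haveI := hY (b z)
      exact IsRegularLocalRing.of_ringEquiv
        (RingEquiv.ofBijective _ (PtBlowLib.bijective_stalkMap_of_isIso b (PtBlowLib.punct hyc) z hz))
  have hsub : bad g ⊆ bad f := fun w hw => ⟨hw.1, by
    rw [← hg, Scheme.Hom.comp_apply, ← Set.image_singleton (f := b.base)]
    exact b.isClosedMap _ hw.2⟩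
  obtain ⟨z, hzy, hzc⟩ : ∃ z : Y', b z = y ∧ ¬ IsClosed ({z} : Set Y') := by
    obtain ⟨k, hk, e, -⟩ := PtBlowLib.exc_data hyc b hb hyd
    letI := hk
    haveI : IsIntegral (CohB1.ProjSpace 1 k) := GenusZeroLib.isIntegral_projSpace k 1
    let E := (Scheme.IdealSheafData.vanishingIdeal (⟨{y}, hyc⟩ : Closeds Y)).comap b
    let ι := e.hom ≫ E.subschemeι
    refine ⟨ι (genericPoint (CohB1.ProjSpace 1 k)), (PtBlowLib.mem_support_exc hyc b _).1 ?_, fun hc => ?_⟩
    · rw [← Scheme.IdealSheafData.range_subschemeι]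
      exact ⟨_, rfl⟩
    · have hall : ∀ a : CohB1.ProjSpace 1 k, a = genericPoint _ := fun a => ι.isEmbedding.injective
        (Set.mem_singleton_iff.1 (((genericPoint_specializes a).map ι.continuous).mem_closed hc rfl))
      haveI : Subsingleton (CohB1.ProjSpace 1 k) := ⟨fun a a' => (hall a).trans (hall a').symm⟩
      haveI : DiscreteTopology (CohB1.ProjSpace 1 k) := Subsingleton.discreteTopology
      have h0 : topologicalKrullDim (CohB1.ProjSpace 1 k) ≤ 0 := topologicalKrullDim_zero_of_discreteTopology _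
      rw [GenusZeroLib.dim_projSpace] at h0
      exact absurd h0 (by norm_num)
  obtain ⟨w, hw⟩ := hgMod.surjective z
  have hwc : ¬ IsClosed ({w} : Set X) := fun h => hzc (by
    rw [← hw, ← Set.image_singleton (f := g.base)]
    exact g.isClosedMap _ h)
  have hwf : w ∈ bad f := ⟨hwc, by rw [← hg, Scheme.Hom.comp_apply, hw, hzy]; exact hyc⟩
  have hwg : w ∉ bad g := fun h => hzc (hw ▸ h.2)
  have hlt : (bad g).ncard < (bad f).ncard :=
    Set.ncard_lt_ncard ⟨hsub, fun h => hwg (h hwf)⟩ hfin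
  by_cases hgi : IsIso g
  · haveI := hgi
    have hbf : BlowUp.IsBlowUp f (Scheme.IdealSheafData.vanishingIdeal (⟨{y}, hyc⟩ : Closeds Y)) := by
      refine ⟨hcart, fun Z h hh => ?_⟩
      obtain ⟨l, hl, huniq⟩ := hb.2 Z h hh
      refine ⟨l ≫ inv g, ?_, fun m hm => ?_⟩
      · show (l ≫ inv g) ≫ f = h
        rw [← hg, Category.assoc, IsIso.inv_hom_id_assoc]; exact hl
      · rw [← huniq (m ≫ g) (by show (m ≫ g) ≫ b = h; rw [Category.assoc, hg]; exact hm), Category.assoc, IsIso.hom_inv_id, Category.comp_id]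
    exact PtBlowLib.contractionSeq_comp hyc f hbf hyd r hr
  have h2 := ih (bad g).ncard (hlt.trans_le hcard) X Y' g hgMod hX hY' (hbMod.dim_le hdY) (hfin.subset hsub) le_rfl hgi
    (b ≫ r) (PtBlowLib.contractionSeq_comp hyc b hb hyd r hr)
  rwa [← Category.assoc, hg] at h2

theorem contractionSeq_of_birational {X Y : Scheme.{u}} [IsIntegral X] [IsIntegral Y] [IsNoetherian Y] (f : X ⟶ Y)
    (hp : Mod f) (hX : ∀ x : X, IsRegularLocalRing (X.presheaf.stalk x))
    (hY : ∀ y : Y, IsRegularLocalRing (Y.presheaf.stalk y)) (hdY : topologicalKrullDim Y ≤ 2) :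
    Models.IsContractionSeq f := by
  by_cases hf : IsIso f
  · haveI := hf
    exact Models.IsContractionSeq.iso (asIso f)
  haveI := hp.proper
  have hη : ¬ IsClosed ({genericPoint Y} : Set Y) := fun hc => hf (by
    have hpt : ∀ z : Y, z = genericPoint Y := fun z =>
      Set.mem_singleton_iff.1 ((genericPoint_specializes z).mem_closed hc rfl)
    obtain ⟨U, hU, hiU⟩ := hp.iso
    have htop : U = ⊤ := top_le_iff.1 fun z _ => by
      obtain ⟨u, hu⟩ := hU
      rw [hpt z, ← hpt u]; exact hu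
    subst htop
    exact IsZariskiLocalAtTarget.of_iSup_eq_top (P := MorphismProperty.isomorphisms Scheme.{u})
      (fun _ : Unit => (⊤ : Y.Opens)) (by simp) fun _ => hiU)
  have h := factorize _ X Y f hp hX hY hdY (hp.finite_bad (isNormal_of_regular hY) hdY hη) le_rfl hf (𝟙 Y)
    (Models.IsContractionSeq.iso (Iso.refl Y))
  simpa using h

/-- A proper birational morphism factors through the blowing up at a point where it is not an isomorphism. -/
theorem factor_through_point {X Y : Scheme.{u}} [IsIntegral X] [IsIntegral Y] [IsNoetherian Y] (f : X ⟶ Y)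
    (hp : Mod f) (hX : ∀ x : X, IsRegularLocalRing (X.presheaf.stalk x))
    (hY : ∀ y : Y, IsRegularLocalRing (Y.presheaf.stalk y)) (hdY : topologicalKrullDim Y ≤ 2)
    (y : Y) (hy : IsClosed ({y} : Set Y)) (hP : ∀ V : Y.Opens, y ∈ V → ¬ IsIso (f ∣_ V))
    {Y' : Scheme.{u}} (π : Y' ⟶ Y) (hπ : BlowUp.IsBlowUp π (Scheme.IdealSheafData.vanishingIdeal ⟨{y}, hy⟩)) :
    ∃ g : X ⟶ Y', g ≫ π = f := by
  obtain ⟨V, hV, hout⟩ := isIso_or_exists_point f hp hY hdY
  obtain ⟨-, hyd, hno⟩ := hout y fun h => hP V h hV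
  obtain ⟨g, hg, -⟩ := hπ.2 X f (isEffCartier_comap_regular hp hY hX hdY y hy hyd hno)
  exact ⟨g, hg⟩

end RatModLib

end
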