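import Mathlib
import Groth.Agent.RatModLib.DescentGlobal
import Groth.Agent.S1648
import Groth.Agent.NormalLib.Regular

/-! Invariant rings of regular surfaces by tame finite groups. -/

set_option autoImplicit false
set_option linter.style.haveILetI false
set_option maxHeartbeats 1000000
universe u

noncomputable section

namespace RatModLib

theorem rational_fixed (A : Type u) [CommRing A] [IsDomain A] [IsNoetherianRing A]
    (hAe : EGA4.IsExcellent A) (hA2 : ringKrullDim A = 2)
    (hreg : ∀ (p : Ideal A) [p.IsPrime], IsRegularLocalRing (Localization.AtPrime p))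
    (G : Type u) [Group G] [Finite G] [MulSemiringAction G A]
    (hG : IsUnit ((Nat.card G : ℕ) : A))
    (hGe : EGA4.IsExcellent (FixedPoints.subring A G))
    (m : Ideal (FixedPoints.subring A G)) [m.IsMaximal] (hm : ringKrullDim (Localization.AtPrime m) = 2) :
    Curv2.IsRationalSing (Localization.AtPrime m) := by
  classical
  let RG := FixedPoints.subring A G
  haveI : IsNoetherianRing RG := hGe.1
  haveI : IsIntegrallyClosed A := IsIntegrallyClosed.of_localization_maximal fun P _ hP => by
    haveI : IsDomain (Localization.AtPrime P) :=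
      IsLocalization.isDomain_localization P.primeCompl_le_nonZeroDivisors
    haveI := hreg P
    exact NormalLib.isIntegrallyClosed_of_isRegularLocalRing _
  haveI : SMulCommClass G RG A := ⟨fun g r a => by
    show g • ((r : A) * a) = (r : A) * g • a
    rw [smul_mul', r.2 g]⟩
  haveI : Algebra.IsInvariant RG A G := ⟨fun a ha => ⟨⟨a, ha⟩, rfl⟩⟩
  haveI : Algebra.IsIntegral RG A := Algebra.IsInvariant.isIntegral RG A G
  have hinj : Function.Injective (algebraMap RG A) := Subtype.val_injective
  let K := FractionRing RG
  let L := FractionRing A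
  letI : MulSemiringAction G L := IsFractionRing.mulSemiringAction G A L
  haveI : SMulDistribClass G A L := IsFractionRing.smulDistribClass G A L
  let ι : RG →+* L := (algebraMap A L).comp (algebraMap RG A)
  have hι : Function.Injective ι := (IsFractionRing.injective A L).comp hinj
  haveI : IsScalarTower RG A L := inferInstance
  letI : Algebra K L := (IsFractionRing.lift (K := K) hι).toAlgebra
  haveI : IsScalarTower RG K L := .of_algebraMap_eq fun z =>
    (IsScalarTower.algebraMap_apply RG A L z).trans (IsFractionRing.lift_algebraMap hι z).symm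
  haveI : Algebra.IsInvariant K L G := IsFractionRing.isInvariant G RG A K L
  -- the degree
  have hgL : ∀ (g : G) (a : A), g • algebraMap A L a = algebraMap A L (g • a) := fun g a => by
    have h := smul_distrib_smul g a (1 : L)
    rw [smul_one, Algebra.smul_def, mul_one, Algebra.smul_def, mul_one] at h
    exact h
  let F := FixedPoints.subfield G L
  have hfix : ∀ k : K, algebraMap K L k ∈ F := fun k g => by
    obtain ⟨a, b, -, rfl⟩ := IsFractionRing.div_surjective (A := RG) k
    rw [map_div₀, ← IsScalarTower.algebraMap_apply, ← IsScalarTower.algebraMap_apply,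
      IsScalarTower.algebraMap_apply RG A L, IsScalarTower.algebraMap_apply RG A L, smul_div₀']
    rw [hgL, hgL, show g • algebraMap RG A a = algebraMap RG A a from a.2 g,
      show g • algebraMap RG A b = algebraMap RG A b from b.2 g]
  let eF : K ≃+* F := RingEquiv.ofBijective ((algebraMap K L).codRestrict F hfix)
    ⟨fun x y h => (algebraMap K L).injective (congrArg Subtype.val h),
      fun x => (Algebra.IsInvariant.isInvariant (A := K) (G := G) x.1 x.2).imp fun y hy => Subtype.ext hy⟩
  have hrank : Module.finrank K L = Module.finrank F L :=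
    Algebra.finrank_eq_of_equiv_equiv eF (RingEquiv.refl L) (RingHom.ext fun _ => rfl)
  haveI : FiniteDimensional K L := by
    refine Module.finite_of_finrank_pos (R := K) (M := L) ?_
    rw [hrank]
    exact Module.finrank_pos
  have hdvd : Module.finrank K L ∣ Nat.card G := by
    rw [hrank, ← IsGalois.card_aut_eq_finrank]
    exact Subgroup.card_dvd_of_surjective (MulSemiringAction.toAlgAut G F L) (FixedPoints.toAlgAut_surjective G L)
  haveI : IsIntegrallyClosed RG := by
    refine (isIntegrallyClosed_iff K).2 fun {x} hx => ?_
    obtain ⟨c, hc⟩ := IsIntegrallyClosed.isIntegral_iff.1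
      ((hx.map (IsScalarTower.toAlgHom RG K L)).tower_top (A := A))
    refine ⟨⟨c, fun g => IsFractionRing.injective A L ?_⟩, (algebraMap K L).injective ?_⟩
    · show algebraMap A L (g • c) = _
      rw [← hgL, show algebraMap A L c = algebraMap K L x from hc]
      exact hfix x g
    · rw [← IsScalarTower.algebraMap_apply]
      exact hc
  haveI : Module.Finite RG A := by
    have hN : CAlg.IsNagata RG := Groth.Agent.S2654.result RG ⟨hGe.1, hGe.2.2⟩
    have h2 : CAlg.IsN2 RG := NormalLib.isN2_of_ringEquiv (RingEquiv.quotientBot RG) (hN.2 ⊥)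
    haveI hfin : Module.Finite RG (integralClosure RG L) := @h2 L _ _ _ _ inferInstance
    let j : A →ₗ[RG] integralClosure RG L :=
      ((IsScalarTower.toAlgHom RG A L).toLinearMap).codRestrict (integralClosure RG L).toSubmodule
        fun a => (Algebra.IsIntegral.isIntegral a).map (IsScalarTower.toAlgHom RG A L)
    exact Module.Finite.of_injective j fun a b h => IsFractionRing.injective A L (congrArg Subtype.val h)
  refine rational_descent_global RG A hGe hA2 hinj K L ?_ (fun n _ hn => ?_) m hm
  · obtain ⟨q, hq⟩ := hdvd
    have h1 : IsUnit ((Nat.card G : ℕ) : RG) := by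
      obtain ⟨u, hu⟩ := hG
      have hu' : ∀ g : G, g • (↑u⁻¹ : A) = ↑u⁻¹ := fun g => by
        have e : g • ((↑u⁻¹ : A) * u) = 1 := by rw [Units.inv_mul, smul_one]
        have hn : g • (u : A) = u := by rw [hu]; exact map_natCast (MulSemiringAction.toRingHom G A g) _
        rw [smul_mul', hn] at e
        exact (mul_left_injective₀ (Units.ne_zero u)) (e.trans (Units.inv_mul u).symm)
      refine IsUnit.of_mul_eq_one ⟨↑u⁻¹, hu'⟩ (Subtype.ext ?_)
      show ((Nat.card G : RG) : A) * _ = 1
      rw [show ((Nat.card G : RG) : A) = (Nat.card G : A) from map_natCast RG.subtype _, ← hu, Units.mul_inv]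
    rw [hq, Nat.cast_mul] at h1
    exact (IsUnit.mul_iff.1 h1).1
  · haveI := hreg n
    exact Groth.Agent.S1648.result (Localization.AtPrime n)
      (NagataFG.isNagata_of_isLocalization n.primeCompl _ (Groth.Agent.S2654.result A ⟨hAe.1, hAe.2.2⟩)) hn

end RatModLib

end
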