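import Groth.Agent.GRingLib.GeomFibres
import Groth.Agent.GRingLib.Excellent
import Groth.Agent.S2644
import Groth.Agent.S2651
import Groth.Agent.CatLib.CplEquiv
import Groth.Agent.Unram17Lib.SmoothNormal
import Groth.Agent.HensFormalLib.NormalBCUnibranch
import Groth.Prelude.Def_Pi1
import Groth.Prelude.Def_Curv2
import Mathlib

/-! # Completions of local rings of normal schemes of finite type over excellent rings -/

set_option autoImplicit false
set_option linter.style.haveILetI false
set_option backward.isDefEq.respectTransparency false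
set_option backward.isDefEq.respectTransparency.types false
universe u
open CategoryTheory AlgebraicGeometry IsLocalRing


namespace RatModLib

/-- A domain which is integrally closed, transported along an isomorphism. -/
theorem normal_of_ringEquiv {R S : Type u} [CommRing R] [CommRing S] (e : R ≃+* S)
    (h : IsDomain R ∧ IsIntegrallyClosed R) : IsDomain S ∧ IsIntegrallyClosed S := by
  obtain ⟨_, _⟩ := h
  exact ⟨e.symm.toMulEquiv.isDomain _, IsIntegrallyClosed.of_equiv e⟩

/-- Isomorphic local rings have isomorphic completions. -/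
theorem cpl_equiv_of_ringEquiv {R S : Type u} [CommRing R] [IsLocalRing R] [CommRing S] [IsLocalRing S]
    (e : R ≃+* S) :
    Nonempty (AdicCompletion (maximalIdeal R) R ≃+* AdicCompletion (maximalIdeal S) S) := by
  have hm : (maximalIdeal R).map e.toRingHom = maximalIdeal S :=
    map_maximalIdeal_of_surjective e.toRingHom e.surjective
  exact CatLib.exists_cpl_equiv_of_bijective (maximalIdeal R) (maximalIdeal S)
    (fun n => Ideal.quotientEquiv _ _ e (by rw [Ideal.map_pow]; exact congrArg (· ^ n) hm.symm))
    (fun h x => by obtain ⟨a, rfl⟩ := Ideal.Quotient.mk_surjective x; simp)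

/-- A local ring with geometrically regular formal fibres has geometrically normal ones. -/
theorem geomNormal_of_regularHom (L : Type u) [CommRing L] [IsLocalRing L] [IsNoetherianRing L]
    (h : CAlg.IsRegularHom L (AdicCompletion (maximalIdeal L) L)) : EGA4.HasGeomNormalFormalFibres L := by
  refine (GRingLib.hasGeomNormalFormalFibres_iff L).mpr ⟨fun p _ k' _ _ hk => ?_, fun p _ k' _ _ hk => ?_⟩
  · haveI := (h.2 p).2 k' hk
    exact GeomRedFibLib.ringP_of_regular (GeomRedFibLib.isGeomProp_rkLoc 1) _
  · haveI := (h.2 p).2 k' hk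
    exact GeomRedFibLib.ringP_of_regular (GeomRedFibLib.isGeomProp_skLoc 2) _

/-- The completion of a local ring of a normal scheme locally of finite type over an excellent ring
is a normal domain. -/
theorem normal_cpl_stalk (E : Type u) [CommRing E] (hE : EGA4.IsExcellent E) {Y : Scheme.{u}}
    (f : Y ⟶ Spec (CommRingCat.of E)) [LocallyOfFiniteType f] (hn : Pi1.IsNormalScheme Y) (q : Y) :
    IsDomain (Curv2.cpl (Y.presheaf.stalk q)) ∧ IsIntegrallyClosed (Curv2.cpl (Y.presheaf.stalk q)) := by
  obtain ⟨U, hU, hqU, -⟩ := exists_isAffineOpen_mem_and_subset (x := q) (U := ⊤) trivial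
  let φ : CommRingCat.of E ⟶ Γ(Y, U) := (Scheme.ΓSpecIso (CommRingCat.of E)).inv ≫ f.appLE ⊤ U le_top
  have hφ : φ.hom.FiniteType := by
    rw [show φ.hom = (f.appLE ⊤ U le_top).hom.comp (Scheme.ΓSpecIso (CommRingCat.of E)).inv.hom from rfl]
    exact (f.finiteType_appLE (isAffineOpen_top _) hU le_top).comp
      (RingHom.FiniteType.of_surjective _ (ConcreteCategory.bijective_of_isIso (Scheme.ΓSpecIso (CommRingCat.of E)).inv).2)
  letI : Algebra E Γ(Y, U) := φ.hom.toAlgebra
  haveI : Algebra.FiniteType E Γ(Y, U) := hφ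
  obtain ⟨-, -, hG, -⟩ := Groth.Agent.S2651.result E hE Γ(Y, U)
  let p := (hU.primeIdealOf ⟨q, hqU⟩).asIdeal
  letI : Algebra Γ(Y, U) (Y.presheaf.stalk q) := (Y.presheaf.germ U q hqU).hom.toAlgebra
  haveI hloc : IsLocalization.AtPrime (Y.presheaf.stalk q) p := hU.isLocalization_stalk ⟨q, hqU⟩
  haveI := hG.1
  haveI : IsNoetherianRing (Localization.AtPrime p) := IsLocalization.isNoetherianRing p.primeCompl _ inferInstance
  let e : Localization.AtPrime p ≃+* Y.presheaf.stalk q :=
    (IsLocalization.algEquiv p.primeCompl (Localization.AtPrime p) (Y.presheaf.stalk q)).toRingEquiv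
  obtain ⟨hd, hi⟩ := normal_of_ringEquiv e.symm (hn q)
  haveI := hd
  haveI := hi
  have hN : EGA4.IsNormalRing (EGA4.Cpl (Localization.AtPrime p)) :=
    (Groth.Agent.S2644.result (Localization.AtPrime p) (geomNormal_of_regularHom _ (hG.2 p))).mp
      (Unram17Lib.isNormalRing_of_domain _)
  obtain ⟨ec⟩ := cpl_equiv_of_ringEquiv e
  refine normal_of_ringEquiv ec ⟨?_, HensFormalLib.isIntegrallyClosed_of_isNormalRing _ hN⟩
  let eu := (IsLocalization.atUnits (EGA4.Cpl (Localization.AtPrime p))
    (maximalIdeal (EGA4.Cpl (Localization.AtPrime p))).primeCompl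
    (S := Localization.AtPrime (maximalIdeal (EGA4.Cpl (Localization.AtPrime p))))
    fun x hx => notMem_maximalIdeal.1 hx).toRingEquiv
  haveI := (hN (maximalIdeal (EGA4.Cpl (Localization.AtPrime p)))).1
  exact eu.toMulEquiv.isDomain _

end RatModLib
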