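import Mathlib
import Groth.Agent.S8859
import Groth.Agent.S0566
import Groth.Agent.S9833
import Groth.Agent.ModifLib.Max
import Groth.Agent.ModifLib.Norm
import Groth.Agent.BlowUpLib.Props
import Groth.Agent.RatModLib.EssModel
import Groth.Agent.RatModLib.Mod

/-! A birational local algebra essentially of finite type as a local ring of a normal modification. -/

set_option autoImplicit false
set_option linter.style.haveILetI false
set_option maxHeartbeats 1000000
set_option backward.isDefEq.respectTransparency false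
set_option backward.isDefEq.respectTransparency.types false
universe u

open CategoryTheory CategoryTheory.Limits AlgebraicGeometry TopologicalSpace

noncomputable section

namespace RatModLib

open BlowUpLib in
theorem exists_chart_at {A : Type u} [CommRing A] (I : Ideal A) {P : Scheme.{u}} {p : P ⟶ Spec (CommRingCat.of A)}
    (hp : BlowUp.IsBlowUp p (specIdeal I)) (a : A) (ha : a ∈ I) :
    ∃ (c : Spec (CommRingCat.of (BlowUp.affineAlgebra A I a)) ⟶ P), IsOpenImmersion c ∧
        c ≫ p = Spec.map (CommRingCat.ofHom (algebraMap A (BlowUp.affineAlgebra A I a))) := by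
  obtain ⟨e, he⟩ := exists_iso hp (isBlowUp_proj I)
  let w := RingEquiv.toCommRingCatIso (R := HomogeneousLocalization.Away (Rees.deg (reesAlgebra I)) (degOne I a ha))
    (S := BlowUp.affineAlgebra A I a) (awayEquiv I a ha)
  refine ⟨Spec.map w.hom ≫ Proj.awayι _ _ (degOne_mem I a ha) one_pos ≫ e.hom, inferInstance, ?_⟩
  rw [Category.assoc, Category.assoc, he]
  change _ ≫ _ ≫ Proj.toSpecZero _ ≫ Spec.map _ = _
  rw [Proj.awayι_toSpecZero_assoc, ← Spec.map_comp, ← Spec.map_comp]
  exact congrArg (fun φ => Spec.map (CommRingCat.ofHom φ)) (awayEquiv_comp I a ha)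

theorem exists_point_model (A B : Type u) [CommRing A] [CommRing B] [IsDomain A] [IsDomain B] [IsLocalRing B]
    [IsIntegrallyClosed A]
    (hN : CAlg.IsNagata A) [Algebra A B] (hinj : Function.Injective (algebraMap A B)) [Algebra.EssFiniteType A B]
    [IsIntegrallyClosed B] (hfrac : ∀ b : B, ∃ a a' : A, a' ≠ 0 ∧ algebraMap A B a' * b = algebraMap A B a) :
    ∃ (X : Scheme.{u}) (_ : IsIntegral X) (f : X ⟶ Spec (CommRingCat.of A)), Mod f ∧ Pi1.IsNormalScheme X ∧
      ∃ x : X, Nonempty (X.presheaf.stalk x ≃+* B) := by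
  haveI : IsNoetherianRing A := hN.1
  obtain ⟨I, d, hdI, hd0, hC, p, ⟨ep⟩⟩ := exists_model A B hN hinj hfrac
  haveI := hC
  have hI : BlowUpLib.specIdeal (A := A) I ≠ ⊥ := fun h => hd0 (by
    have h' : BlowUpLib.specIdeal (A := A) I = BlowUpLib.specIdeal (A := A) ⊥ :=
      h.trans (Scheme.IdealSheafData.ext_of_isAffine (by
        rw [BlowUpLib.specIdeal_top, Ideal.map_bot, Scheme.IdealSheafData.ideal_bot, Pi.bot_apply]))
    have := BlowUpLib.specIdeal_injective h'
    exact Ideal.mem_bot.1 (this ▸ hdI))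
  obtain ⟨P, b, hb⟩ := Groth.Agent.S8859.result _ (BlowUpLib.specIdeal (A := A) I)
  obtain ⟨c, hc, hcb⟩ := exists_chart_at I hb d hdI
  haveI := hc
  have hft : BlowUp.IsFiniteTypeIdeal (BlowUpLib.specIdeal (A := A) I) := fun U => by
    haveI := IsLocallyNoetherian.component_noetherian U
    exact IsNoetherian.noetherian _
  obtain ⟨hint, -, -⟩ := BlowUpLib.isIntegral_of_isBlowUp hb hI
  haveI : IsProper b := BlowUpLib.isProper_of_isBlowUp hb hft
  haveI : IsLocallyNoetherian P := LocallyOfFiniteType.isLocallyNoetherian b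
  haveI : QuasiCompact (P.fromSpecStalk (genericPoint P)) := inferInstance
  haveI : QuasiSeparated (P.fromSpecStalk (genericPoint P)) := inferInstance
  have hN' : ∀ U : (Spec (CommRingCat.of A)).affineOpens, CAlg.IsNagata Γ(Spec (CommRingCat.of A), U.1) :=
    fun U => Groth.Agent.S9833.result (Spec (CommRingCat.of A)) (fun _ : PUnit.{u+1} => ⊤) (iSup_const) (fun _ => isAffineOpen_top _)
      (fun _ => by
        letI := ((Scheme.ΓSpecIso (CommRingCat.of A)).inv.hom).toAlgebra
        haveI : Algebra.FiniteType A Γ(Spec (CommRingCat.of A), ⊤) :=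
          RingHom.FiniteType.of_surjective _ (ConcreteCategory.bijective_of_isIso (Scheme.ΓSpecIso (CommRingCat.of A)).inv).2
        exact Groth.Agent.S0566.result A hN Γ(Spec (CommRingCat.of A), ⊤)) U.1 U.2
  haveI := ModifLib.isFinite_normalizationι P (ModifLib.isNagata_affineOpens b hN')
  let ν := Curv2.normalizationι P
  have hne : ∃ s : (Spec (CommRingCat.of A) : Scheme.{u}), s ∉ ((BlowUpLib.specIdeal (A := A) I).support : Set _) := by
    by_contra h
    push_neg at h
    exact hI (Scheme.IdealSheafData.support_eq_top_iff.mp (SetLike.ext fun x => iff_of_true (h x) trivial))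
  obtain ⟨s, hs⟩ := hne
  obtain ⟨V, hsV, hVI⟩ := BlowUpLib.exists_affine s (W := (BlowUpLib.specIdeal (A := A) I).support.compl) hs
  haveI : IsIso (b ∣_ V.1) := EffCartLib.isIso_off_center _ b hb V.1 hVI
  haveI : IsAffine (V.1 : Scheme.{u}) := V.2
  let W : P.affineOpens := ⟨b ⁻¹ᵁ V.1, IsAffine.of_isIso (b ∣_ V.1)⟩
  haveI : Nonempty V.1 := ⟨⟨s, hsV⟩⟩
  haveI : Nonempty W.1 := ⟨inv (b ∣_ V.1) ⟨s, hsV⟩⟩
  have hb' : IsIso (b.app V.1) := by
    have h : IsIso ((b ∣_ V.1).appTop) := (inferInstance : IsIso ((b ∣_ V.1).app ⊤))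
    rw [morphismRestrict_appTop] at h
    have h2 : IsIso (b.app (V.1.ι ''ᵁ ⊤)) :=
      @IsIso.of_isIso_comp_right _ _ _ _ _ _ _ (@Functor.map_isIso _ _ _ _ _ _ _ _ (by infer_instance)) h
    rwa [Scheme.Opens.ι_image_top] at h2
  have hWc : IsIntegrallyClosed Γ(P, W.1) :=
    haveI := LocFFLib.isIntegrallyClosed_sections (ParaFLib.isNormal_spec A) V.1
    IsIntegrallyClosed.of_equiv (@asIso _ _ _ _ (b.app V.1) hb').commRingCatIsoToRingEquiv
  haveI : IsIso (ν ∣_ (b ⁻¹ᵁ V.1)) := ModifLib.isIso_normalizationι_restrict P W hWc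
  have hMod : Mod (ν ≫ b) := ⟨inferInstance, V.1, ⟨s, hsV⟩, by
    rw [morphismRestrict_comp]
    exact IsIso.comp_isIso' (by assumption) (by assumption)⟩
  let Wd : P.affineOpens := ⟨c.opensRange, isAffineOpen_opensRange c⟩
  haveI : Nonempty Wd.1 := ⟨⟨c p, p, rfl⟩⟩
  have hWdc : IsIntegrallyClosed Γ(P, Wd.1) := by
    have e1 : c ''ᵁ ⊤ = c.opensRange := c.image_top_eq_opensRange
    let e : Γ(P, c.opensRange) ≅ CommRingCat.of (BlowUp.affineAlgebra A I d) :=
      P.presheaf.mapIso (eqToIso e1).op ≪≫ c.appIso ⊤ ≪≫ Scheme.ΓSpecIso _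
    exact IsIntegrallyClosed.of_equiv e.commRingCatIsoToRingEquiv.symm
  haveI : IsIso (ν ∣_ Wd.1) := ModifLib.isIso_normalizationι_restrict P Wd hWdc
  let z : (ν ⁻¹ᵁ Wd.1 : Scheme.{u}) := inv (ν ∣_ Wd.1) ⟨c p, p, rfl⟩
  have hz : ν z.1 = c p := by
    have h1 : (ν ∣_ Wd.1) z = ⟨c p, p, rfl⟩ := by
      simp only [z, ← Scheme.Hom.comp_apply, IsIso.inv_hom_id]
      rfl
    exact (morphismRestrict_base_coe ν Wd.1 z).symm.trans (congrArg Subtype.val h1)
  refine ⟨Curv2.normalization P, inferInstance, ν ≫ b, hMod, LocFFLib.normalization_isNormal P, z.1, ⟨?_⟩⟩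
  let e1 := RingEquiv.ofBijective _ (PtBlowLib.bijective_stalkMap_of_isIso ν Wd.1 z.1 z.2)
  let e2 : P.presheaf.stalk (ν z.1) ≅ (Spec (CommRingCat.of (BlowUp.affineAlgebra A I d))).presheaf.stalk p :=
    P.presheaf.stalkCongr (Inseparable.of_eq hz) ≪≫ asIso (c.stalkMap p)
  let e3 := StructureSheaf.stalkIso (BlowUp.affineAlgebra A I d) p
  exact e1.symm.trans (e2.commRingCatIsoToRingEquiv.trans (e3.symm.toRingEquiv.trans ep))

end RatModLib

end
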