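import Mathlib
import Groth.Agent.RatModLib.Regularize
import Groth.Agent.NormBlowLib.Main

/-! Sequences of normalized blowing ups are birational. -/

set_option autoImplicit false
set_option linter.style.haveILetI false
set_option backward.isDefEq.respectTransparency false
set_option backward.isDefEq.respectTransparency.types false
universe u

open CategoryTheory CategoryTheory.Limits AlgebraicGeometry TopologicalSpace

namespace RatModLib

theorem bir_comp {A B C : Scheme.{u}} [IsIntegral A] [IsIntegral B] [IsIntegral C] {f : A ⟶ B} {g : B ⟶ C}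
    (hf : f (genericPoint A) = genericPoint B ∧ IsIso (f.stalkMap (genericPoint A)))
    (hg : g (genericPoint B) = genericPoint C ∧ IsIso (g.stalkMap (genericPoint B))) :
    (f ≫ g) (genericPoint A) = genericPoint C ∧ IsIso ((f ≫ g).stalkMap (genericPoint A)) := by
  refine ⟨?_, ?_⟩
  · show g (f (genericPoint A)) = _
    rw [hf.1]; exact hg.1
  · haveI := hf.2
    have key : ∀ z : B, z = genericPoint B → IsIso (g.stalkMap z) := by
      rintro z rfl; exact hg.2
    haveI := key _ hf.1
    rw [Scheme.Hom.stalkMap_comp]
    infer_instance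

theorem isIso_stalk_generic {A B : Scheme.{u}} [IsIntegral A] [IsIntegral B] (f : A ⟶ B) (U : B.Opens)
    (hU : (U : Set B).Nonempty) [IsIso (f ∣_ U)] :
    f (genericPoint A) = genericPoint B ∧ IsIso (f.stalkMap (genericPoint A)) :=
  ⟨ModifLib.map_genericPoint f hU, ModifLib.isIso_stalkMap_genericPoint f hU⟩

/-- A normalized blow-up sequence is birational. -/
theorem bir_of_normPtBlowupSeq {Y X : Scheme.{u}} (g : Y ⟶ X) (h : Resolve.IsNormPtBlowupSeq g) :
    ∀ [IsIntegral X], ∃ (_ : IsIntegral Y),
      g (genericPoint Y) = genericPoint X ∧ IsIso (g.stalkMap (genericPoint Y)) := by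
  induction h with
  | @iso Y X e =>
    intro hX
    haveI : Nonempty Y := ⟨e.inv (genericPoint X)⟩
    haveI hY : IsIntegral Y := isIntegral_of_isOpenImmersion e.hom
    exact ⟨hY, genericPoint_eq_of_isOpenImmersion e.hom, inferInstance⟩
  | @step Z' Z X _ _ _ b r z hz hb hr ih =>
    intro hX
    obtain ⟨hZi, hZb⟩ := ih
    haveI := hZi
    refine ⟨inferInstance, ?_⟩
    have hbir : b (genericPoint Z') = genericPoint Z ∧ IsIso (b.stalkMap (genericPoint Z')) := by
      let I := Scheme.IdealSheafData.vanishingIdeal (⟨{z}, hz⟩ : Closeds Z)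
      have hzne : genericPoint Z ≠ z := fun h => by
        have hmem : genericPoint Z' ∈ ((I.comap b).support : Set Z') := by
          rw [Scheme.IdealSheafData.support_comap]
          show b (genericPoint Z') ∈ (I.support : Set Z)
          rw [Scheme.IdealSheafData.coe_support_vanishingIdeal]
          have hsp : genericPoint Z ⤳ b (genericPoint Z') := genericPoint_specializes _
          exact hsp.mem_closed hz h
        obtain ⟨t, ht, hts⟩ := SDivLib.exists_gen hb.1 (genericPoint Z')
        refine (SDivLib.mem_support_iff_stalk (I.comap b) _).1 hmem ?_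
        rw [hts, Ideal.span_singleton_eq_top]
        exact (IsLocalRing.notMem_maximalIdeal (R := Z'.functionField)).1 (by
          rw [IsLocalRing.maximalIdeal_eq_bot (R := Z'.functionField), Ideal.mem_bot]
          exact nonZeroDivisors.ne_zero ht)
      haveI := EffCartLib.isIso_off_center I b hb ⟨({z} : Set Z)ᶜ, hz.isOpen_compl⟩ fun y hy hy' => by
        rw [Scheme.IdealSheafData.coe_support_vanishingIdeal] at hy'
        exact hy hy'
      exact isIso_stalk_generic b ⟨({z} : Set Z)ᶜ, hz.isOpen_compl⟩ ⟨genericPoint Z, hzne⟩
    exact bir_comp (LocFFLib.normalization_bir Z') (bir_comp hbir hZb)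

end RatModLib
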